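import Cfsg.Agent.H65.CIT.CN
import Cfsg.Agent.Cores.GlaubermanZStar
import Cfsg.Agent.S0205
import Cfsg.Agent.S0338
import Cfsg.Agent.Coprime.Generation
import Cfsg.Agent.H65.SelfCent.Basic

/-!
# Non-solvable CN-groups

In a non-solvable CN-group the centralisers of involutions are 2-groups and there is no normal subgroup of odd
order; a frame in such a group makes it simple.
-/

set_option autoImplicit false
set_option linter.unusedSectionVars false
set_option linter.style.haveILetI false
set_option linter.dupNamespace false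

namespace Cfsg.Agent.H65.CIT

open Subgroup

universe u

variable {G : Type u} [Group G] [Finite G]

/-- An element commuting with every element of the coset of its conjugates: if all conjugates of the involution `z`
of `S` in `S` are `z`, the group is a product of its odd core and the centraliser of `z`. -/
theorem solvable_of_isolated (S : Sylow 2 G) {z : G} (hz : orderOf z = 2) (hzS : z ∈ (S : Subgroup G))
    (hiso : ∀ g : G, g * z * g⁻¹ ∈ (S : Subgroup G) → g * z * g⁻¹ = z)
    (hC : Group.IsSolvable ↥(centralizer ({z} : Set G))) : Group.IsSolvable G := by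
  classical
  haveI : Fact (Nat.Prime 2) := ⟨Nat.prime_two⟩
  haveI : (Cfsg.oddCore G).Characteristic := Cores.pPrimeCore_characteristic
  set K := Cfsg.oddCore G with hK
  have hKodd : Odd (Nat.card ↥K) := Cores.odd_card_oddCore
  have hZ := Cores.glaubermanZStar S hz hzS hiso
  haveI : Group.IsSolvable ↥K := S0205.result hKodd
  haveI := hC
  have hzi := H65.inv_eq_self hz
  set X := zpowers z ⊔ K with hX
  have hnot : z ∉ K := fun h => by
    have h1 := hKodd.of_dvd_nat (Subgroup.orderOf_dvd_natCard K h)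
    rw [hz] at h1
    exact absurd h1 (by decide)
  have hcard : Nat.card ↥X ∣ 2 * Nat.card ↥K := by
    have h1 := Cores.card_sup_dvd (zpowers z) K
    rwa [Nat.card_zpowers, hz] at h1
  have hsyl : ∀ w : G, orderOf w = 2 → w ∈ X → IsSyl X (zpowers w) := by
    intro w hw hwX
    refine ⟨zpowers_le.2 hwX, IsPGroup.of_card (n := 1) (by rw [Nat.card_zpowers, hw, pow_one]),
      fun U hUX hU hle => (Subgroup.eq_of_le_of_card_ge hle ?_).symm⟩
    obtain ⟨k, hk⟩ := IsPGroup.iff_card.1 hU
    have h2 : Nat.card ↥U ∣ 2 := by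
      have h3 := (Subgroup.card_dvd_of_le hUX).trans hcard
      rw [hk] at h3 ⊢
      exact ((Nat.coprime_two_left.2 hKodd).pow_left k).dvd_of_dvd_mul_right h3
    rw [Nat.card_zpowers, hw]
    exact Nat.le_of_dvd (by norm_num) h2
  have hsurj : Function.Surjective ((QuotientGroup.mk' K).comp (centralizer ({z} : Set G)).subtype) := by
    intro q
    obtain ⟨g, rfl⟩ := QuotientGroup.mk'_surjective K q
    have hg2 : orderOf (g * z * g⁻¹) = 2 := (H65.orderOf_conj' g z).trans hz
    have hgX : g * z * g⁻¹ ∈ X := by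
      have h1 : z * (z * g * z⁻¹ * g⁻¹) = g * z * g⁻¹ := by
        rw [hzi, ← mul_assoc, ← mul_assoc, ← mul_assoc, H65.mul_self_eq_one hz, one_mul]
      rw [← h1]
      exact X.mul_mem (mem_sup_left (mem_zpowers z)) (mem_sup_right (hZ g))
    obtain ⟨x, hx, hxe⟩ := (hsyl z hz (mem_sup_left (mem_zpowers z))).exists_conj (hsyl _ hg2 hgX)
    have hxz : x * z * x⁻¹ = g * z * g⁻¹ := by
      obtain ⟨i, hi⟩ := mem_zpowers_iff.1 (hxe ▸ conj_mem_cj (mem_zpowers z) : x * z * x⁻¹ ∈ zpowers (g * z * g⁻¹))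
      have hne : x * z * x⁻¹ ≠ 1 := fun e => H65.ne_one_of_orderOf hz (conj_eq_one_iff.1 e)
      rcases Int.even_or_odd i with ⟨l, rfl⟩ | ⟨l, rfl⟩
      · exfalso
        rw [zpow_add, ← (Commute.refl (g * z * g⁻¹)).mul_zpow, H65.mul_self_eq_one hg2, one_zpow] at hi
        exact hne hi.symm
      · rw [zpow_add, zpow_mul, zpow_two, H65.mul_self_eq_one hg2, one_zpow, one_mul, zpow_one] at hi
        exact hi.symm
    have hc : x⁻¹ * g ∈ centralizer ({z} : Set G) := by
      refine mem_cent.2 (mul_inv_eq_iff_eq_mul.1 ?_)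
      calc x⁻¹ * g * z * (x⁻¹ * g)⁻¹ = x⁻¹ * (g * z * g⁻¹) * x := by group
        _ = z := by rw [← hxz]; group
    rw [hX, ← SetLike.mem_coe, Subgroup.coe_mul_of_left_le_normalizer_right _ _
      (by rw [Subgroup.normalizer_eq_top]; exact le_top)] at hx
    obtain ⟨a, ha, b, hb, rfl⟩ := hx
    have haC : a ∈ centralizer ({z} : Set G) := by
      obtain ⟨i, rfl⟩ := mem_zpowers_iff.1 ha
      exact mem_cent.2 ((Commute.refl z).zpow_left i)
    refine ⟨⟨a * ((a * b)⁻¹ * g), mul_mem haC hc⟩, ?_⟩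
    show (QuotientGroup.mk (a * ((a * b)⁻¹ * g)) : G ⧸ K) = QuotientGroup.mk g
    rw [QuotientGroup.eq, show (a * ((a * b)⁻¹ * g))⁻¹ * g = g⁻¹ * (a * b * a⁻¹) * g by group]
    have := (inferInstance : K.Normal).conj_mem _ ((inferInstance : K.Normal).conj_mem b hb a) g⁻¹
    rwa [inv_inv] at this
  haveI : Group.IsSolvable (G ⧸ K) := Group.isSolvable_of_surjective hsurj
  exact (Group.isSolvable_iff_subgroup_quotient K).2 ⟨inferInstance, inferInstance⟩

/-- A non-solvable CN-group has even order and its involution centralisers are 2-groups. -/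
theorem cit_of_cn_nonsolvable (hns : ¬ Group.IsSolvable G)
    (hCN : ∀ g : G, g ≠ 1 → Group.IsNilpotent (centralizer ({g} : Set G))) : CIT G := by
  classical
  haveI : Fact (Nat.Prime 2) := ⟨Nat.prime_two⟩
  intro t ht
  by_contra hnot
  obtain ⟨x, hxt, hx1, hxo⟩ : ∃ x, Commute x t ∧ x ≠ 1 ∧ Odd (orderOf x) := by
    by_contra hcon
    push Not at hcon
    refine hnot fun y => ?_
    obtain ⟨a, b, hab, -, hb, ⟨k, hk⟩, hbo⟩ := exists_two_split (y : G)
    obtain ⟨i, hi⟩ := mem_zpowers_iff.1 hb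
    have hbt : Commute b t := hi ▸ (mem_cent.1 y.2).zpow_left i
    have hb1 : b = 1 := by
      by_contra h
      exact hcon b hbt h hbo
    exact ⟨k, Subtype.ext (by
      show (y : G) ^ (2 ^ k) = 1
      rw [hab, hb1, mul_one, hk])⟩
  obtain ⟨S, hS⟩ := (isPGroup_zpowers (x := t) (k := 1)
    (by rw [pow_one, ← ht]; exact pow_orderOf_eq_one t)).exists_le_sylow
  have htS : t ∈ (S : Subgroup G) := hS (mem_zpowers t)
  haveI : Nontrivial ↥(S : Subgroup G) :=
    ⟨⟨⟨t, htS⟩, 1, fun e => H65.ne_one_of_orderOf ht (congrArg Subtype.val e)⟩⟩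
  obtain ⟨z₀, -, hzc, hz₀⟩ := PGroups.exists_mem_center_orderOf_eq S.2
    (⊤ : Subgroup ↥(S : Subgroup G)) top_ne_bot
  set z : G := (z₀ : G) with hz
  have hz2 : orderOf z = 2 := by rw [hz, Subgroup.orderOf_coe, hz₀]
  have hz1 := H65.ne_one_of_orderOf hz2
  have hzk : z ^ (2 ^ 1) = 1 := by rw [pow_one, ← hz2]; exact pow_orderOf_eq_one z
  have hSz : ∀ s ∈ (S : Subgroup G), Commute s z := fun s hs =>
    congrArg Subtype.val (mem_center_iff.mp hzc ⟨s, hs⟩)
  have hcop : ∀ g : G, g ≠ 1 → ∀ {a b : G} {k : ℕ}, Commute a g → Commute b g → a ^ (2 ^ k) = 1 →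
      Odd (orderOf b) → Commute a b := fun g hg a b k ha hb hk ho =>
    H41.commute_of_coprime_of_isNilpotent (hCN g hg) (mem_cent.2 ha) (mem_cent.2 hb)
      (coprime_two_odd hk ho)
  have hzx : Commute z x := hcop t (H65.ne_one_of_orderOf ht) (hSz t htS).symm hxt hzk hxo
  set M := centralizer ({z} : Set G) with hM
  haveI hMnil : Group.IsNilpotent ↥M := hCN z hz1
  have hSM : (S : Subgroup G) ≤ M := fun s hs => mem_cent.2 (hSz s hs)
  have hMS : ∀ y ∈ M, ∀ k : ℕ, y ^ (2 ^ k) = 1 → y ∈ (S : Subgroup G) := fun y hy k hk =>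
    mem_sylow_of_nilpotent hMnil S hSM hy hk
  have hSx : ∀ s ∈ (S : Subgroup G), Commute s x := fun s hs => by
    obtain ⟨k, hk⟩ := pow_two_of_mem S.2 hs
    exact hcop z hz1 (hSz s hs) hzx.symm hk hxo
  have hcc : ∀ a ∈ M, a ≠ 1 → centralizer ({a} : Set G) ≤ M := by
    have key : ∀ a ∈ M, a ≠ 1 → ((∃ k : ℕ, a ^ (2 ^ k) = 1) ∨ Odd (orderOf a)) →
        centralizer ({a} : Set G) ≤ M := by
      intro a haM ha1 hcase y hy
      obtain ⟨y₂, y', hyy, hy₂, hy', ⟨k, hk⟩, hy'o⟩ := exists_two_split y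
      have hy₂a : Commute y₂ a := by
        obtain ⟨i, rfl⟩ := mem_zpowers_iff.1 hy₂
        exact (mem_cent.1 hy).zpow_left i
      have hy'a : Commute y' a := by
        obtain ⟨i, rfl⟩ := mem_zpowers_iff.1 hy'
        exact (mem_cent.1 hy).zpow_left i
      have haz : Commute a z := mem_cent.1 haM
      have hy'z : Commute z y' := hcop a ha1 haz.symm hy'a hzk hy'o
      have hy₂S : y₂ ∈ (S : Subgroup G) := by
        rcases hcase with ⟨i, hi⟩ | hao
        · have hax : Commute a x := hcop z hz1 haz hzx.symm hi hxo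
          have hy₂x : Commute y₂ x := hcop a ha1 hy₂a hax.symm hk hxo
          exact mem_sylow_of_nilpotent (hCN x hx1) S (fun s hs => mem_cent.2 (hSx s hs))
            (mem_cent.2 hy₂x) hk
        · refine mem_sylow_of_nilpotent (hCN a ha1) S (fun s hs => mem_cent.2 ?_) (mem_cent.2 hy₂a) hk
          obtain ⟨i, hi⟩ := pow_two_of_mem S.2 hs
          exact hcop z hz1 (hSz s hs) haz hi hao
      rw [hyy]
      exact M.mul_mem (hSM hy₂S) (mem_cent.2 hy'z.symm)
    intro a haM ha1
    obtain ⟨a₂, a', haa, ha₂, ha', hk, ha'o⟩ := exists_two_split a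
    have hpow : ∀ b ∈ zpowers a, centralizer ({a} : Set G) ≤ centralizer ({b} : Set G) := by
      intro b hb y hy
      obtain ⟨i, rfl⟩ := mem_zpowers_iff.1 hb
      exact mem_cent.2 ((mem_cent.1 hy).zpow_right i)
    by_cases h : a₂ = 1
    · have : a = a' := by rw [haa, h, one_mul]
      exact key a haM ha1 (Or.inr (this ▸ ha'o))
    · exact (hpow _ ha₂).trans (key a₂ (zpowers_le.2 haM ha₂) h (Or.inl hk))
  have hnM : ∀ g : G, ∀ m ∈ M, m ≠ 1 → g * m * g⁻¹ ∈ M → g ∈ normalizer (M : Set G) := by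
    intro g m hm hm1 hg
    refine mem_normalizer_of_cj ?_
    have hgm : g * m * g⁻¹ ≠ 1 := fun e => hm1 (conj_eq_one_iff.1 e)
    have hzg : g * z * g⁻¹ ∈ M := hcc _ hg hgm (mem_cent.2 ((mem_cent.1 hm).symm.map
      (MulAut.conj g).toMonoidHom))
    have hzg1 : g * z * g⁻¹ ≠ 1 := fun e => hz1 (conj_eq_one_iff.1 e)
    refine Subgroup.eq_of_le_of_card_ge ?_ (card_cj g M).ge
    rintro _ ⟨y, hy, rfl⟩
    exact hcc _ hzg hzg1 (mem_cent.2 ((mem_cent.1 hy).map (MulAut.conj g).toMonoidHom))
  -- `M` is not normal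
  have hMn : normalizer (M : Set G) ≠ ⊤ := by
    intro h
    haveI := Subgroup.normalizer_eq_top_iff.1 h
    refine hns ((Group.isSolvable_iff_subgroup_quotient M).2 ⟨inferInstance, S0205.result ?_⟩)
    rw [← Subgroup.index_eq_card, ← Nat.not_even_iff_odd]
    intro he
    have h1 := Subgroup.index_dvd_of_le hSM
    exact S.not_dvd_index ((even_iff_two_dvd.1 he).trans h1)
  -- two commuting involutions
  obtain ⟨u, huS, hu, huz⟩ : ∃ u ∈ (S : Subgroup G), orderOf u = 2 ∧ u ≠ z := by
    by_contra hcon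
    push Not at hcon
    exact hns (solvable_of_isolated S hz2 z₀.2
      (fun g hg => hcon _ hg ((H65.orderOf_conj' g z).trans hz2)) inferInstance)
  let F : Frame G :=
    { z := z
      hz := hz2
      hS := ⟨S, hSM⟩
      cc := hcc
      ti := fun m hm hm1 g hg => hnM g m hm hm1 hg
      not_normal := hMn
      invol_le := by
        intro v hv hvN
        have hvS : v ∈ normalizer ((S : Subgroup G) : Set G) := by
          refine mem_normalizer_of_cj (Subgroup.eq_of_le_of_card_ge ?_ (card_cj v _).ge)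
          rintro _ ⟨s, hs, rfl⟩
          obtain ⟨k, hk⟩ := pow_two_of_mem S.2 hs
          refine hMS _ (inv_mem_of_conj_mem hvN (hSM hs)) k ?_
          show (v * s * v⁻¹) ^ (2 ^ k) = 1
          rw [conj_pow, hk, mul_one, mul_inv_cancel]
        have hp : IsPGroup 2 ↥(zpowers v) :=
          IsPGroup.of_card (n := 1) (by rw [Nat.card_zpowers, hv, pow_one])
        exact hSM (hp.inf_normalizer_sylow S ▸ (Subgroup.mem_inf.2 ⟨mem_zpowers v, hvS⟩) :
          v ∈ zpowers v ⊓ (S : Subgroup G)).2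
      odd_core := by
        intro K hK hKodd
        -- a four group makes `K` lie in `M`
        by_contra hne
        obtain ⟨k₀, hk₀, hk₀1⟩ := K.bot_or_exists_ne_one.resolve_left hne
        set A := zpowers u ⊔ zpowers z with hA
        have hAM : A ≤ M := sup_le (zpowers_le.2 (hSM huS)) (zpowers_le.2 (mem_cent.2 (Commute.refl z)))
        have hAS : A ≤ (S : Subgroup G) := sup_le (zpowers_le.2 huS) (zpowers_le.2 z₀.2)
        haveI : IsMulCommutative ↥A := by
          refine ⟨⟨fun x y => Subtype.ext ?_⟩⟩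
          have h1 : A ≤ centralizer ({u} : Set G) := sup_le
            (zpowers_le.2 (mem_cent.2 (Commute.refl u))) (zpowers_le.2 (mem_cent.2 (hSz u huS).symm))
          have h2 : A ≤ centralizer ({z} : Set G) := sup_le
            (zpowers_le.2 (mem_cent.2 (hSz u huS))) (zpowers_le.2 (mem_cent.2 (Commute.refl z)))
          have hx : A ≤ centralizer ({(x : G)} : Set G) := sup_le
            (zpowers_le.2 (mem_cent.2 (mem_cent.1 (h1 x.2)).symm))
            (zpowers_le.2 (mem_cent.2 (mem_cent.1 (h2 x.2)).symm))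
          exact (mem_cent.1 (hx y.2)).symm.eq
        have hle : K ≤ M := Coprime.le_of_centralizer_noncyclic_le (A := A)
          (SelfCent.not_isCyclic_of_invols (mem_sup_left (mem_zpowers u)) (mem_sup_right (mem_zpowers z))
            hu hz2 huz) (fun a _ => by rw [Subgroup.normalizer_eq_top]; exact mem_top a)
          (by
            obtain ⟨k, hk⟩ := IsPGroup.iff_card.1 (S.2.to_le hAS)
            rw [hk]
            exact (Nat.coprime_two_left.2 hKodd).pow_left k)
          fun a ha ha1 => inf_le_right.trans (hcc a (hAM ha) ha1)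
        refine hMn (top_le_iff.1 fun g _ => hnM g k₀ (hle hk₀) hk₀1 (hle (hK.conj_mem _ hk₀ g))) }
  haveI : IsSimpleGroup G := by
    classical
    obtain ⟨hZ, -⟩ := F.zassenhaus
    haveI := Fintype.ofFinite (G ⧸ F.N)
    refine S0338.result hZ ?_
    rw [← Nat.card_eq_fintype_card]
    rw [F.card_points]
    exact (even_iff_two_dvd.2 (F.hz ▸ Subgroup.orderOf_dvd_natCard F.M F.z_mem)).add_one
  exact hx1 (eq_one_of_mem_two F.isPGroup_M (mem_cent.2 hzx.symm) hxo)

end Cfsg.Agent.H65.CIT
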