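import Cfsg.Agent.H65.CIT.Base
import Cfsg.Agent.H65.SelfCent.Direct

/-!
# The case `q = 2`

The four group `P₁` is self-centralising, so the Sylow 2-subgroups are dihedral, the centraliser of an involution
is one of them and the group is `PSL(2, q)`.
-/

set_option autoImplicit false
set_option linter.unusedSectionVars false
set_option linter.style.haveILetI false
set_option linter.dupNamespace false

namespace Cfsg.Agent.H65.CIT

open Subgroup

universe u

variable {G : Type u} [Group G] [Finite G]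

/-- A simple group with an amalgam with `q = 2` is `PSL(2, q)`. -/
theorem Amalgam.psl_two [IsSimpleGroup G] (hna : ¬ IsMulCommutative G) (hL : Loc G) (A : Amalgam G)
    (hq : A.q = 2) :
    ∃ (F : Type) (_ : Field F) (_ : Fintype F),
      (Fintype.card F = 4 ∨ Fintype.card F = 9 ∨ ((Fintype.card F).Prime ∧
        ∃ k : ℕ, Fintype.card F = 2 ^ k + 1 ∨ Fintype.card F = 2 ^ k - 1)) ∧
      Nonempty (G ≃* Matrix.ProjectiveSpecialLinearGroup (Fin 2) F) := by
  classical
  haveI : Fact (Nat.Prime 2) := ⟨Nat.prime_two⟩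
  obtain ⟨S, hS⟩ := A.hT₁.2.1.exists_le_sylow
  obtain ⟨n, hn⟩ := IsPGroup.iff_card.mp S.2
  have hPS : A.P₁ ≤ (S : Subgroup G) := A.le₁.trans hS
  have hc4 : Nat.card ↥A.P₁ = 4 := by rw [A.cardP₁, hq]; norm_num
  haveI : Nontrivial ↥(S : Subgroup G) := Finite.one_lt_card_iff_nontrivial.mp (by
    have := Subgroup.card_le_of_le hPS
    omega)
  obtain ⟨z₀, -, hzc, hz₀⟩ := PGroups.exists_mem_center_orderOf_eq S.2
    (⊤ : Subgroup ↥(S : Subgroup G)) top_ne_bot
  have hz : orderOf (z₀ : G) = 2 := by rw [Subgroup.orderOf_coe, hz₀]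
  have hcz : ∀ s ∈ (S : Subgroup G), Commute s (z₀ : G) := fun s hs =>
    congrArg Subtype.val (mem_center_iff.mp hzc ⟨s, hs⟩)
  have hzP : (z₀ : G) ∈ A.P₁ := hL.cent_le A.h₁ fun p hp => (hcz p (hPS hp)).symm
  obtain ⟨u, huP, hu1, huz⟩ : ∃ u ∈ A.P₁, u ≠ 1 ∧ u ≠ (z₀ : G) := by
    by_contra hcon
    push Not at hcon
    have hsub : (A.P₁ : Set G) ⊆ {1, (z₀ : G)} := fun y hy => by
      by_cases h : y = 1
      · exact Or.inl h
      · exact Or.inr (hcon y hy h)
    have h := (Set.ncard_le_ncard hsub).trans (Set.ncard_insert_le _ _)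
    rw [Set.ncard_singleton, ← Nat.card_coe_set_eq] at h
    simp only [SetLike.coe_sort_coe] at h
    omega
  have huo : orderOf u = 2 := orderOf_eq_prime (by rw [pow_two]; exact A.ex₁ u huP) hu1
  -- `P₁` consists of `1`, `z`, `u` and `u z`
  have hP4 : ∀ y ∈ A.P₁, y = 1 ∨ y = (z₀ : G) ∨ y = u ∨ y = u * z₀ := by
    have hz1 := H65.ne_one_of_orderOf hz
    have huz1 : u * (z₀ : G) ≠ 1 := fun e => huz
      ((eq_inv_of_mul_eq_one_left e).trans (H65.inv_eq_self hz))
    have hsub : ({1, (z₀ : G), u, u * (z₀ : G)} : Set G) ⊆ (A.P₁ : Set G) := by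
      rintro y (rfl | rfl | rfl | rfl)
      exacts [A.P₁.one_mem, hzP, huP, A.P₁.mul_mem huP hzP]
    have hcard : ({1, (z₀ : G), u, u * (z₀ : G)} : Set G).ncard = 4 := by
      rw [Set.ncard_eq_four]
      exact ⟨1, (z₀ : G), u, u * (z₀ : G), hz1.symm, hu1.symm, huz1.symm, huz.symm,
        fun e => hu1 (mul_right_cancel (e.symm.trans (one_mul (z₀ : G)).symm)),
        fun e => hz1 (mul_left_cancel (e.symm.trans (mul_one u).symm)), rfl⟩
    have heq : ({1, (z₀ : G), u, u * (z₀ : G)} : Set G) = (A.P₁ : Set G) :=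
      Set.eq_of_subset_of_ncard_le hsub (by
        rw [hcard, ← Nat.card_coe_set_eq]
        exact le_of_eq hc4)
    intro y hy
    exact (heq ▸ hy : y ∈ ({1, (z₀ : G), u, u * (z₀ : G)} : Set G))
  obtain ⟨S', n', a, z, h1, h2, h3, h4, h5, h6⟩ := SelfCent.exists_dihedral_of hna S hn z₀ ⟨u, hPS huP⟩
    hzc hz₀ (by rw [← Subgroup.orderOf_coe]; exact huo) (fun e => huz (congrArg Subtype.val e))
    (fun c hc => by
      have hcu : Commute (c : G) u := congrArg Subtype.val hc.eq
      have hcmem : (c : G) ∈ A.P₁ := hL.cent_le A.h₁ fun p hp => by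
        rcases hP4 p hp with rfl | rfl | rfl | rfl
        exacts [Commute.one_right _, hcz c c.2, hcu, hcu.mul_right (hcz c c.2)]
      rcases hP4 _ hcmem with h | h | h | h
      · exact Or.inl (Subtype.ext h)
      · exact Or.inr (Or.inl (Subtype.ext h))
      · exact Or.inr (Or.inr (Or.inl (Subtype.ext h)))
      · exact Or.inr (Or.inr (Or.inr (Subtype.ext h))))
    fun c _ _ => S.3 (hL.cit _ hz) fun s hs => mem_cent.2 (hcz s hs)
  exact SelfCent.psl_of_dihedral S' h1 h2 h3 h4 h5 h6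

end Cfsg.Agent.H65.CIT
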