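import Cfsg.Agent.H65.CIT.Incidence
import Cfsg.Agent.Golay.PlaneGroup

/-!
# The case `q = 4`: the projective plane of order four

Counting the images of a point under the involutions shows that there are 21 points and that any two of them are
collinear, so the group acts on a plane of order four and is `PSL(3, 4)`.
-/

set_option autoImplicit false
set_option linter.unusedSectionVars false
set_option linter.style.haveILetI false
set_option linter.dupNamespace false

namespace Cfsg.Agent.H65.CIT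

open Subgroup

universe u v

theorem card_sigma_const {α : Type u} {β : α → Type v} [Finite α] [∀ a, Finite (β a)] {c : ℕ}
    (h : ∀ a, Nat.card (β a) = c) : Nat.card (Σ a, β a) = Nat.card α * c := by
  haveI := Fintype.ofFinite α
  rw [Nat.card_sigma, Finset.sum_congr rfl fun a _ => h a, Finset.sum_const, Finset.card_univ,
    Nat.card_eq_fintype_card, smul_eq_mul]

variable {G : Type u} [Group G] [Finite G]

namespace Amalgam

variable (A : Amalgam G) (hL : Loc G) (hS : ∀ U : Subgroup G, IsPGroup 2 ↥U → A.T ≤ U → U = A.T)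

omit [Finite G] in
/-- The number of nonidentity elements. -/
theorem card_ne_one {P : Subgroup G} [Finite ↥P] :
    Nat.card {u : G // u ∈ P ∧ u ≠ 1} + 1 = Nat.card ↥P := by
  classical
  haveI := Fintype.ofFinite ↥P
  let e : {u : G // u ∈ P ∧ u ≠ 1} ≃ {y : ↥P // y ≠ 1} :=
    { toFun := fun u => ⟨⟨u.1, u.2.1⟩, fun e => u.2.2 (congrArg Subtype.val e)⟩
      invFun := fun y => ⟨y.1.1, y.1.2, fun e => y.2 (Subtype.ext e)⟩
      left_inv := fun _ => rfl
      right_inv := fun _ => rfl }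
  rw [Nat.card_congr e, Nat.card_eq_fintype_card, Fintype.card_subtype_compl, Fintype.card_subtype_eq,
    Nat.card_eq_fintype_card]
  have : 0 < Fintype.card ↥P := Fintype.card_pos
  omega

theorem card_pts : Nat.card {P : Subgroup G // A.IsPt P} = A.X₁.index := by
  let f : G ⧸ A.X₁ → {P : Subgroup G // A.IsPt P} := fun c => ⟨cj c.out A.P₁, c.out, rfl⟩
  refine (Nat.card_congr (Equiv.ofBijective f ⟨?_, ?_⟩)).symm
  · intro a b h
    have h1 : cj a.out A.P₁ = cj b.out A.P₁ := congrArg Subtype.val h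
    rw [← QuotientGroup.out_eq' a, ← QuotientGroup.out_eq' b, QuotientGroup.eq]
    exact A.h₁.norm.le (mem_normalizer_of_cj (by rw [cj_mul, ← h1, cj_inv]))
  · rintro ⟨_, g, rfl⟩
    refine ⟨QuotientGroup.mk g, Subtype.ext ?_⟩
    obtain ⟨y, hy⟩ := QuotientGroup.mk_out_eq_mul A.X₁ g
    show cj (QuotientGroup.mk g : G ⧸ A.X₁).out A.P₁ = cj g A.P₁
    rw [hy, cj_mul, cj_eq_of_mem (A.h₁.le_norm y.2)]

theorem card_pt {P : Subgroup G} (h : A.IsPt P) : Nat.card ↥P = A.q ^ 2 := by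
  obtain ⟨g, rfl⟩ := h
  rw [card_cj, A.cardP₁]

theorem ex_pt {P : Subgroup G} (h : A.IsPt P) : Ex2 P := by
  obtain ⟨g, rfl⟩ := h
  exact A.ex₁.map g

omit [Finite G] in
theorem isPt_map {P : Subgroup G} (h : A.IsPt P) (u : G) : A.IsPt (cj u P) := by
  obtain ⟨g, rfl⟩ := h
  exact ⟨u * g, (cj_mul u g _).symm⟩

include hL hS in
/-- Every involution lies in exactly one of the points as its own. -/
theorem card_invols :
    Nat.card {u : G // orderOf u = 2} = A.X₁.index * (A.q ^ 2 - 1) := by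
  let f : (Σ P : {P : Subgroup G // A.IsPt P}, {u : G // u ∈ P.1 ∧ u ≠ 1}) → {u : G // orderOf u = 2} :=
    fun x => ⟨x.2.1, orderOf_eq_prime (by rw [pow_two]; exact A.ex_pt x.1.2 _ x.2.2.1) x.2.2.2⟩
  have hf : Function.Bijective f := by
    refine ⟨?_, ?_⟩
    · rintro ⟨⟨P, hP⟩, u, hu, hu1⟩ ⟨⟨P', hP'⟩, u', hu', hu1'⟩ h
      have huu : u = u' := congrArg Subtype.val h
      subst huu
      obtain ⟨L, hown⟩ := A.mem_point hL hP hu
      obtain ⟨L', hown'⟩ := A.mem_point hL hP' hu'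
      obtain rfl : P = P' := (A.own_unique hL hS hu1 hown hown').1
      rfl
    · rintro ⟨u, hu⟩
      obtain ⟨P, L, hown⟩ := A.exists_own hL hS hu
      exact ⟨⟨⟨P, A.inc_isPt (A.own_inc hown)⟩, u, (A.own_mem hown).1, H65.ne_one_of_orderOf hu⟩, rfl⟩
  rw [← Nat.card_congr (Equiv.ofBijective f hf), card_sigma_const (c := A.q ^ 2 - 1) fun P => ?_,
    A.card_pts]
  have h1 := card_ne_one (P := P.1)
  rw [A.card_pt P.2] at h1
  omega

include hL hS in
/-- The points of a line. -/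
theorem card_on_line {P L : Subgroup G} (h : A.Inc P L) :
    Nat.card {Q : Subgroup G // A.Inc Q L} = A.q + 1 := by
  refine Eq.trans ?_ (A.swap.card_lines hL hS (A.swap.inc_isPt (A.inc_swap.2 h)))
  exact Nat.card_congr (Equiv.subtypeEquivRight fun Q => A.inc_swap.symm)

include hL hS in
/-- The other points collinear with a point. -/
theorem card_col {P : Subgroup G} (hP : A.IsPt P) :
    Nat.card {Q : Subgroup G // Q ≠ P ∧ ∃ L, A.Inc P L ∧ A.Inc Q L} = (A.q + 1) * A.q := by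
  classical
  let f : (Σ L : {L : Subgroup G // A.Inc P L}, {Q : Subgroup G // A.Inc Q L.1 ∧ Q ≠ P}) →
      {Q : Subgroup G // Q ≠ P ∧ ∃ L, A.Inc P L ∧ A.Inc Q L} :=
    fun x => ⟨x.2.1, x.2.2.2, x.1.1, x.1.2, x.2.2.1⟩
  have hf : Function.Bijective f := by
    refine ⟨?_, ?_⟩
    · rintro ⟨⟨L, hPL⟩, Q, hQL, hQ⟩ ⟨⟨L', hPL'⟩, Q', hQL', hQ'⟩ h
      have hQQ : Q = Q' := congrArg Subtype.val h
      subst hQQ
      obtain rfl : L = L' := by_contra fun hne => hQ (A.inc_unique hL hS hQL hQL' hPL hPL' hne)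
      rfl
    · rintro ⟨Q, hQ, L, hPL, hQL⟩
      exact ⟨⟨⟨L, hPL⟩, Q, hQL, hQ⟩, rfl⟩
  rw [← Nat.card_congr (Equiv.ofBijective f hf), card_sigma_const (c := A.q) fun L => ?_,
    A.card_lines hL hS hP]
  have h1 := A.card_on_line hL hS L.2
  haveI := Fintype.ofFinite {Q : Subgroup G // A.Inc Q L.1}
  have e : {Q : Subgroup G // A.Inc Q L.1 ∧ Q ≠ P} ≃
      {Q : {Q : Subgroup G // A.Inc Q L.1} // Q ≠ ⟨P, L.2⟩} :=
    { toFun := fun Q => ⟨⟨Q.1, Q.2.1⟩, fun e => Q.2.2 (congrArg Subtype.val e)⟩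
      invFun := fun Q => ⟨Q.1.1, Q.1.2, fun e => Q.2 (Subtype.ext e)⟩
      left_inv := fun _ => rfl
      right_inv := fun _ => rfl }
  rw [Nat.card_congr e, Nat.card_eq_fintype_card, Fintype.card_subtype_compl, Fintype.card_subtype_eq,
    ← Nat.card_eq_fintype_card, h1]
  rfl

variable (hq : A.q = 4)

include hL hq in
/-- No subgroup of order fifteen lies in a parabolic. -/
theorem not_fifteen (hS : ∀ U : Subgroup G, IsPGroup 2 ↥U → A.T ≤ U → U = A.T) {D : Subgroup G}
    (hD : D ≤ A.X₁) (hc : Nat.card ↥D = 15) : False := by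
  classical
  haveI : Fact (Nat.Prime 3) := ⟨by norm_num⟩
  haveI : Fact (Nat.Prime 5) := ⟨by norm_num⟩
  set Z := A.P₁ ⊓ A.P₂ with hZ
  have hP : A.IsPt A.P₁ := ⟨1, (cj_one _).symm⟩
  -- a line has no stabiliser of order five in `D`
  have hfive : ∀ L, A.Inc A.P₁ L → ∀ b ∈ D, b ∈ normalizer (L : Set G) → orderOf b ≠ 5 := by
    rintro L ⟨g, hg, rfl⟩ b hbD hbL hb
    have hgX : g ∈ A.X₁ := A.h₁.norm.le (mem_normalizer_of_cj hg.symm)
    set c := g⁻¹ * b * g with hc'
    have hcX : c ∈ A.X₁ := A.X₁.mul_mem (A.X₁.mul_mem (A.X₁.inv_mem hgX) (hD hbD)) hgX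
    have hcX2 : c ∈ A.X₂ := by
      rw [← A.h₂.norm]
      refine mem_normalizer_of_cj ?_
      rw [hc', cj_mul, cj_mul, cj_eq_of_mem hbL, cj_inv]
    have hcT := A.norm_T hcX hcX2
    have hc5 : orderOf c = 5 := by
      rw [hc', show g⁻¹ * b * g = g⁻¹ * b * (g⁻¹)⁻¹ by rw [inv_inv], H65.orderOf_conj', hb]
    obtain ⟨z, hz, hz2⟩ := A.exists_Z_invol
    let f : Fin 5 → ↥Z := fun i =>
      ⟨c ^ (i : ℕ) * z * (c ^ (i : ℕ))⁻¹, A.side₁.conj_Z (pow_mem hcX _) (pow_mem hcT _) hz⟩
    have hf : Function.Injective f := by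
      intro i j hij
      by_contra hne
      wlog hlt : (i : ℕ) < j generalizing i j
      · exact this hij.symm (Ne.symm hne) (by
          rcases lt_trichotomy (i : ℕ) j with h | h | h
          exacts [absurd h hlt, absurd (Fin.ext h) hne, h])
      have h1 : c ^ (i : ℕ) * z * (c ^ (i : ℕ))⁻¹ = c ^ (j : ℕ) * z * (c ^ (j : ℕ))⁻¹ :=
        congrArg Subtype.val hij
      rw [show (j : ℕ) = i + (j - i) by omega, pow_add] at h1
      have h2 : Commute (c ^ ((j : ℕ) - i)) z := by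
        refine mul_inv_eq_iff_eq_mul.1 (mul_left_cancel (a := c ^ (i : ℕ))
          (mul_right_cancel (b := (c ^ (i : ℕ))⁻¹) ?_))
        rw [h1]
        group
      have h3 := hL.cit.eq_one_of_commute (H65.ne_one_of_orderOf hz2) (k := 1)
        (by rw [pow_one, ← hz2]; exact pow_orderOf_eq_one z)
        (Odd.of_dvd_nat (by decide : Odd 5) ((orderOf_pow_dvd _).trans hc5.dvd)) h2
      have h4 := Nat.le_of_dvd (by omega) (hc5 ▸ orderOf_dvd_of_pow_eq_one h3)
      omega
    have h5 := Nat.card_le_card_of_injective f hf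
    rw [Nat.card_eq_fintype_card, Fintype.card_fin] at h5
    have : Nat.card ↥Z = 4 := A.cardZ.trans hq
    omega
  -- so each line is fixed by an element of order three
  have hthree : ∀ L, A.Inc A.P₁ L → ∃ a : ↥D, orderOf a = 3 ∧ (a : G) ∈ normalizer (L : Set G) := by
    intro L hL'
    set K := (normalizer (L : Set G)).subgroupOf D with hK
    let f : ↥D ⧸ K → {L : Subgroup G // A.Inc A.P₁ L} := fun d => ⟨cj (d.out : G) L, by
      have := A.inc_map hL' (d.out : G)
      rwa [cj_eq_of_mem (A.h₁.le_norm (hD d.out.2))] at this⟩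
    have hf : Function.Injective f := by
      intro a b h
      have h1 : cj (a.out : G) L = cj (b.out : G) L := congrArg Subtype.val h
      rw [← QuotientGroup.out_eq' a, ← QuotientGroup.out_eq' b, QuotientGroup.eq]
      refine mem_subgroupOf.2 (mem_normalizer_of_cj ?_)
      rw [Subgroup.coe_mul, Subgroup.coe_inv, cj_mul, ← h1, cj_inv]
    have h1 : K.index ≤ 5 := by
      refine (Nat.card_le_card_of_injective f hf).trans ?_
      rw [A.card_lines hL hS hP, hq]
    have h2 := K.card_mul_index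
    rw [hc] at h2
    have h3 : 3 ≤ Nat.card ↥K := by nlinarith [Nat.card_pos (α := ↥K)]
    have h5 : ¬ 5 ∣ Nat.card ↥K := fun h => by
      obtain ⟨b, hb⟩ := exists_prime_orderOf_dvd_card' 5 h
      exact hfive L hL' ((b : ↥D) : G) (b : ↥D).2 b.2 (by rw [Subgroup.orderOf_coe, Subgroup.orderOf_coe, hb])
    have h6 : 3 ∣ Nat.card ↥K := by
      have hd : Nat.card ↥K ∣ 15 := ⟨_, h2.symm⟩
      have hmem : Nat.card ↥K ∈ Nat.divisors 15 := Nat.mem_divisors.2 ⟨hd, by norm_num⟩
      rw [show Nat.divisors 15 = {1, 3, 5, 15} by decide] at hmem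
      simp only [Finset.mem_insert, Finset.mem_singleton] at hmem
      rcases hmem with h | h | h | h <;> rw [h] at h3 h5 ⊢ <;> first | omega | decide
    obtain ⟨b, hb⟩ := exists_prime_orderOf_dvd_card' 3 h6
    exact ⟨(b : ↥D), by rw [Subgroup.orderOf_coe, hb], b.2⟩
  -- and these generate one subgroup
  have hsub : Subsingleton (Sylow 3 ↥D) := by
    obtain ⟨S⟩ : Nonempty (Sylow 3 ↥D) := inferInstance
    have h1 := card_sylow_modEq_one 3 ↥D
    have h2 : Nat.card (Sylow 3 ↥D) ∣ 5 := by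
      have h3 := S.card_eq_multiplicity
      rw [hc, show (15 : ℕ).factorization 3 = 1 by
        rw [show (15 : ℕ) = 3 * 5 from rfl, Nat.factorization_mul (by norm_num) (by norm_num)]
        simp [Nat.Prime.factorization (show Nat.Prime 3 by norm_num),
          Nat.Prime.factorization (show Nat.Prime 5 by norm_num)]] at h3
      have h4 := (S : Subgroup ↥D).card_mul_index
      rw [hc, h3] at h4
      rw [show (5 : ℕ) = (S : Subgroup ↥D).index by omega]
      exact S.card_dvd_index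
    have hone : Nat.card (Sylow 3 ↥D) = 1 := by
      rcases (Nat.dvd_prime (by norm_num : Nat.Prime 5)).1 h2 with h | h
      · exact h
      · rw [h] at h1; exact absurd h1 (by decide)
    exact (Nat.card_eq_one_iff_unique.1 hone).1
  obtain ⟨w, hwX, -, hwT, -⟩ := A.side₁.torus hL
  have hinc : ∀ x ∈ A.X₁, A.Inc A.P₁ (cj x A.P₂) := fun x hx =>
    ⟨x, (cj_eq_of_mem (A.h₁.le_norm hx)).symm, rfl⟩
  obtain ⟨a, ha3, ha0⟩ := hthree _ (hinc 1 (one_mem _))
  rw [cj_one] at ha0
  have hall : ∀ L, A.Inc A.P₁ L → (a : G) ∈ normalizer (L : Set G) := by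
    intro L hL'
    obtain ⟨b, hb3, hbL⟩ := hthree L hL'
    have hpg : ∀ y : ↥D, orderOf y = 3 → IsPGroup 3 ↥(zpowers y) := fun y hy =>
      IsPGroup.of_card (n := 1) (by rw [Nat.card_zpowers, hy, pow_one])
    obtain ⟨S, hSa⟩ := (hpg a ha3).exists_le_sylow
    obtain ⟨S', hSb⟩ := (hpg b hb3).exists_le_sylow
    have hcard : Nat.card ↥(S : Subgroup ↥D) ≤ 3 := by
      rw [S.card_eq_multiplicity, hc, show (15 : ℕ).factorization 3 = 1 by
        rw [show (15 : ℕ) = 3 * 5 from rfl, Nat.factorization_mul (by norm_num) (by norm_num)]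
        simp [Nat.Prime.factorization (show Nat.Prime 3 by norm_num),
          Nat.Prime.factorization (show Nat.Prime 5 by norm_num)]]
      norm_num
    have he : zpowers b = (S : Subgroup ↥D) := Subgroup.eq_of_le_of_card_ge
      ((Subsingleton.elim S' S) ▸ hSb) (by rw [Nat.card_zpowers, hb3]; exact hcard)
    obtain ⟨i, hi⟩ := mem_zpowers_iff.1 (he.ge (hSa (mem_zpowers a)))
    rw [← hi, SubgroupClass.coe_zpow]
    exact zpow_mem hbL i
  have haX : (a : G) ∈ A.X₁ := hD a.2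
  have haT : (a : G) ∈ normalizer (A.T : Set G) := A.norm_T haX (A.h₂.norm ▸ ha0)
  obtain ⟨t, ht, htP⟩ : ∃ t ∈ A.T, t ∉ A.P₁ := SetLike.not_le_iff_exists.1 fun h => by
    have h1 := Subgroup.card_le_of_le h
    rw [A.cardT, A.cardP₁, hq] at h1
    norm_num at h1
  set c := t⁻¹ * (a : G) * t * (a : G)⁻¹ with hcdef
  have hcT : c ∈ A.T := by
    rw [hcdef, show t⁻¹ * (a : G) * t * (a : G)⁻¹ = t⁻¹ * ((a : G) * t * (a : G)⁻¹) by group]
    exact A.T.mul_mem (A.T.inv_mem ht) (inv_mem_of_conj_mem haT ht)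
  have hcX : c ∈ A.X₁ := A.hT₁.1 hcT
  set L₁ := cj w A.P₂ with hL₁
  have hcL : c ∈ normalizer (L₁ : Set G) := by
    refine mem_normalizer_of_cj ?_
    have h1 : cj (a : G) (cj (t * w) A.P₂) = cj (t * w) A.P₂ :=
      cj_eq_of_mem (hall _ (hinc _ (A.X₁.mul_mem (A.hT₁.1 ht) hwX)))
    have h2 : cj (a : G)⁻¹ L₁ = L₁ := cj_eq_of_mem (inv_mem (hall _ (hinc w hwX)))
    rw [hcdef, cj_mul, h2, cj_mul, cj_mul, hL₁, ← cj_mul t w, h1, cj_mul t w, cj_inv]
  have hw2 : w⁻¹ * c * w ∈ A.X₂ := by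
    rw [← A.h₂.norm]
    refine mem_normalizer_of_cj ?_
    rw [cj_mul, cj_mul, ← hL₁, cj_eq_of_mem hcL, hL₁, cj_inv]
  have hwc : w⁻¹ * c * w ∈ A.X₁ := A.X₁.mul_mem (A.X₁.mul_mem (A.X₁.inv_mem hwX) hcX) hwX
  obtain ⟨k, hk⟩ := pow_two_of_mem A.hT₁.2.1 hcT
  have hwcT : w⁻¹ * c * w ∈ A.T := A.hT₁.mem_of_normalizes hwc (A.norm_T hwc hw2) (k := k) (by
    rw [show w⁻¹ * c * w = w⁻¹ * c * (w⁻¹)⁻¹ by rw [inv_inv], conj_pow, hk, mul_one, mul_inv_cancel])
  have hcP : c ∈ A.P₁ := hL.inf_syl A.h₁ A.hT₁ ((cj_eq_of_mem (le_normalizer hwX)) ▸ A.hT₁.map w)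
    hwT.symm ⟨hcT, mem_cj.2 hwcT⟩
  have htN := A.h₁.le_norm (A.hT₁.1 ht)
  have hfin : (a : G) * t * (a : G)⁻¹ * t⁻¹ ∈ A.P₁ := by
    have := inv_mem_of_conj_mem htN hcP
    rwa [hcdef, show t * (t⁻¹ * (a : G) * t * (a : G)⁻¹) * t⁻¹ = (a : G) * t * (a : G)⁻¹ * t⁻¹ by group]
      at this
  have ha1 := hL.cit.eq_one_of_commute_mod A.h₁.two htN (A.h₁.le_norm haX) (k := 1)
    (by rw [pow_one, pow_two]; exact A.sq₁ t ht) htP
    (by rw [Subgroup.orderOf_coe, ha3]; decide) hfin
  rw [← Subgroup.orderOf_coe, ha1, orderOf_one] at ha3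
  omega

include hL hS hq in
/-- At most five elements exchange two points that are not collinear. -/
theorem card_swap {P Q : Subgroup G} (hP : A.IsPt P) (hQ : A.IsPt Q)
    (hPQ : ¬ ∃ L, A.Inc P L ∧ A.Inc Q L) :
    Nat.card {u : G // orderOf u = 2 ∧ cj u P = Q} ≤ 5 := by
  classical
  rcases isEmpty_or_nonempty {u : G // orderOf u = 2 ∧ cj u P = Q} with h | ⟨⟨u₀, hu₀, hu₀P⟩⟩
  · simp
  set D := normalizer (P : Set G) ⊓ normalizer (Q : Set G) with hD
  have hmem : ∀ u : G, orderOf u = 2 → cj u P = Q → u₀ * u ∈ D := by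
    intro u hu huP
    have hi := H65.inv_eq_self hu
    have hi₀ := H65.inv_eq_self hu₀
    have h1 : cj u Q = P := by rw [← huP]; conv_lhs => rw [← hi]; rw [hi, ← cj_mul, H65.mul_self_eq_one hu, cj_one]
    have h2 : cj u₀ Q = P := by
      rw [← hu₀P, ← cj_mul, H65.mul_self_eq_one hu₀, cj_one]
    exact ⟨mem_normalizer_of_cj (by rw [cj_mul, huP, h2]), mem_normalizer_of_cj (by rw [cj_mul, h1, hu₀P])⟩
  let f : {u : G // orderOf u = 2 ∧ cj u P = Q} → ↥D := fun u => ⟨u₀ * u.1, hmem u.1 u.2.1 u.2.2⟩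
  have hf : Function.Injective f := fun a b h =>
    Subtype.ext (mul_left_cancel (congrArg Subtype.val h : u₀ * a.1 = u₀ * b.1))
  refine (Nat.card_le_card_of_injective f hf).trans ?_
  obtain ⟨g, rfl⟩ := hP
  have hXcard : Nat.card ↥(normalizer ((cj g A.P₁ : Subgroup G) : Set G)) = 960 := by
    rw [← cj_normalizer, card_cj, A.h₁.norm, A.cardX₁, hq]
    norm_num
  have hdvd : Nat.card ↥D ∣ 64 * 15 := by
    have := Subgroup.card_dvd_of_le (inf_le_left : D ≤ normalizer ((cj g A.P₁ : Subgroup G) : Set G))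
    rwa [hXcard] at this
  have hodd : Odd (Nat.card ↥D) := by
    rw [← Nat.not_even_iff_odd]
    intro he
    haveI : Fact (Nat.Prime 2) := ⟨Nat.prime_two⟩
    obtain ⟨v, hv⟩ := exists_prime_orderOf_dvd_card' 2 (even_iff_two_dvd.1 he)
    have hv' : orderOf (v : G) = 2 := by rw [Subgroup.orderOf_coe, hv]
    obtain ⟨P₀, L₀, hown⟩ := A.exists_own hL hS hv'
    exact hPQ ⟨L₀, (A.fixes_iff hL hS hv' hown ⟨g, rfl⟩).1 v.2.1,
      (A.fixes_iff hL hS hv' hown hQ).1 v.2.2⟩
  have hcop : Nat.Coprime (Nat.card ↥D) (2 ^ 6) := (Nat.coprime_two_right.2 hodd).pow_right 6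
  have h15 : Nat.card ↥D ∣ 15 := hcop.dvd_of_dvd_mul_left (by norm_num; exact hdvd)
  have hne : Nat.card ↥D ≠ 15 := by
    intro h
    refine A.not_fifteen hL hq hS (D := cj g⁻¹ D) ?_ (by rw [card_cj, h])
    have hDle : D ≤ cj g A.X₁ := by
      rw [← A.h₁.norm, cj_normalizer]
      exact fun x hx => hx.1
    have := cj_le (g := g⁻¹) hDle
    rwa [cj_inv] at this
  have hmem : Nat.card ↥D ∈ Nat.divisors 15 := Nat.mem_divisors.2 ⟨h15, by norm_num⟩
  rw [show Nat.divisors 15 = {1, 3, 5, 15} by decide] at hmem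
  simp only [Finset.mem_insert, Finset.mem_singleton] at hmem
  omega

include hL hS hq in
/-- There are twenty-one points, any two of them collinear. -/
theorem plane :
    A.X₁.index = 21 ∧ ∀ P Q, A.IsPt P → A.IsPt Q → P ≠ Q → ∃ L, A.Inc P L ∧ A.Inc Q L := by
  classical
  haveI : Fintype G := Fintype.ofFinite G
  have key : ∀ P, A.IsPt P →
      A.X₁.index ≤ 21 ∧ 21 ≤ A.X₁.index ∧
        (A.X₁.index = 21 → ∀ Q, A.IsPt Q → P ≠ Q → ∃ L, A.Inc P L ∧ A.Inc Q L) := by
    intro P hP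
    set col : Set (Subgroup G) := {Q | Q ≠ P ∧ ∃ L, A.Inc P L ∧ A.Inc Q L} with hcol
    set pts : Set (Subgroup G) := {Q | A.IsPt Q} with hpts
    set rest : Set (Subgroup G) := {Q | A.IsPt Q ∧ Q ≠ P ∧ ¬ ∃ L, A.Inc P L ∧ A.Inc Q L} with hrest
    have hcolc : col.ncard = 20 := by
      rw [← Nat.card_coe_set_eq]
      exact (A.card_col hL hS hP).trans (by rw [hq])
    have hptsc : pts.ncard = A.X₁.index := by
      rw [← Nat.card_coe_set_eq]; exact A.card_pts
    have hunion : pts = insert P (col ∪ rest) := by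
      ext Q
      simp only [hpts, hcol, hrest, Set.mem_insert_iff, Set.mem_union, Set.mem_ofPred_eq]
      constructor
      · intro hQ
        by_cases h : Q = P
        · exact Or.inl h
        by_cases h' : ∃ L, A.Inc P L ∧ A.Inc Q L
        · exact Or.inr (Or.inl ⟨h, h'⟩)
        · exact Or.inr (Or.inr ⟨hQ, h, h'⟩)
      · rintro (rfl | ⟨-, L, -, h⟩ | ⟨h, -, -⟩)
        exacts [hP, A.inc_isPt h, h]
    have hdisj : Disjoint col rest := by
      rw [Set.disjoint_left]
      rintro Q ⟨-, h⟩ ⟨-, -, h'⟩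
      exact h' h
    have hPnot : P ∉ col ∪ rest := by
      rintro (⟨h, -⟩ | ⟨-, h, -⟩) <;> exact h rfl
    have hsum : A.X₁.index = 21 + rest.ncard := by
      rw [← hptsc, hunion, Set.ncard_insert_of_notMem hPnot (Set.toFinite _),
        Set.ncard_union_eq hdisj (Set.toFinite _) (Set.toFinite _), hcolc]
      omega
    refine ⟨?_, by omega, fun h21 Q hQ hne => ?_⟩
    swap
    · have hr : rest = ∅ := (Set.ncard_eq_zero (Set.toFinite _)).1 (by omega)
      by_contra hcon
      exact (hr ▸ (⟨hQ, Ne.symm hne, hcon⟩ : Q ∈ rest) : Q ∈ (∅ : Set (Subgroup G)))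
    -- the three kinds of involutions
    let F := {u : G // orderOf u = 2 ∧ u ∈ normalizer (P : Set G)}
    let C := {u : G // orderOf u = 2 ∧ u ∉ normalizer (P : Set G) ∧ cj u P ∈ col}
    let R := {u : G // orderOf u = 2 ∧ cj u P ∈ rest}
    have hF : Nat.card F ≤ 5 * 15 := by
      have hex : ∀ u : F, ∃ L, A.Inc P L ∧ u.1 ∈ L := by
        rintro ⟨u, hu, hfix⟩
        obtain ⟨P₀, L₀, hown⟩ := A.exists_own hL hS hu
        exact ⟨L₀, (A.fixes_iff hL hS hu hown hP).1 hfix, (A.own_mem hown).2⟩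
      choose L hL1 hL2 using hex
      let f : F → Σ L : {L : Subgroup G // A.Inc P L}, {u : G // u ∈ L.1 ∧ u ≠ 1} :=
        fun u => ⟨⟨L u, hL1 u⟩, u.1, hL2 u, H65.ne_one_of_orderOf u.2.1⟩
      have hf : Function.Injective f := fun a b h =>
        Subtype.ext (congrArg (fun x : Σ L : {L : Subgroup G // A.Inc P L},
          {u : G // u ∈ L.1 ∧ u ≠ 1} => x.2.1) h)
      refine (Nat.card_le_card_of_injective f hf).trans (le_of_eq ?_)
      rw [card_sigma_const (c := 15) fun M => ?_, A.card_lines hL hS hP, hq]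
      obtain ⟨g, -, hg⟩ := M.2
      have h1 := card_ne_one (P := M.1)
      rw [show Nat.card ↥M.1 = 16 by rw [hg, card_cj, A.cardP₂, hq]; norm_num] at h1
      omega
    have hC : Nat.card C ≤ 5 * (4 * 12) := by
      have hex : ∀ u : C, ∃ M P₀, A.Inc P M ∧ A.Inc P₀ M ∧ P₀ ≠ P ∧ u.1 ∈ P₀ ∧ u.1 ∉ M := by
        rintro ⟨u, hu, hfix, hne, M, hPM, hQM⟩
        obtain ⟨P₀, L₀, hown⟩ := A.exists_own hL hS hu
        have huu : cj u (cj u P) = P := by rw [← cj_mul, H65.mul_self_eq_one hu, cj_one]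
        have hMu : cj u M = M := by
          by_contra hne'
          have h3 := A.inc_map hQM u
          rw [huu] at h3
          exact hne (A.inc_unique hL hS hQM (A.inc_map hPM u) hPM h3 (Ne.symm hne'))
        have hincM : A.Inc P₀ M := A.inc_swap.1 ((A.swap.fixes_iff hL hS hu (A.own_swap.2 hown)
          (A.swap.inc_isPt (A.inc_swap.2 hPM))).1 (mem_normalizer_of_cj hMu))
        refine ⟨M, P₀, hPM, hincM, fun e => hfix ?_, (A.own_mem hown).1, fun huM => hfix ?_⟩
        · exact e ▸ le_normalizer (A.own_mem hown).1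
        · exact A.inc_le hPM huM
      choose M P₀ h1 h2 h3 h4 h5 using hex
      let f : C → Σ M : {M : Subgroup G // A.Inc P M}, Σ Q : {Q : Subgroup G // A.Inc Q M.1 ∧ Q ≠ P},
          {u : G // u ∈ Q.1 ∧ u ∉ M.1} :=
        fun u => ⟨⟨M u, h1 u⟩, ⟨P₀ u, h2 u, h3 u⟩, u.1, h4 u, h5 u⟩
      have hf : Function.Injective f := fun a b h =>
        Subtype.ext (congrArg (fun x : Σ M : {M : Subgroup G // A.Inc P M},
          Σ Q : {Q : Subgroup G // A.Inc Q M.1 ∧ Q ≠ P}, {u : G // u ∈ Q.1 ∧ u ∉ M.1} => x.2.2.1) h)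
      refine (Nat.card_le_card_of_injective f hf).trans (le_of_eq ?_)
      rw [card_sigma_const (c := 4 * 12) fun M' => ?_, A.card_lines hL hS hP, hq]
      rw [card_sigma_const (c := 12) fun Q => ?_]
      · congr 1
        have h := A.card_on_line hL hS M'.2
        haveI := Fintype.ofFinite {Q : Subgroup G // A.Inc Q M'.1}
        have e : {Q : Subgroup G // A.Inc Q M'.1 ∧ Q ≠ P} ≃
            {Q : {Q : Subgroup G // A.Inc Q M'.1} // Q ≠ ⟨P, M'.2⟩} :=
          { toFun := fun Q => ⟨⟨Q.1, Q.2.1⟩, fun e => Q.2.2 (congrArg Subtype.val e)⟩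
            invFun := fun Q => ⟨Q.1.1, Q.1.2, fun e => Q.2 (Subtype.ext e)⟩
            left_inv := fun _ => rfl
            right_inv := fun _ => rfl }
        rw [Nat.card_congr e, Nat.card_eq_fintype_card, Fintype.card_subtype_compl,
          Fintype.card_subtype_eq, ← Nat.card_eq_fintype_card, h, hq]
      · obtain ⟨g, hQg, hMg⟩ := Q.2.1
        have h6 : ((Q.1 : Set G) \ (M'.1 : Set G)).ncard = 12 := by
          rw [← Set.diff_self_inter, Set.ncard_diff Set.inter_subset_left (Set.toFinite _),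
            ← Subgroup.coe_inf, ← Nat.card_coe_set_eq, ← Nat.card_coe_set_eq]
          show Nat.card ↥Q.1 - Nat.card ↥(Q.1 ⊓ M'.1) = 12
          rw [hQg, hMg, cj, cj, ← Subgroup.map_inf _ _ _ (MulAut.conj g).injective]
          show Nat.card ↥(cj g A.P₁) - Nat.card ↥(cj g (A.P₁ ⊓ A.P₂)) = 12
          rw [card_cj, card_cj, A.cardP₁, A.cardZ, hq]
          norm_num
        rw [← h6, ← Nat.card_coe_set_eq]
        exact Nat.card_congr (Equiv.subtypeEquivRight fun _ => Iff.rfl)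
    have hR : Nat.card R ≤ rest.ncard * 5 := by
      let f : R → Σ Q : rest, {u : G // orderOf u = 2 ∧ cj u P = Q.1} :=
        fun u => ⟨⟨_, u.2.2⟩, u.1, u.2.1, rfl⟩
      have hf : Function.Injective f := fun a b h =>
        Subtype.ext (congrArg (fun x : Σ Q : rest, {u : G // orderOf u = 2 ∧ cj u P = Q.1} => x.2.1) h)
      refine (Nat.card_le_card_of_injective f hf).trans ?_
      haveI : Fintype ↥rest := Fintype.ofFinite _
      rw [Nat.card_sigma]
      refine (Finset.sum_le_card_nsmul _ _ 5 fun Q _ => A.card_swap hL hS hq hP Q.2.1 Q.2.2.2).trans ?_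
      rw [Finset.card_univ, ← Nat.card_eq_fintype_card, Nat.card_coe_set_eq, smul_eq_mul]
    let g : {u : G // orderOf u = 2} → F ⊕ (C ⊕ R) := fun u =>
      if h : u.1 ∈ normalizer (P : Set G) then Sum.inl ⟨u.1, u.2, h⟩
      else if h' : cj u.1 P ∈ col then Sum.inr (Sum.inl ⟨u.1, u.2, h, h'⟩)
      else Sum.inr (Sum.inr ⟨u.1, u.2, A.isPt_map hP u.1, fun e => h (mem_normalizer_of_cj e),
        fun hc => h' ⟨fun e => h (mem_normalizer_of_cj e), hc⟩⟩)
    have hg : Function.Injective g := by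
      intro a b h
      have hv : ∀ u, Sum.elim (fun x : F => x.1) (Sum.elim (fun x : C => x.1) fun x : R => x.1) (g u) =
          u.1 := by
        intro u
        by_cases h1 : u.1 ∈ normalizer (P : Set G)
        · simp [g, h1]
        by_cases h2 : cj u.1 P ∈ col
        · simp [g, h1, h2]
        · simp [g, h1, h2]
      exact Subtype.ext ((hv a).symm.trans ((congrArg _ h).trans (hv b)))
    have hle := Nat.card_le_card_of_injective g hg
    rw [Nat.card_sum, Nat.card_sum, A.card_invols hL hS, hq] at hle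
    norm_num [-Nat.card_eq_fintype_card] at hle
    omega
  obtain ⟨h1, h2, -⟩ := key A.P₁ ⟨1, (cj_one _).symm⟩
  exact ⟨le_antisymm h1 h2, fun P Q hP hQ hne => (key P hP).2.2 (le_antisymm h1 h2) Q hQ hne⟩

include hL hS hq in
/-- The group is `PSL(3, 4)`. -/
theorem psl_three_four [IsSimpleGroup G] :
    ∃ (F : Type) (_ : Field F) (_ : Fintype F), Fintype.card F = 4 ∧
      Nonempty (G ≃* Matrix.ProjectiveSpecialLinearGroup (Fin 3) F) := by
  classical
  obtain ⟨hN, hcoll⟩ := A.plane hL hS hq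
  haveI : Fact (Nat.Prime 2) := ⟨Nat.prime_two⟩
  haveI : Fintype (GaloisField 2 2) := Fintype.ofFinite _
  have hF : Fintype.card (GaloisField 2 2) = 4 := by
    rw [← Nat.card_eq_fintype_card, GaloisField.card 2 2 (by norm_num)]
    norm_num
  refine ⟨GaloisField 2 2, inferInstance, inferInstance, hF, ?_⟩
  let α := {P : Subgroup G // A.IsPt P}
  haveI : Fintype α := Fintype.ofFinite _
  letI act : MulAction G α :=
    { smul := fun g P => ⟨cj g P.1, A.isPt_map P.2 g⟩
      one_smul := fun P => Subtype.ext (cj_one P.1)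
      mul_smul := fun g h P => Subtype.ext (cj_mul g h P.1) }
  have hsmul : ∀ (g : G) (P : α), (g • P).1 = cj g P.1 := fun _ _ => rfl
  haveI : FaithfulSMul G α := by
    let φ := MulAction.toPermHom G α
    rcases (inferInstance : φ.ker.Normal).eq_bot_or_eq_top with h | h
    · exact ⟨fun {a b} hab => (MonoidHom.ker_eq_bot_iff _).1 h (Equiv.ext hab)⟩
    · exfalso
      have hX : A.X₁ = ⊤ := by
        refine top_le_iff.1 fun g _ => ?_
        have h1 : (φ g) ⟨A.P₁, 1, (cj_one _).symm⟩ = (⟨A.P₁, 1, (cj_one _).symm⟩ : α) := by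
          rw [MonoidHom.mem_ker.1 (h ▸ mem_top g : g ∈ φ.ker)]; rfl
        exact A.h₁.norm ▸ mem_normalizer_of_cj (congrArg Subtype.val h1)
      rw [hX, Subgroup.index_top] at hN
      omega
  have hcardG : Nat.card G = 20160 := by
    rw [← A.X₁.card_mul_index, hN, A.cardX₁, hq]
    norm_num
  let L : Set (Finset α) := {s | ∃ P M, A.Inc P M ∧ s = Finset.univ.filter fun Q : α => A.Inc Q.1 M}
  have hLs : Cfsg.IsSteinerSystem 2 5 L := by
    refine ⟨?_, fun s hs => ?_⟩
    · rintro _ ⟨P, M, hPM, rfl⟩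
      rw [← Fintype.card_subtype, ← Nat.card_eq_fintype_card,
        Nat.card_congr (Equiv.subtypeSubtypeEquivSubtype (p := A.IsPt) (q := fun Q => A.Inc Q M)
          fun h => A.inc_isPt h), A.card_on_line hL hS hPM, hq]
    · obtain ⟨P, Q, hPQ, rfl⟩ := Finset.card_eq_two.1 hs
      obtain ⟨M, hP, hQ⟩ := hcoll P.1 Q.1 P.2 Q.2 fun e => hPQ (Subtype.ext e)
      refine ⟨_, ⟨⟨P.1, M, hP, rfl⟩, ?_⟩, ?_⟩
      · intro x hx
        simp only [Finset.mem_insert, Finset.mem_singleton] at hx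
        rcases hx with rfl | rfl <;> simp [hP, hQ]
      · rintro _ ⟨⟨P', M', -, rfl⟩, hsub⟩
        have h1 : A.Inc P.1 M' := by simpa using hsub (Finset.mem_insert_self P {Q})
        have h2 : A.Inc Q.1 M' := by
          simpa using hsub (Finset.mem_insert_of_mem (Finset.mem_singleton_self Q))
        have : M' = M := by_contra fun hne => hPQ (Subtype.ext
          (A.inc_unique hL hS h1 hP h2 hQ hne))
        rw [this]
  have hAL : ∀ g : G, ∀ l ∈ L, l.image (g • ·) ∈ L := by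
    rintro g _ ⟨P, M, hPM, rfl⟩
    refine ⟨cj g P, cj g M, A.inc_map hPM g, ?_⟩
    ext Q
    simp only [Finset.mem_image, Finset.mem_filter, Finset.mem_univ, true_and]
    constructor
    · rintro ⟨R, hR, rfl⟩
      rw [hsmul]
      exact A.inc_map hR g
    · intro hQ
      refine ⟨g⁻¹ • Q, ?_, smul_inv_smul g Q⟩
      have := A.inc_map hQ g⁻¹
      rwa [cj_inv] at this
  open scoped LinearAlgebra.Projectivization in
  haveI : Fintype (ℙ (GaloisField 2 2) (Fin 3 → GaloisField 2 2)) := Fintype.ofFinite _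
  refine Golay.nonempty_iso_of_plane (α := α) hcardG (Golay.card_psl_three_four hF) hLs
    (Golay.planeLines_steiner hF) ?_ ?_ hAL (fun b l hl => Golay.planeLines_smul b hl)
  · rw [← Nat.card_eq_fintype_card, A.card_pts, hN]
  · rw [← Nat.card_eq_fintype_card, Projectivization.card_of_finrank (GaloisField 2 2)
      (Fin 3 → GaloisField 2 2) (Module.finrank_fin_fun _), Nat.card_eq_fintype_card, hF]
    rfl

end Amalgam

end Cfsg.Agent.H65.CIT
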