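import Cfsg.Agent.H65.CIT.CN
import Cfsg.Agent.H65.CIT.Dihedral
import Cfsg.Agent.H65.CIT.PlaneFour

/-!
# Simple groups in which the centralisers of involutions are 2-groups
-/

set_option autoImplicit false
set_option linter.unusedSectionVars false
set_option linter.style.haveILetI false
set_option linter.dupNamespace false

namespace Cfsg.Agent.H65.CIT

open Subgroup

universe u

/-- A simple non-abelian group of even order with centralisers of involutions 2-groups. -/
theorem classification_of_cit {G : Type u} [Group G] [Finite G] [IsSimpleGroup G]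
    (hG : ∃ a b : G, a * b ≠ b * a) (hC : CIT G) (heven : Even (Nat.card G)) :
    (∃ (F : Type) (_ : Field F) (_ : Fintype F),
        (Fintype.card F = 9 ∨ (∃ n : ℕ, Fintype.card F = 2 ^ n) ∨
          ((Fintype.card F).Prime ∧ ∃ k : ℕ, Fintype.card F = 2 ^ k + 1 ∨ Fintype.card F + 1 = 2 ^ k)) ∧
        Nonempty (G ≃* Matrix.ProjectiveSpecialLinearGroup (Fin 2) F)) ∨
    (∃ (F : Type) (_ : Field F) (_ : Fintype F), Fintype.card F = 4 ∧
        Nonempty (G ≃* Matrix.ProjectiveSpecialLinearGroup (Fin 3) F)) ∨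
    Cfsg.IsSuzuki G := by
  classical
  haveI : Fact (Nat.Prime 2) := ⟨Nat.prime_two⟩
  have hna : ¬ IsMulCommutative G := fun h => by
    obtain ⟨a, b, hab⟩ := hG
    exact hab (h.is_comm.comm a b)
  by_cases hTI : ∀ S T : Sylow 2 G, S ≠ T → (S : Subgroup G) ⊓ (T : Subgroup G) = ⊥
  · rcases classification_of_ti hG hC hTI heven with ⟨n, hn, he⟩ | h
    · haveI : Fintype (GaloisField 2 n) := Fintype.ofFinite _
      refine Or.inl ⟨GaloisField 2 n, inferInstance, inferInstance, Or.inr (Or.inl ⟨n, ?_⟩), he⟩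
      rw [← Nat.card_eq_fintype_card, GaloisField.card 2 n (by omega)]
    · exact Or.inr (Or.inr h)
  push Not at hTI
  have hO : Cfsg.pCore 2 G = ⊥ := by
    refine (inferInstance : (Cfsg.pCore 2 G).Normal).eq_bot_or_eq_top.resolve_right fun h => hna ?_
    have hp : IsPGroup 2 G := fun x => by
      obtain ⟨k, hk⟩ := (Cores.pCore_isPGroup (p := 2) (G := G)) ⟨x, h ▸ mem_top x⟩
      exact ⟨k, congrArg Subtype.val hk⟩
    haveI : Nontrivial G := IsSimpleGroup.toNontrivial
    haveI := hp.center_nontrivial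
    rcases (inferInstance : (center G).Normal).eq_bot_or_eq_top with hz | hz
    · exact absurd hz ((Subgroup.nontrivial_iff_ne_bot _).1 inferInstance)
    · exact ⟨⟨fun a b => mem_center_iff.1 (hz ▸ mem_top b) a⟩⟩
  have hL := loc_of hC hO
  obtain ⟨A⟩ := hL.exists_amalgam hTI
  have hq4 := hL.q_le_four A
  have hq2 := A.two_le
  obtain ⟨k, hk⟩ := IsPGroup.iff_card.1 A.hT₁.2.1
  rw [A.cardT] at hk
  obtain hq | hq : A.q = 2 ∨ A.q = 4 := by
    rcases Nat.lt_or_ge A.q 3 with h | h
    · exact Or.inl (by omega)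
    rcases Nat.lt_or_ge A.q 4 with h' | h'
    · exfalso
      have h3 : A.q = 3 := by omega
      rw [h3] at hk
      have hodd : Odd ((3 : ℕ) ^ 3) := by decide
      rw [hk] at hodd
      rcases Nat.eq_zero_or_pos k with rfl | hk0
      · norm_num at hk
      · exact absurd (even_iff_two_dvd.2 (dvd_pow_self 2 hk0.ne')) (Nat.not_even_iff_odd.2 hodd)
    · exact Or.inr (by omega)
  · obtain ⟨F, iF, iFt, hF, he⟩ := A.psl_two hna hL hq
    refine Or.inl ⟨F, iF, iFt, ?_, he⟩
    rcases hF with h | h | ⟨hp, j, h⟩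
    · exact Or.inr (Or.inl ⟨2, by rw [h]; norm_num⟩)
    · exact Or.inl h
    · refine Or.inr (Or.inr ⟨hp, j, h.imp id fun h => ?_⟩)
      have := hp.two_le
      omega
  · exact Or.inr (Or.inl (A.psl_three_four hL (A.sylow_four hL hG hq) hq))

end Cfsg.Agent.H65.CIT
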