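import Cfsg.Agent.H65.CIT.NonSolvable
import Cfsg.Agent.H65.CIT.Main

/-!
# Non-solvable groups in which the centralisers of involutions are 2-groups

There is no normal subgroup of odd order; if the Sylow 2-subgroups are independent the group is simple; and
modulo a non-trivial `O_2` they are independent.
-/

set_option autoImplicit false
set_option linter.unusedSectionVars false
set_option linter.style.haveILetI false
set_option linter.dupNamespace false

namespace Cfsg.Agent.H65.CIT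

open Subgroup

universe u

variable {G : Type u} [Group G] [Finite G]

/-- A non-solvable group has even order. -/
theorem even_of_not_solvable (hns : ¬ Group.IsSolvable G) : Even (Nat.card G) :=
  Nat.not_odd_iff_even.1 fun h => hns (S0205.result h)

/-- The odd core is trivial. -/
theorem oddCore_eq_bot (hC : CIT G) (hns : ¬ Group.IsSolvable G) : Cfsg.oddCore G = ⊥ := by
  classical
  haveI : Fact (Nat.Prime 2) := ⟨Nat.prime_two⟩
  by_contra hK
  obtain ⟨S⟩ : Nonempty (Sylow 2 G) := inferInstance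
  have hS : (S : Subgroup G) ≠ ⊥ := S.ne_bot_of_dvd_card (even_iff_two_dvd.1 (even_of_not_solvable hns))
  haveI : Nontrivial ↥(S : Subgroup G) := (Subgroup.nontrivial_iff_ne_bot _).2 hS
  obtain ⟨z₀, -, hzc, hz₀⟩ := PGroups.exists_mem_center_orderOf_eq S.2
    (⊤ : Subgroup ↥(S : Subgroup G)) top_ne_bot
  have hz : orderOf (z₀ : G) = 2 := by rw [Subgroup.orderOf_coe, hz₀]
  haveI : Group.IsNilpotent ↥(centralizer ({(z₀ : G)} : Set G)) := (hC _ hz).isNilpotent
  obtain ⟨-, hle, -⟩ := numeric_of_oddCore hC hK S hS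
  refine hns (solvable_of_isolated S hz z₀.2 (fun g hg => ?_) inferInstance)
  by_contra hne
  set u := g * (z₀ : G) * g⁻¹ with hu
  have hu2 : orderOf u = 2 := (H65.orderOf_conj' g _).trans hz
  have hc : Commute u (z₀ : G) := congrArg Subtype.val (mem_center_iff.1 hzc ⟨u, hg⟩)
  let E : Subgroup G :=
    { carrier := {x | x * x = 1 ∧ x ∈ zpowers u ⊔ zpowers (z₀ : G) ∧ Commute x u ∧ Commute x (z₀ : G) ∧
        ∀ y ∈ zpowers u ⊔ zpowers (z₀ : G), Commute x y}
      one_mem' := ⟨mul_one 1, one_mem _, Commute.one_left _, Commute.one_left _,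
        fun y _ => Commute.one_left y⟩
      mul_mem' := fun {a b} ⟨ha, ha', ha1, ha2, ha3⟩ ⟨hb, hb', hb1, hb2, hb3⟩ =>
        ⟨by rw [mul_assoc, ← mul_assoc b, (ha3 b hb').symm.eq, mul_assoc a b b, hb, mul_one, ha],
          mul_mem ha' hb', ha1.mul_left hb1, ha2.mul_left hb2, fun y hy => (ha3 y hy).mul_left (hb3 y hy)⟩
      inv_mem' := fun {a} ⟨ha, ha', ha1, ha2, ha3⟩ =>
        ⟨by rw [← mul_inv_rev, ha, inv_one], inv_mem ha', ha1.inv_left, ha2.inv_left,
          fun y hy => (ha3 y hy).inv_left⟩ }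
  have hall : ∀ x : G, Commute x u → Commute x (z₀ : G) →
      ∀ y ∈ zpowers u ⊔ zpowers (z₀ : G), Commute x y := fun x h1 h2 y hy =>
    (mem_cent.1 ((sup_le (zpowers_le.2 (mem_cent.2 h1.symm)) (zpowers_le.2 (mem_cent.2 h2.symm)) :
      zpowers u ⊔ zpowers (z₀ : G) ≤ centralizer ({x} : Set G)) hy)).symm
  have hzu : (z₀ : G) ≠ 1 ∧ u ≠ 1 := ⟨H65.ne_one_of_orderOf hz, H65.ne_one_of_orderOf hu2⟩
  have huE : u ∈ E := ⟨H65.mul_self_eq_one hu2, mem_sup_left (mem_zpowers _), Commute.refl _, hc,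
    hall u (Commute.refl u) hc⟩
  have hzE : (z₀ : G) ∈ E := ⟨H65.mul_self_eq_one hz, mem_sup_right (mem_zpowers _), hc.symm,
    Commute.refl _, hall _ hc.symm (Commute.refl _)⟩
  have hES : E ≤ (S : Subgroup G) := fun x hx =>
    (sup_le (zpowers_le.2 hg) (zpowers_le.2 z₀.2) : zpowers u ⊔ zpowers (z₀ : G) ≤ (S : Subgroup G)) hx.2.1
  have h2 := hle E hES fun x hx => hx.1
  haveI := Fintype.ofFinite ↥E
  have h3 : 2 < Nat.card ↥E := by
    rw [Nat.card_eq_fintype_card, Fintype.two_lt_card_iff]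
    exact ⟨⟨1, E.one_mem⟩, ⟨u, huE⟩, ⟨_, hzE⟩, fun e => hzu.2 (congrArg Subtype.val e).symm,
      fun e => hzu.1 (congrArg Subtype.val e).symm, fun e => hne (congrArg Subtype.val e)⟩
  omega

namespace Frame

variable (F : Frame G)

include F in
/-- A group with a frame is simple. -/
theorem isSimple : IsSimpleGroup G := by
  classical
  obtain ⟨hZ, -⟩ := F.zassenhaus
  haveI := Fintype.ofFinite (G ⧸ F.N)
  refine S0338.result hZ ?_
  rw [← Nat.card_eq_fintype_card, F.card_points]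
  exact (even_iff_two_dvd.2 (F.hz ▸ Subgroup.orderOf_dvd_natCard F.M F.z_mem)).add_one

end Frame

/-- With trivial `O_2` and independent Sylow 2-subgroups the group is simple. -/
theorem simple_of_ti (hC : CIT G) (hns : ¬ Group.IsSolvable G) (hO : Cfsg.pCore 2 G = ⊥)
    (hTI : ∀ S T : Sylow 2 G, S ≠ T → (S : Subgroup G) ⊓ (T : Subgroup G) = ⊥) :
    IsSimpleGroup G ∧ ((∃ n : ℕ, 2 ≤ n ∧
      Nonempty (G ≃* Matrix.ProjectiveSpecialLinearGroup (Fin 2) (GaloisField 2 n))) ∨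
    Cfsg.IsSuzuki G) := by
  haveI : Fact (Nat.Prime 2) := ⟨Nat.prime_two⟩
  obtain ⟨S⟩ : Nonempty (Sylow 2 G) := inferInstance
  obtain ⟨T, hT⟩ : ∃ T : Sylow 2 G, S ≠ T := by
    by_contra hcon
    push Not at hcon
    haveI : Subsingleton (Sylow 2 G) := ⟨fun x y => (hcon x).symm.trans (hcon y)⟩
    haveI := S.normal_of_subsingleton
    have h1 := Cores.le_pCore (p := 2) (N := (S : Subgroup G)) S.2
    rw [hO, le_bot_iff] at h1
    exact S.ne_bot_of_dvd_card (even_iff_two_dvd.1 (even_of_not_solvable hns)) h1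
  obtain ⟨F, -⟩ := exists_frame hC (oddCore_eq_bot hC hns) hTI S T hT
  haveI := F.isSimple
  exact ⟨inferInstance, F.classification⟩

/-- Modulo a non-trivial `O_2` the Sylow 2-subgroups are independent. -/
theorem quotient_ti (hC : CIT G) (hU : Cfsg.pCore 2 G ≠ ⊥)
    (S T : Sylow 2 (G ⧸ Cfsg.pCore 2 G)) (hne : S ≠ T) :
    (S : Subgroup (G ⧸ Cfsg.pCore 2 G)) ⊓ (T : Subgroup (G ⧸ Cfsg.pCore 2 G)) = ⊥ := by
  classical
  haveI : Fact (Nat.Prime 2) := ⟨Nat.prime_two⟩
  by_contra hST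
  set U := Cfsg.pCore 2 G with hUdef
  have hU2 : IsPGroup 2 ↥U := Cores.pCore_isPGroup
  have hL : Loc (G ⧸ U) := loc_of (hC.quotient U hU2) Cores.pCore_quotient_pCore
  obtain ⟨Am⟩ := hL.exists_amalgam ⟨S, T, hne, hST⟩
  set W := omegaZ U with hW
  haveI hWn : W.Normal := by
    rw [← Subgroup.normalizer_eq_top_iff, eq_top_iff]
    exact le_normalizer_omegaZ (by rw [Subgroup.normalizer_eq_top])
  let ρ : G ⧸ U →* MulAut ↥W := QuotientGroup.lift U MulAut.conjNormal fun x hx => by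
    refine MonoidHom.mem_ker.2 (MulEquiv.ext fun w => Subtype.ext ?_)
    rw [MulAut.conjNormal_apply, MulAut.one_apply]
    exact mul_inv_eq_iff_eq_mul.2 ((commute_omegaZ w.2 hx).symm).eq
  refine Am.no_action (W := ↥W) (fun w => Subtype.ext (ex2_omegaZ U _ w.2)) ρ ?_ hL ?_
  · intro g hg hg1 w hw
    obtain ⟨x, rfl⟩ := QuotientGroup.mk'_surjective U g
    obtain ⟨x', hx', hxe⟩ := exists_odd_preimage (QuotientGroup.mk' U) hg
    rw [← hxe] at hw hg1
    refine Subtype.ext (hC.eq_one_of_commute_mem (g := x') (x := (w : G)) hU2 w.2.1 hx'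
      (fun e => hg1 (by rw [e, map_one])) ?_)
    have h1 := congrArg Subtype.val hw
    rw [show ρ (QuotientGroup.mk' U x') = MulAut.conjNormal x' from rfl, MulAut.conjNormal_apply] at h1
    exact mul_inv_eq_iff_eq_mul.1 h1
  · obtain ⟨w, hw, hw1⟩ := W.bot_or_exists_ne_one.resolve_left (omegaZ_ne_bot hU2 hU)
    exact ⟨⟨w, hw⟩, fun e => hw1 (congrArg Subtype.val e)⟩

/-- The three cases for a non-solvable group with centralisers of involutions 2-groups. -/
theorem cit_cases (hC : CIT G) (hns : ¬ Group.IsSolvable G) :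
    IsSimpleGroup G ∨
    (Cfsg.pCore 2 G = ⊥ ∧ ∃ A : Amalgam G, A.q = 2 ∨ A.q = 4) ∨
    (Cfsg.pCore 2 G ≠ ⊥ ∧ IsSimpleGroup (G ⧸ Cfsg.pCore 2 G) ∧ ((∃ n : ℕ, 2 ≤ n ∧
      Nonempty (G ⧸ Cfsg.pCore 2 G ≃* Matrix.ProjectiveSpecialLinearGroup (Fin 2) (GaloisField 2 n))) ∨
      Cfsg.IsSuzuki (G ⧸ Cfsg.pCore 2 G))) := by
  classical
  haveI : Fact (Nat.Prime 2) := ⟨Nat.prime_two⟩
  by_cases hO : Cfsg.pCore 2 G = ⊥
  · by_cases hTI : ∀ S T : Sylow 2 G, S ≠ T → (S : Subgroup G) ⊓ (T : Subgroup G) = ⊥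
    · exact Or.inl (simple_of_ti hC hns hO hTI).1
    push Not at hTI
    have hL := loc_of hC hO
    obtain ⟨A⟩ := hL.exists_amalgam hTI
    refine Or.inr (Or.inl ⟨hO, A, ?_⟩)
    have h4 := hL.q_le_four A
    have h2 := A.two_le
    obtain ⟨k, hk⟩ := IsPGroup.iff_card.1 A.hT₁.2.1
    rw [A.cardT] at hk
    by_contra hcon
    have h3 : A.q = 3 := by omega
    rw [h3] at hk
    have hodd : Odd ((3 : ℕ) ^ 3) := by decide
    rw [hk] at hodd
    rcases Nat.eq_zero_or_pos k with rfl | hk0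
    · norm_num at hk
    · exact absurd (even_iff_two_dvd.2 (dvd_pow_self 2 hk0.ne')) (Nat.not_even_iff_odd.2 hodd)
  · have hQC := hC.quotient (Cfsg.pCore 2 G) Cores.pCore_isPGroup
    have hQns : ¬ Group.IsSolvable (G ⧸ Cfsg.pCore 2 G) := fun h => hns <| by
      haveI : Group.IsNilpotent ↥(Cfsg.pCore 2 G) := Cores.pCore_isPGroup.isNilpotent
      exact (Group.isSolvable_iff_subgroup_quotient _).2 ⟨inferInstance, h⟩
    exact Or.inr (Or.inr ⟨hO, simple_of_ti hQC hQns Cores.pCore_quotient_pCore (quotient_ti hC hO)⟩)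

end Cfsg.Agent.H65.CIT
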