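import Cfsg.Agent.H65.CIT.Extension
import Cfsg.Agent.H65.CIT.Structure
import Cfsg.Agent.H65.CIT.NonSolvable

/-!
The structure of non-solvable groups with centralisers of involutions 2-groups, and of non-solvable CN-groups.
-/

set_option autoImplicit false
set_option linter.unusedSectionVars false
set_option linter.style.haveILetI false
set_option linter.dupNamespace false

namespace Cfsg.Agent.H65.CIT

open Subgroup Matrix Cfsg.Agent.Linear.Dickson

universe u

variable {G : Type u} [Group G] [Finite G]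

/-- An element of order three of `PSL(2, q)`, `q` even. -/
theorem exists_order_three {F : Type*} [Field F] [CharP F 2] :
    ∃ x : Matrix.ProjectiveSpecialLinearGroup (Fin 2) F, orderOf x = 3 := by
  have h2 : (1 : F) + 1 = 0 := CharTwo.add_self_eq_zero 1
  let X : Matrix.SpecialLinearGroup (Fin 2) F :=
    ⟨!![0, 1; 1, 1], by rw [Matrix.det_fin_two_of]; simp [CharTwo.neg_eq]⟩
  have hX : (X : Matrix (Fin 2) (Fin 2) F) = !![0, 1; 1, 1] := rfl
  haveI : Fact (Nat.Prime 3) := ⟨Nat.prime_three⟩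
  refine ⟨proj X, orderOf_eq_prime ?_ fun h => ?_⟩
  · rw [← map_pow, show X ^ 3 = 1 from Subtype.ext (Cfsg.Agent.Linear.ext_two
      (by simp [pow_succ, hX, Cfsg.Agent.Linear.mul_two_apply, h2])
      (by simp [pow_succ, hX, Cfsg.Agent.Linear.mul_two_apply, h2])
      (by simp [pow_succ, hX, Cfsg.Agent.Linear.mul_two_apply, h2])
      (by simp [pow_succ, hX, Cfsg.Agent.Linear.mul_two_apply, h2])), map_one]
  · exact one_ne_zero (α := F) (by simpa [hX] using (proj_eq_one_iff.1 h).1)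

/-- The structure of a non-solvable group with centralisers of involutions 2-groups. -/
theorem cit_structure (hC : CIT G) (hns : ¬ Group.IsSolvable G) :
    (IsSimpleGroup G ∧ ¬ IsMulCommutative G) ∨
    (∃ N : Subgroup G, N.Normal ∧ N.index = 2 ∧ ∃ (F : Type) (_ : Field F) (_ : Fintype F),
        Fintype.card F = 9 ∧ Nonempty (↥N ≃* Matrix.ProjectiveSpecialLinearGroup (Fin 2) F)) ∨
    (∃ (N : Subgroup G) (_ : N.Normal), N ≠ ⊥ ∧ IsPGroup 2 ↥N ∧ IsSimpleGroup (G ⧸ N) ∧
      ((IsMulCommutative ↥N ∧ (∀ x ∈ N, x * x = 1) ∧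
          ∃ (F : Type) (_ : Field F) (_ : Fintype F), CharP F 2 ∧ 4 ≤ Fintype.card F ∧
            Nonempty (G ⧸ N ≃* Matrix.ProjectiveSpecialLinearGroup (Fin 2) F)) ∨
        Cfsg.IsSuzuki (G ⧸ N))) := by
  classical
  haveI : Fact (Nat.Prime 2) := ⟨Nat.prime_two⟩
  have hna : ¬ IsMulCommutative G := fun h => hns (isSolvable_of_comm fun a b => h.is_comm.comm a b)
  rcases cit_cases hC hns with h | ⟨hO, A, hq⟩ | ⟨hU, hsimp, h⟩
  · exact Or.inl ⟨h, hna⟩
  · rcases A.simple_or_index_two (loc_of hC hO) hq with h | h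
    · exact Or.inl ⟨h, hna⟩
    · exact Or.inr (Or.inl h)
  set U := Cfsg.pCore 2 G with hUdef
  have hU2 : IsPGroup 2 ↥U := Cores.pCore_isPGroup
  refine Or.inr (Or.inr ⟨U, inferInstance, hU, hU2, hsimp, ?_⟩)
  rcases h with ⟨n, hn, ⟨e⟩⟩ | h
  · haveI := hsimp
    haveI : Fintype (GaloisField 2 n) := Fintype.ofFinite _
    have hcard : 4 ≤ Fintype.card (GaloisField 2 n) := by
      rw [← Nat.card_eq_fintype_card, GaloisField.card 2 n (by omega), show (4 : ℕ) = 2 ^ 2 from rfl]
      exact Nat.pow_le_pow_right (by norm_num) hn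
    have hQns : ¬ Group.IsSolvable (G ⧸ U) := fun h => hns <| by
      haveI : Group.IsNilpotent ↥U := hU2.isNilpotent
      exact (Group.isSolvable_iff_subgroup_quotient _).2 ⟨inferInstance, h⟩
    have hQna : ¬ IsMulCommutative (G ⧸ U) := fun h =>
      hQns (isSolvable_of_comm fun a b => h.is_comm.comm a b)
    obtain ⟨x, hx⟩ := exists_order_three (F := GaloisField 2 n)
    obtain ⟨y, hy⟩ := QuotientGroup.mk'_surjective U (e.symm x)
    have hyo : orderOf (QuotientGroup.mk' U y) = 3 := by rw [hy, MulEquiv.orderOf_eq, hx]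
    obtain ⟨g, hgodd, hgy⟩ := exists_odd_preimage (QuotientGroup.mk' U) (y := y) (by rw [hyo]; decide)
    have hg3 : orderOf g = 3 := by
      haveI : Fact (Nat.Prime 3) := ⟨Nat.prime_three⟩
      refine orderOf_eq_prime (eq_one_of_mem_two hU2 ?_ (hgodd.of_dvd_nat (orderOf_pow_dvd 3))) ?_
      · rw [← QuotientGroup.eq_one_iff, QuotientGroup.mk_pow]
        show (QuotientGroup.mk' U g) ^ 3 = 1
        rw [hgy, ← hyo, pow_orderOf_eq_one]
      · rintro rfl
        rw [map_one] at hgy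
        rw [← hgy, orderOf_one] at hyo
        omega
    obtain ⟨hcomm, hex⟩ := elementary_of_three hC hU2 hQna (even_of_not_solvable hQns) hg3
    exact Or.inl ⟨⟨⟨fun a b => Subtype.ext (hcomm a a.2 b b.2)⟩⟩, hex, GaloisField 2 n, inferInstance,
      inferInstance, inferInstance, hcard, ⟨e⟩⟩
  · exact Or.inr h

/-- The structure of a non-solvable CN-group. -/
theorem cn_structure (hns : ¬ Group.IsSolvable G)
    (hCN : ∀ x : G, x ≠ 1 → Group.IsNilpotent (Subgroup.centralizer ({x} : Set G))) :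
    (IsSimpleGroup G ∧ ¬ IsMulCommutative G) ∨
    (∃ N : Subgroup G, N.Normal ∧ N.index = 2 ∧ ∃ (F : Type) (_ : Field F) (_ : Fintype F),
        Fintype.card F = 9 ∧ Nonempty (↥N ≃* Matrix.ProjectiveSpecialLinearGroup (Fin 2) F)) ∨
    (∃ (N : Subgroup G) (_ : N.Normal), N ≠ ⊥ ∧ IsPGroup 2 ↥N ∧ IsSimpleGroup (G ⧸ N) ∧
      ((IsMulCommutative ↥N ∧ (∀ x ∈ N, x * x = 1) ∧
          ∃ (F : Type) (_ : Field F) (_ : Fintype F), CharP F 2 ∧ 4 ≤ Fintype.card F ∧
            Nonempty (G ⧸ N ≃* Matrix.ProjectiveSpecialLinearGroup (Fin 2) F)) ∨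
        Cfsg.IsSuzuki (G ⧸ N))) :=
  cit_structure (cit_of_cn_nonsolvable hns hCN) hns

end Cfsg.Agent.H65.CIT
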