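import Cfsg.Agent.H65.CIT.Weights

/-!
# General facts about the amalgam

The involutions of `T` lie in `P₁ ∪ P₂`, these are the only elementary subgroups of order `q ^ 2` of `T`, and every
element of `P₁` is conjugate in `X₁` into `Z`.
-/

set_option autoImplicit false
set_option linter.unusedSectionVars false
set_option linter.style.haveILetI false
set_option linter.dupNamespace false

namespace Cfsg.Agent.H65.CIT

open Subgroup

universe u

variable {G : Type u} [Group G] [Finite G]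

namespace Amalgam

omit [Finite G] in
/-- The amalgam with its two sides exchanged. -/
def swap (A : Amalgam G) : Amalgam G where
  T := A.T
  X₁ := A.X₂
  P₁ := A.P₂
  X₂ := A.X₁
  P₂ := A.P₁
  q := A.q
  two_le := A.two_le
  h₁ := A.h₂
  h₂ := A.h₁
  hT₁ := A.hT₂
  hT₂ := A.hT₁
  ex₁ := A.ex₂
  ex₂ := A.ex₁
  cardP₁ := A.cardP₂
  cardP₂ := A.cardP₁
  cardZ := by rw [inf_comm]; exact A.cardZ
  cardT := A.cardT
  cardX₁ := A.cardX₂
  cardX₂ := A.cardX₁
  sq₁ := A.sq₂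
  sq₂ := A.sq₁
  cent₁ := fun t ht h => (A.cent₂ t ht h).trans (inf_comm _ _)
  cent₂ := fun t ht h => (A.cent₁ t ht h).trans (inf_comm _ _)
  three₁ := A.three₂
  three₂ := A.three₁

variable (A : Amalgam G)

theorem le₁ : A.P₁ ≤ A.T := A.h₁.le_syl A.hT₁

theorem le₂ : A.P₂ ≤ A.T := A.h₂.le_syl A.hT₂

theorem T_le₂ : A.P₂ ≤ normalizer (A.P₁ : Set G) := A.le₂.trans (A.hT₁.1.trans A.h₁.le_norm)

theorem sup_eq : A.P₁ ⊔ A.P₂ = A.T := by
  refine Subgroup.eq_of_le_of_card_ge (sup_le A.le₁ A.le₂) ?_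
  have hc := card_sup_mul A.P₂ A.P₁ A.T_le₂
  rw [sup_comm, inf_comm, A.cardP₁, A.cardP₂, A.cardZ] at hc
  refine Nat.le_of_mul_le_mul_right ?_ (show 0 < A.q by have := A.two_le; omega)
  rw [hc, A.cardT]
  exact le_of_eq (by ring)

theorem ne : A.P₁ ≠ A.P₂ := fun e => by
  have h1 := A.cardZ
  rw [← e, inf_idem, A.cardP₁, pow_two] at h1
  have := A.two_le
  nlinarith

theorem invol_mem {x : G} (hx : x ∈ A.T) (hx2 : x * x = 1) : x ∈ A.P₁ ∨ x ∈ A.P₂ := by
  by_contra hcon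
  push Not at hcon
  obtain ⟨hx1, hx2'⟩ := hcon
  have hx' := hx
  rw [← A.sup_eq, ← SetLike.mem_coe, Subgroup.coe_mul_of_right_le_normalizer_left _ _ A.T_le₂] at hx'
  obtain ⟨a, ha, b, hb, rfl⟩ := hx'
  have haP : a ∉ A.P₂ := fun e => hx2' (A.P₂.mul_mem e hb)
  have h1 : Commute b a := by
    rw [commute_iff_eq]
    calc b * a = a * a * (b * a) * (b * b) := by rw [A.ex₁ a ha, A.ex₂ b hb, one_mul, mul_one]
      _ = a * ((a * b) * (a * b)) * b := by group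
      _ = a * b := by rw [hx2, mul_one]
  have h2 : b ∈ A.P₂ ⊓ centralizer ({a} : Set G) := ⟨hb, mem_cent.2 h1⟩
  rw [A.cent₂ a (A.le₁ ha) haP] at h2
  exact hx1 (A.P₁.mul_mem ha h2.1)

theorem elem_eq {E : Subgroup G} (hET : E ≤ A.T) (hE : Ex2 E) (hc : A.q ^ 2 ≤ Nat.card ↥E) :
    E = A.P₁ ∨ E = A.P₂ := by
  have hcases : E ≤ A.P₁ ∨ E ≤ A.P₂ := by
    by_contra hcon
    push Not at hcon
    obtain ⟨⟨a, ha, ha1⟩, b, hb, hb2⟩ :=
      And.intro (SetLike.not_le_iff_exists.1 hcon.1) (SetLike.not_le_iff_exists.1 hcon.2)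
    have ha2 := (A.invol_mem (hET ha) (hE a ha)).resolve_left ha1
    have hb1 := (A.invol_mem (hET hb) (hE b hb)).resolve_right hb2
    rcases A.invol_mem (A.T.mul_mem (hET ha) (hET hb)) (hE _ (E.mul_mem ha hb)) with h | h
    · exact ha1 (by simpa using A.P₁.mul_mem h (A.P₁.inv_mem hb1))
    · exact hb2 (by simpa using A.P₂.mul_mem (A.P₂.inv_mem ha2) h)
  rcases hcases with h | h
  · exact Or.inl (Subgroup.eq_of_le_of_card_ge h (by rwa [A.cardP₁]))
  · exact Or.inr (Subgroup.eq_of_le_of_card_ge h (by rwa [A.cardP₂]))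

/-- An element normalising `T` and `P₁` normalises `P₂`. -/
theorem norm₂ {g : G} (hgT : g ∈ normalizer (A.T : Set G)) (hg : g ∈ A.X₁) : g ∈ A.X₂ := by
  rw [← A.h₂.norm]
  refine mem_normalizer_of_cj ?_
  have hle : cj g A.P₂ ≤ A.T := (cj_le A.le₂).trans (cj_eq_of_mem hgT).le
  refine (A.elem_eq hle (A.ex₂.map g) (by rw [card_cj, A.cardP₂])).resolve_left fun e => A.ne ?_
  rw [← cj_inv g A.P₂, e, cj_eq_of_mem (inv_mem (A.h₁.le_norm hg))]

/-- An element normalising `T` fixes both or exchanges the two sides. -/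
theorem norm_cases {g : G} (hgT : g ∈ normalizer (A.T : Set G)) :
    g ∈ A.X₁ ∨ cj g A.P₁ = A.P₂ := by
  have hle : cj g A.P₁ ≤ A.T := (cj_le A.le₁).trans (cj_eq_of_mem hgT).le
  rcases A.elem_eq hle (A.ex₁.map g) (by rw [card_cj, A.cardP₁]) with h | h
  · exact Or.inl (A.h₁.norm ▸ mem_normalizer_of_cj h)
  · exact Or.inr h

variable (hL : Loc G)

include hL in
/-- Every element of `P₁` is conjugate in `X₁` into `Z`. -/
theorem exists_conj_Z {x : G} (hx : x ∈ A.P₁) :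
    ∃ h ∈ A.X₁, h * x * h⁻¹ ∈ A.P₁ ⊓ A.P₂ := by
  classical
  obtain ⟨w, hwX, -, -, hwi, hdec, -, -, -⟩ := A.side₁.torus hL
  obtain ⟨a, ha, b, hb, rfl⟩ := hdec x hx
  by_cases hb1 : b = 1
  · exact ⟨1, one_mem _, by simpa [hb1] using ha⟩
  set y := w * b * w⁻¹ with hy
  have hyP : y ∈ A.P₁ := inv_mem_of_conj_mem (A.h₁.le_norm hwX) hb.1
  have hyZ : y ∉ A.P₁ ⊓ A.P₂ := fun h => hb1 (hwi b hb h)
  let f : ↥A.T →* ↥(A.P₁ ⊓ A.P₂) :=
    { toFun := fun t => ⟨t * y * (t : G)⁻¹ * y, A.side₁.comm_mem t.2 hyP⟩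
      map_one' := Subtype.ext (by simpa using A.ex₁ y hyP)
      map_mul' := fun s t => by
        refine Subtype.ext ?_
        show (s : G) * t * y * ((s : G) * t)⁻¹ * y =
          (s * y * (s : G)⁻¹ * y) * (t * y * (t : G)⁻¹ * y)
        have hc := A.side₁.comm_mem t.2 hyP
        rw [← ((A.ex₁.commute (A.side₁.comm_mem s.2 hyP).1 hc.1)).symm.eq,
          show (s : G) * t * y * ((s : G) * t)⁻¹ * y =
            (s * (t * y * (t : G)⁻¹ * y) * (s : G)⁻¹) * (s * y⁻¹ * (s : G)⁻¹ * y) by group,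
          A.ex₁.inv hyP, (A.commute_Z hc s.2).eq, mul_inv_cancel_right] }
  have hker : f.ker ≤ A.P₁.subgroupOf A.T := by
    intro t ht
    refine mem_subgroupOf.2 ?_
    by_contra htP
    have h1 : (t : G) * y * (t : G)⁻¹ * y = 1 := congrArg Subtype.val (MonoidHom.mem_ker.1 ht)
    have h2 : Commute y (t : G) := by
      have h3 := eq_inv_of_mul_eq_one_left h1
      rw [A.ex₁.inv hyP] at h3
      exact (mul_inv_eq_iff_eq_mul.1 h3).symm
    exact hyZ ((A.cent₁ t t.2 htP).le ⟨hyP, mem_cent.2 h2⟩)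
  have h1 := f.ker.card_mul_index
  rw [Subgroup.index_ker, A.cardT] at h1
  have h2 : Nat.card ↥f.ker ≤ A.q ^ 2 := by
    refine (Nat.card_le_card_of_injective _ (Subgroup.inclusion_injective hker)).trans ?_
    rw [Nat.card_congr (subgroupOfEquivOfLe A.le₁).toEquiv, A.cardP₁]
  have htop : f.range = ⊤ := by
    refine Subgroup.eq_top_of_le_card _ ?_
    rw [A.cardZ]
    have hq : 0 < A.q ^ 2 := by have := A.two_le; positivity
    refine Nat.le_of_mul_le_mul_left ?_ hq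
    rw [← pow_succ, ← h1]
    exact Nat.mul_le_mul_right _ h2
  obtain ⟨t, ht⟩ := (htop.ge (mem_top (⟨a, ha⟩ : ↥(A.P₁ ⊓ A.P₂))))
  have ht' : (t : G) * y * (t : G)⁻¹ * y = a := congrArg Subtype.val ht
  refine ⟨w⁻¹ * (t : G)⁻¹, A.X₁.mul_mem (A.X₁.inv_mem hwX) (A.X₁.inv_mem (A.hT₁.1 t.2)), ?_⟩
  have hx' : a * y = t * y * (t : G)⁻¹ := by rw [← ht', mul_assoc, A.ex₁ y hyP, mul_one]
  rw [hx', hy, show w⁻¹ * (t : G)⁻¹ * ((t : G) * (w * b * w⁻¹) * (t : G)⁻¹) * (w⁻¹ * (t : G)⁻¹)⁻¹ = b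
    by group]
  exact hb

end Amalgam

end Cfsg.Agent.H65.CIT
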