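import Cfsg.Agent.H65.Invol
import Cfsg.Agent.H26.Invol
import Cfsg.Agent.Thompson.BaerSuzuki
import Cfsg.Agent.Coprime.SchurZassenhaus
import Cfsg.Agent.Coprime.Action
import Cfsg.Agent.Cores.PCore
import Cfsg.Agent.Frobenius.Basic

/-!
# Groups in which centralisers of involutions are 2-groups: elementary facts

Elements of odd order act without fixed points on 2-subgroups; the property passes to subgroups and to
quotients by 2-subgroups; involutions invert elements of odd order.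
-/

set_option autoImplicit false
set_option linter.unusedSectionVars false
set_option linter.style.haveILetI false
set_option linter.dupNamespace false

namespace Cfsg.Agent.H65.CIT

open Subgroup

universe u

variable {G : Type u} [Group G]

/-- The centraliser of every involution is a 2-group. -/
def CIT (G : Type u) [Group G] : Prop :=
  ∀ t : G, orderOf t = 2 → IsPGroup 2 ↥(centralizer ({t} : Set G))

theorem mem_cent {y x : G} : y ∈ centralizer ({x} : Set G) ↔ Commute y x :=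
  mem_centralizer_singleton_iff

/-- An element of odd order in a 2-group is trivial. -/
theorem eq_one_of_pow_two {x : G} {k : ℕ} (hk : x ^ (2 ^ k) = 1) (hx : Odd (orderOf x)) : x = 1 :=
  orderOf_eq_one_iff.1 (Nat.eq_one_of_dvd_coprimes ((Nat.coprime_two_left.2 hx).pow_left k)
    (orderOf_dvd_of_pow_eq_one hk) dvd_rfl)

theorem eq_one_of_mem_two {P : Subgroup G} (hP : IsPGroup 2 ↥P) {x : G} (hx : x ∈ P)
    (hodd : Odd (orderOf x)) : x = 1 := by
  obtain ⟨k, hk⟩ := hP ⟨x, hx⟩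
  exact eq_one_of_pow_two (congrArg Subtype.val hk) hodd

theorem pow_two_of_mem {P : Subgroup G} (hP : IsPGroup 2 ↥P) {x : G} (hx : x ∈ P) :
    ∃ k : ℕ, x ^ (2 ^ k) = 1 := by
  obtain ⟨k, hk⟩ := hP ⟨x, hx⟩
  exact ⟨k, congrArg Subtype.val hk⟩

theorem inv_mem_of_conj_mem {P : Subgroup G} {g : G}
    (h : g ∈ normalizer (P : Set G)) {x : G} (hx : x ∈ P) : g * x * g⁻¹ ∈ P :=
  (mem_normalizer_iff.1 h x).1 hx

/-- A nontrivial element of 2-power order has a power of order two. -/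
theorem exists_invol_pow {x : G} (h1 : x ≠ 1) {k : ℕ} (hk : x ^ (2 ^ k) = 1) :
    ∃ n : ℕ, orderOf (x ^ n) = 2 := by
  obtain ⟨j, -, hj⟩ := (Nat.dvd_prime_pow Nat.prime_two).1 (orderOf_dvd_of_pow_eq_one hk)
  have hj0 : j ≠ 0 := fun h => h1 (orderOf_eq_one_iff.1 (by rw [hj, h, pow_zero]))
  refine ⟨2 ^ (j - 1), ?_⟩
  rw [orderOf_pow_of_dvd (by positivity) (hj ▸ pow_dvd_pow 2 (by omega)), hj,
    Nat.pow_div (by omega) (by norm_num), show j - (j - 1) = 1 by omega, pow_one]

theorem exists_invol_mem {P : Subgroup G} (hP : IsPGroup 2 ↥P) {x : G} (hx : x ∈ P) (h1 : x ≠ 1) :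
    ∃ n : ℕ, orderOf (x ^ n) = 2 :=
  (pow_two_of_mem hP hx).elim fun _ hk => exists_invol_pow h1 hk

/-- A nontrivial subgroup of 2-power order contains an involution. -/
theorem exists_invol {P : Subgroup G} (hP : IsPGroup 2 ↥P) (hne : P ≠ ⊥) :
    ∃ t ∈ P, orderOf t = 2 := by
  obtain ⟨x, hx, h1⟩ := P.bot_or_exists_ne_one.resolve_left hne
  obtain ⟨n, hn⟩ := exists_invol_mem hP hx h1
  exact ⟨_, pow_mem hx n, hn⟩

namespace CIT

variable (hC : CIT G)

include hC in
/-- An element of odd order commuting with a nontrivial element of 2-power order is trivial. -/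
theorem eq_one_of_commute {x g : G} (h1 : x ≠ 1) {k : ℕ} (hk : x ^ (2 ^ k) = 1)
    (hg : Odd (orderOf g)) (hc : Commute g x) : g = 1 := by
  obtain ⟨n, hn⟩ := exists_invol_pow h1 hk
  exact eq_one_of_mem_two (hC _ hn) (mem_cent.2 (hc.pow_right n)) hg

include hC in
theorem eq_one_of_commute_mem {P : Subgroup G} (hP : IsPGroup 2 ↥P) {x g : G} (hx : x ∈ P)
    (hg : Odd (orderOf g)) (hg1 : g ≠ 1) (hc : Commute g x) : x = 1 := by
  by_contra h1
  obtain ⟨k, hk⟩ := pow_two_of_mem hP hx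
  exact hg1 (hC.eq_one_of_commute h1 hk hg hc)

include hC in
theorem isPGroup_centralizer {x : G} (h1 : x ≠ 1) {k : ℕ} (hk : x ^ (2 ^ k) = 1) :
    IsPGroup 2 ↥(centralizer ({x} : Set G)) := by
  obtain ⟨n, hn⟩ := exists_invol_pow h1 hk
  exact (hC _ hn).to_le fun y hy => mem_cent.2 ((mem_cent.1 hy).pow_right n)

include hC in
theorem isPGroup_centralizer_set {P : Subgroup G} (hP : IsPGroup 2 ↥P) (hne : P ≠ ⊥) :
    IsPGroup 2 ↥(centralizer (P : Set G)) := by
  obtain ⟨x, hx, h1⟩ := P.bot_or_exists_ne_one.resolve_left hne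
  obtain ⟨k, hk⟩ := pow_two_of_mem hP hx
  exact (hC.isPGroup_centralizer h1 hk).to_le
    (centralizer_le (Set.singleton_subset_iff.2 hx))

include hC in
theorem subgroup (X : Subgroup G) : CIT ↥X := by
  intro t ht
  refine (hC (t : G) (by rwa [Subgroup.orderOf_coe])).comap_subtype (K := X) |>.to_le ?_
  intro y hy
  exact mem_subgroupOf.2 (mem_cent.2 (congrArg Subtype.val (mem_cent.1 hy).eq))

include hC in
/-- The coset of a 2-element fixed by an odd element contains a centralised element. -/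
theorem eq_one_of_commute_mod [Finite G] {N : Subgroup G} (hN : IsPGroup 2 ↥N) {t g : G}
    (htN : t ∈ normalizer (N : Set G)) (hgN : g ∈ normalizer (N : Set G)) {k : ℕ}
    (htk : t ^ (2 ^ k) ∈ N) (ht : t ∉ N) (hg : Odd (orderOf g))
    (hc : g * t * g⁻¹ * t⁻¹ ∈ N) : g = 1 := by
  haveI : Fact (Nat.Prime 2) := ⟨Nat.prime_two⟩
  have hK : IsPGroup 2 ↥(zpowers t ⊔ N) := by
    obtain ⟨a, ha⟩ := pow_two_of_mem hN htk
    rw [← pow_mul, ← pow_add] at ha
    obtain ⟨j, -, hj⟩ := (Nat.dvd_prime_pow Nat.prime_two).1 (orderOf_dvd_of_pow_eq_one ha)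
    exact (IsPGroup.of_card (n := j) (by rw [Nat.card_zpowers, hj])).to_sup_of_normal_right' hN
      (zpowers_le.2 htN)
  have hKN : zpowers t ⊔ N ≤ normalizer (N : Set G) := sup_le (zpowers_le.2 htN) le_normalizer
  have hgt : g * t * g⁻¹ ∈ zpowers t ⊔ N := by
    have := mul_mem (mem_sup_right (S := zpowers t) hc) (mem_sup_left (T := N) (mem_zpowers t))
    simpa using this
  have hgK : g ∈ normalizer ((zpowers t ⊔ N : Subgroup G) : Set G) := by
    have hle : (zpowers t ⊔ N).map (MulAut.conj g).toMonoidHom ≤ zpowers t ⊔ N := by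
      rw [Subgroup.map_sup]
      refine sup_le ?_ ?_
      · rw [MonoidHom.map_zpowers]
        exact zpowers_le.2 hgt
      · rintro _ ⟨y, hy, rfl⟩
        exact mem_sup_right (inv_mem_of_conj_mem hgN hy)
    have heq : (zpowers t ⊔ N).map (MulAut.conj g).toMonoidHom = zpowers t ⊔ N :=
      Subgroup.eq_of_le_of_card_ge hle (le_of_eq
        (Nat.card_congr ((zpowers t ⊔ N).equivMapOfInjective _ (MulAut.conj g).injective).toEquiv))
    rw [mem_normalizer_iff]
    intro y
    conv_rhs => rw [← heq]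
    constructor
    · intro hy
      exact ⟨y, hy, rfl⟩
    · rintro ⟨z, hz, hzy⟩
      rwa [← (MulAut.conj g).injective hzy]
  have hcop : (Nat.card ↥(zpowers g)).Coprime (Nat.card ↥(zpowers t ⊔ N)) := by
    obtain ⟨j, hj⟩ := IsPGroup.iff_card.1 hK
    rw [Nat.card_zpowers, hj]
    exact (Nat.coprime_two_right.2 hg).pow_right j
  haveI := hK.isNilpotent
  obtain ⟨c, hc', hcn⟩ := Coprime.exists_centralizer_mem_coset (A := zpowers g)
    (K := zpowers t ⊔ N) (N := N) (zpowers_le.2 hgK) hcop (Or.inr inferInstance) le_sup_right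
    (zpowers_le.2 hgN) (mem_sup_left (mem_zpowers t)) fun a ha => by
      have hfix : t⁻¹ * (g * t * g⁻¹) ∈ N := by
        have := inv_mem_of_conj_mem (inv_mem htN) hc
        simpa [mul_assoc] using this
      obtain ⟨i, rfl⟩ := mem_zpowers_iff.1 ha
      clear ha
      induction i with
      | zero => simp
      | succ i ih =>
        have := mul_mem hfix (inv_mem_of_conj_mem hgN ih)
        rw [add_comm, zpow_add, zpow_one]
        convert this using 1
        group
      | pred i ih =>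
        have h1 : t⁻¹ * (g⁻¹ * t * g) ∈ N := by
          have := inv_mem_of_conj_mem (inv_mem hgN) (inv_mem hfix)
          simpa [mul_assoc] using this
        have := mul_mem h1 (inv_mem_of_conj_mem (inv_mem hgN) ih)
        rw [sub_eq_add_neg, add_comm, zpow_add, zpow_neg_one]
        convert this using 1
        group
  have hc1 : c ≠ 1 := fun h => ht (by
    rw [h, mul_one] at hcn
    simpa using inv_mem hcn)
  obtain ⟨j, hj⟩ := pow_two_of_mem hK hc'.1
  exact hC.eq_one_of_commute hc1 hj hg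
    (mem_centralizer_iff.1 hc'.2 g (mem_zpowers g))

end CIT

/-- A preimage of odd order. -/
theorem exists_odd_preimage {H : Type*} [Group H] [Finite G] (f : G →* H) {y : G}
    (hy : Odd (orderOf (f y))) : ∃ g : G, Odd (orderOf g) ∧ f g = f y := by
  obtain ⟨a, m, hm, hnm⟩ := Nat.exists_eq_two_pow_mul_odd (orderOf_pos y).ne'
  obtain ⟨b, hb⟩ := exists_pow_eq_self_of_coprime (x := f y) (n := 2 ^ a)
    ((Nat.coprime_two_left.2 hy).pow_left a)
  refine ⟨(y ^ (2 ^ a)) ^ b, ?_, ?_⟩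
  · refine hm.of_dvd_nat ((orderOf_pow_dvd b).trans (orderOf_dvd_of_pow_eq_one ?_))
    rw [← pow_mul, ← hnm, pow_orderOf_eq_one]
  · rw [map_pow, map_pow]
    exact hb

/-- The quotient by a normal 2-subgroup inherits the property. -/
theorem CIT.quotient [Finite G] (hC : CIT G) (N : Subgroup G) [N.Normal] (hN : IsPGroup 2 ↥N) :
    CIT (G ⧸ N) := by
  intro t ht c
  obtain ⟨a, m, hm, hnm⟩ := Nat.exists_eq_two_pow_mul_odd (orderOf_pos c).ne'
  refine ⟨a, ?_⟩
  obtain ⟨t₀, rfl⟩ := QuotientGroup.mk'_surjective N t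
  obtain ⟨y, hy⟩ := QuotientGroup.mk'_surjective N ((c : G ⧸ N) ^ (2 ^ a))
  have hyo : Odd (orderOf (QuotientGroup.mk' N y)) := by
    rw [hy]
    refine hm.of_dvd_nat (orderOf_dvd_of_pow_eq_one ?_)
    rw [← pow_mul, ← hnm, ← Subgroup.orderOf_coe, pow_orderOf_eq_one]
  obtain ⟨g, hg, hgy⟩ := exists_odd_preimage (QuotientGroup.mk' N) hyo
  rw [hy] at hgy
  have hcomm : Commute (QuotientGroup.mk' N g) (QuotientGroup.mk' N t₀) := by
    rw [hgy]
    exact (mem_cent.1 c.2).pow_left _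
  have hmem : g * t₀ * g⁻¹ * t₀⁻¹ ∈ N := by
    rw [← QuotientGroup.eq_one_iff, QuotientGroup.mk_mul, QuotientGroup.mk_mul, QuotientGroup.mk_mul,
      QuotientGroup.mk_inv, QuotientGroup.mk_inv]
    rw [show (↑g : G ⧸ N) * ↑t₀ = ↑t₀ * ↑g from hcomm]
    group
  have h1 := hC.eq_one_of_commute_mod hN (mem_normalizer_iff.2 fun x => ⟨fun h =>
      (inferInstance : N.Normal).conj_mem x h t₀, fun h => by
        have := (inferInstance : N.Normal).conj_mem _ h t₀⁻¹
        simpa [mul_assoc] using this⟩) (mem_normalizer_iff.2 fun x => ⟨fun h =>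
      (inferInstance : N.Normal).conj_mem x h g, fun h => by
        have := (inferInstance : N.Normal).conj_mem _ h g⁻¹
        simpa [mul_assoc] using this⟩) (k := 1) ?_ ?_ hg hmem
  · refine Subtype.ext ?_
    rw [SubmonoidClass.coe_pow, ← hgy, h1, map_one, OneMemClass.coe_one]
  · rw [pow_one, ← QuotientGroup.eq_one_iff, QuotientGroup.mk_pow]
    show (QuotientGroup.mk' N t₀) ^ 2 = 1
    rw [← ht]; exact pow_orderOf_eq_one _
  · intro h
    exact H65.ne_one_of_orderOf ht ((QuotientGroup.eq_one_iff t₀).2 h)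

/-- If `t` inverts an element `g` of odd order without fixed points on `P`, then `t` centralises at
most the square root of `P`. -/
theorem card_centralizer_sq_le {P : Subgroup G} [Finite ↥P] {t g : G}
    (hgP : g ∈ normalizer (P : Set G)) (hg : Odd (orderOf g))
    (hinv : t * g * t⁻¹ = g⁻¹) (hfp : ∀ x ∈ P, Commute g x → x = 1) :
    Nat.card ↥(P ⊓ centralizer ({t} : Set G)) ^ 2 ≤ Nat.card ↥P := by
  let f : ↥(P ⊓ centralizer ({t} : Set G)) × ↥(P ⊓ centralizer ({t} : Set G)) → ↥P := fun p =>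
    ⟨(p.1 : G) * (g * (p.2 : G) * g⁻¹), mul_mem p.1.2.1 (inv_mem_of_conj_mem hgP p.2.2.1)⟩
  have hf : Function.Injective f := by
    rintro ⟨a, b⟩ ⟨c, d⟩ h
    have h' : (a : G) * (g * (b : G) * g⁻¹) = (c : G) * (g * (d : G) * g⁻¹) := congrArg Subtype.val h
    set w : G := (d : G) * (b : G)⁻¹ with hw
    have hwP : w ∈ P := mul_mem d.2.1 (inv_mem b.2.1)
    have hwt : Commute w t := (mem_cent.1 d.2.2).mul_left (mem_cent.1 b.2.2).inv_left
    have he : g * w * g⁻¹ = (c : G)⁻¹ * (a : G) := by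
      rw [eq_inv_mul_iff_mul_eq, hw]
      calc (c : G) * (g * ((d : G) * (b : G)⁻¹) * g⁻¹)
          = (c : G) * (g * (d : G) * g⁻¹) * (g * (b : G) * g⁻¹)⁻¹ := by group
        _ = _ := by rw [← h']; group
    have hgwt : Commute (g * w * g⁻¹) t := by
      rw [he]; exact (mem_cent.1 c.2.2).inv_left.mul_left (mem_cent.1 a.2.2)
    -- so `g ^ 2` centralises `w`
    have hg2 : Commute (g ^ 2) w := by
      have h1 : t * (g * w * g⁻¹) * t⁻¹ = g * w * g⁻¹ := by
        rw [mul_inv_eq_iff_eq_mul]; exact hgwt.symm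
      have h2 : t * (g * w * g⁻¹) * t⁻¹ = g⁻¹ * w * g := by
        rw [show t * (g * w * g⁻¹) * t⁻¹ = (t * g * t⁻¹) * (t * w * t⁻¹) * (t * g * t⁻¹)⁻¹ by group,
          hinv, inv_inv, ← hwt.eq, mul_inv_cancel_right]
      rw [h2] at h1
      rw [commute_iff_eq, pow_two]
      calc g * g * w = g * (g * w * g⁻¹) * g := by group
        _ = g * (g⁻¹ * w * g) * g := by rw [h1]
        _ = _ := by group
    obtain ⟨j, hj⟩ := hg
    have hgw : Commute g w := by
      have : g = (g ^ 2) ^ (j + 1) := by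
        rw [← pow_mul, show 2 * (j + 1) = orderOf g + 1 by omega, pow_succ, pow_orderOf_eq_one,
          one_mul]
      rw [this]; exact hg2.pow_left _
    have hw1 := hfp w hwP hgw
    rw [hw1, mul_one, mul_inv_cancel] at he
    exact Prod.ext (Subtype.ext (inv_mul_eq_one.1 he.symm).symm)
      (Subtype.ext (mul_inv_eq_one.1 (hw ▸ hw1)).symm)
  have := Nat.card_le_card_of_injective f hf
  rwa [Nat.card_prod, ← pow_two] at this

/-- Baer–Suzuki: an involution outside `O_2` inverts a nontrivial element of odd order. -/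
theorem exists_inverted_odd [Finite G] (hO : Cfsg.pCore 2 G = ⊥) {t : G} (ht : orderOf t = 2) :
    ∃ g : G, g ≠ 1 ∧ Odd (orderOf g) ∧ t * g * t⁻¹ = g⁻¹ := by
  haveI : Fact (Nat.Prime 2) := ⟨Nat.prime_two⟩
  have ht2 := H65.mul_self_eq_one ht
  by_contra hcon
  obtain ⟨N, hN, hNp, htN⟩ := Thompson.baer_suzuki (p := 2) (x := t) fun g => by
    have hg2 : (g * t * g⁻¹) * (g * t * g⁻¹) = 1 := by
      rw [show g * t * g⁻¹ * (g * t * g⁻¹) = g * (t * t) * g⁻¹ by group, ht2]
      group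
    obtain ⟨a, m, hm, hnm⟩ :=
      Nat.exists_eq_two_pow_mul_odd (orderOf_pos (t * (g * t * g⁻¹))).ne'
    refine H26.isPGroup_closure_pair ht2 hg2 (a := a) ?_
    by_contra hd
    refine hcon ⟨_, hd, hm.of_dvd_nat (orderOf_dvd_of_pow_eq_one ?_), ?_⟩
    · rw [← pow_mul, ← hnm, pow_orderOf_eq_one]
    · rw [H65.inv_eq_self ht, ← zpow_natCast]
      have := H26.conj_zpow_mul ht2 hg2 ((2 : ℕ) ^ a : ℕ)
      rw [zpow_neg] at this
      exact this
  have h1 := Cores.le_pCore (p := 2) (N := N) hNp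
  rw [hO, le_bot_iff] at h1
  exact H65.ne_one_of_orderOf ht (Subgroup.mem_bot.1 (h1 ▸ htN))

/-- An inverted element modulo a normal 2-subgroup lifts: some involution of the coset inverts an odd
element. -/
theorem CIT.exists_invol_inverts [Finite G] (hC : CIT G) {P : Subgroup G} (hP : IsPGroup 2 ↥P)
    {t g : G} (htP : t ∈ normalizer (P : Set G)) (hgP : g ∈ normalizer (P : Set G))
    (ht2 : t * t ∈ P) (ht : t ∉ P) (hg : Odd (orderOf g)) (hg1 : g ≠ 1)
    (hinv : t * g * t⁻¹ * g ∈ P) :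
    ∃ n ∈ P, orderOf (n * t) = 2 ∧ (n * t) * g * (n * t)⁻¹ = g⁻¹ := by
  haveI : Fact (Nat.Prime 2) := ⟨Nat.prime_two⟩
  haveI := hP.isNilpotent
  set H := zpowers g with hH
  have hcop : (Nat.card ↥H).Coprime (Nat.card ↥P) := by
    obtain ⟨j, hj⟩ := IsPGroup.iff_card.1 hP
    rw [hH, Nat.card_zpowers, hj]
    exact (Nat.coprime_two_right.2 hg).pow_right j
  have hle : H.map (MulAut.conj t).toMonoidHom ≤ P ⊔ H := by
    rw [hH, MonoidHom.map_zpowers, zpowers_le]
    have h1 : (t * g * t⁻¹ * g) * g⁻¹ ∈ P ⊔ H :=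
      mul_mem (mem_sup_left hinv) (mem_sup_right (inv_mem (mem_zpowers g)))
    rwa [mul_inv_cancel_right] at h1
  obtain ⟨n, hn, he⟩ := Coprime.exists_conj_of_le_sup (zpowers_le.2 hgP) hle
    (Nat.card_congr (H.equivMapOfInjective _ (MulAut.conj t).injective).toEquiv).symm hcop
    (Or.inr inferInstance)
  refine ⟨n⁻¹, inv_mem hn, ?_⟩
  set t₁ := n⁻¹ * t with ht₁
  have ht₁H : t₁ * g * t₁⁻¹ ∈ H := by
    have : (MulAut.conj t) g ∈ H.map (MulAut.conj n).toMonoidHom :=
      he ▸ mem_map_of_mem _ (mem_zpowers g)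
    obtain ⟨y, hy, hye⟩ := mem_map.1 this
    have hye' : n * y * n⁻¹ = t * g * t⁻¹ := hye
    have : t₁ * g * t₁⁻¹ = y := by
      rw [ht₁, show n⁻¹ * t * g * (n⁻¹ * t)⁻¹ = n⁻¹ * (t * g * t⁻¹) * n by group, ← hye']
      group
    rw [this]; exact hy
  have hconj : t₁ * g * t₁⁻¹ = g⁻¹ := by
    have hmem : (t₁ * g * t₁⁻¹) * g ∈ P := by
      have h1 : n⁻¹ * (t * g * t⁻¹ * g) * ((g⁻¹ * n * g)) ∈ P := by
        refine mul_mem (mul_mem (inv_mem hn) hinv) ?_
        have := inv_mem_of_conj_mem (inv_mem hgP) hn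
        rwa [inv_inv] at this
      rw [ht₁, show n⁻¹ * t * g * (n⁻¹ * t)⁻¹ * g = n⁻¹ * (t * g * t⁻¹ * g) * (g⁻¹ * n * g) by group]
      exact h1
    have h0 : (t₁ * g * t₁⁻¹) * g ∈ P ⊓ H := ⟨hmem, mul_mem ht₁H (mem_zpowers g)⟩
    rw [(disjoint_of_coprime_natCard hcop.symm).eq_bot, mem_bot] at h0
    exact eq_inv_of_mul_eq_one_left h0
  have ht₁N : t₁ ∈ normalizer (P : Set G) := mul_mem (le_normalizer (inv_mem hn)) htP
  have hsq : t₁ * t₁ ∈ P := by
    rw [ht₁, show n⁻¹ * t * (n⁻¹ * t) = n⁻¹ * (t * n⁻¹ * t⁻¹) * (t * t) by group]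
    exact mul_mem (mul_mem (inv_mem hn) (inv_mem_of_conj_mem htP (inv_mem hn))) ht2
  have hcomm : Commute g (t₁ * t₁) := by
    have h2 : (t₁ * t₁) * g * (t₁ * t₁)⁻¹ = g := by
      rw [show t₁ * t₁ * g * (t₁ * t₁)⁻¹ = t₁ * (t₁ * g * t₁⁻¹) * t₁⁻¹ by group, hconj,
        ← conj_inv, hconj, inv_inv]
    exact (mul_inv_eq_iff_eq_mul.1 h2).symm
  refine ⟨H26.orderOf_two_of_mul_self (hC.eq_one_of_commute_mem hP hsq hg hg1 hcomm) fun h => ?_,
    hconj⟩
  exact ht (by
    have := mul_mem hn (h ▸ P.one_mem : t₁ ∈ P)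
    rwa [ht₁, mul_inv_cancel_left] at this)

end Cfsg.Agent.H65.CIT
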