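import Cfsg.Agent.H65.CIT.Basic
import Cfsg.Prelude.Def_Amalgam

/-!
# 2-local subgroups: Sylow subgroups and cores inside a subgroup
-/

set_option autoImplicit false
set_option linter.unusedSectionVars false
set_option linter.style.haveILetI false
set_option linter.dupNamespace false

namespace Cfsg.Agent.H65.CIT

open Subgroup

universe u

variable {G : Type u} [Group G] [Finite G]

/-- `O_2(X)` of a subgroup `X`. -/
abbrev O2 (X : Subgroup G) : Subgroup G := Cfsg.pCoreOf 2 X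

/-- The conjugate `g X g⁻¹`. -/
abbrev cj (g : G) (X : Subgroup G) : Subgroup G := X.map (MulAut.conj g).toMonoidHom

omit [Finite G] in
theorem mem_cj {g x : G} {X : Subgroup G} : x ∈ cj g X ↔ g⁻¹ * x * g ∈ X := by
  constructor
  · rintro ⟨y, hy, rfl⟩
    show g⁻¹ * (g * y * g⁻¹) * g ∈ X
    rwa [show g⁻¹ * (g * y * g⁻¹) * g = y by group]
  · intro h
    exact ⟨g⁻¹ * x * g, h, by show g * (g⁻¹ * x * g) * g⁻¹ = x; group⟩

omit [Finite G] in
theorem conj_mem_cj {g x : G} {X : Subgroup G} (hx : x ∈ X) : g * x * g⁻¹ ∈ cj g X :=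
  ⟨x, hx, rfl⟩

theorem card_cj (g : G) (X : Subgroup G) : Nat.card ↥(cj g X) = Nat.card ↥X :=
  (Nat.card_congr (X.equivMapOfInjective _ (MulAut.conj g).injective).toEquiv).symm

theorem cj_eq_of_mem {g : G} {X : Subgroup G} (h : g ∈ normalizer (X : Set G)) : cj g X = X :=
  Subgroup.eq_of_le_of_card_ge (by rintro _ ⟨y, hy, rfl⟩; exact inv_mem_of_conj_mem h hy)
    (card_cj g X).ge

omit [Finite G] in
theorem mem_normalizer_of_cj {g : G} {X : Subgroup G} (h : cj g X = X) :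
    g ∈ normalizer (X : Set G) := by
  rw [mem_normalizer_iff]
  intro y
  conv_rhs => rw [← h]
  rw [mem_cj]
  simp [mul_assoc]

omit [Finite G] in
theorem cj_le {g : G} {X Y : Subgroup G} (h : X ≤ Y) : cj g X ≤ cj g Y := Subgroup.map_mono h

omit [Finite G] in
theorem cj_inv (g : G) (X : Subgroup G) : cj g⁻¹ (cj g X) = X := by
  ext x
  rw [mem_cj, mem_cj]
  simp [mul_assoc]

omit [Finite G] in
theorem cj_inv' (g : G) (X : Subgroup G) : cj g (cj g⁻¹ X) = X := by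
  simpa using cj_inv g⁻¹ X

omit [Finite G] in
theorem cj_le_self {g : G} {X : Subgroup G} (h : g ∈ X) : cj g X ≤ X := by
  rintro _ ⟨y, hy, rfl⟩
  exact X.mul_mem (X.mul_mem h hy) (X.inv_mem h)

theorem cj_normalizer (g : G) (P : Subgroup G) :
    cj g (normalizer (P : Set G)) = normalizer ((cj g P : Subgroup G) : Set G) := by
  ext x
  rw [mem_cj, mem_normalizer_iff, mem_normalizer_iff]
  constructor
  · intro h y
    rw [mem_cj, mem_cj, h (g⁻¹ * y * g)]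
    simp [mul_assoc]
  · intro h y
    have := h (g * y * g⁻¹)
    rw [mem_cj, mem_cj] at this
    simpa [mul_assoc] using this

/-! ### `O_2` -/

omit [Finite G] in
theorem O2_le (X : Subgroup G) : O2 X ≤ X := map_subtype_le _

omit [Finite G] in
theorem isPGroup_O2 (X : Subgroup G) : IsPGroup 2 ↥(O2 X) := Cores.pCore_isPGroup.map _

omit [Finite G] in
theorem le_normalizer_O2 (X : Subgroup G) : X ≤ normalizer ((O2 X : Subgroup G) : Set G) := by
  intro x hx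
  rw [mem_normalizer_iff]
  intro y
  constructor
  · rintro ⟨z, hz, rfl⟩
    exact ⟨⟨x, hx⟩ * z * ⟨x, hx⟩⁻¹, (inferInstance : (Cfsg.pCore 2 ↥X).Normal).conj_mem z hz _, rfl⟩
  · rintro ⟨z, hz, hzy⟩
    refine ⟨⟨x, hx⟩⁻¹ * z * ⟨x, hx⟩, ?_, ?_⟩
    · simpa using (inferInstance : (Cfsg.pCore 2 ↥X).Normal).conj_mem z hz (⟨x, hx⟩ : ↥X)⁻¹
    · show x⁻¹ * (z : G) * x = y
      rw [show (z : G) = x * y * x⁻¹ from hzy]
      group

omit [Finite G] in
theorem le_O2 {X R : Subgroup G} (hRX : R ≤ X) (hR : IsPGroup 2 ↥R)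
    (hn : X ≤ normalizer (R : Set G)) : R ≤ O2 X := by
  have hN : (R.subgroupOf X).Normal := normal_subgroupOf_of_le_normalizer hn
  intro r hr
  exact ⟨⟨r, hRX hr⟩, Cores.le_pCore (N := R.subgroupOf X) (hN := hN) (hR.comap_subtype (K := X)) (mem_subgroupOf.2 hr), rfl⟩

/-! ### Sylow 2-subgroups of a subgroup -/

/-- `T` is a Sylow 2-subgroup of `X`. -/
def IsSyl (X T : Subgroup G) : Prop :=
  T ≤ X ∧ IsPGroup 2 ↥T ∧ ∀ U : Subgroup G, U ≤ X → IsPGroup 2 ↥U → T ≤ U → U = T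

omit [Finite G] in
theorem isSyl_map {X : Subgroup G} (P : Sylow 2 ↥X) : IsSyl X ((P : Subgroup ↥X).map X.subtype) := by
  refine ⟨map_subtype_le _, P.2.map _, fun U hUX hU hle => le_antisymm ?_ hle⟩
  have h := P.3 (hU.comap_subtype (K := X)) (fun y hy => mem_subgroupOf.2 (hle ⟨y, hy, rfl⟩))
  intro u hu
  exact ⟨⟨u, hUX hu⟩, h ▸ mem_subgroupOf.2 hu, rfl⟩

omit [Finite G] in
theorem IsSyl.exists_sylow {X T : Subgroup G} (h : IsSyl X T) :
    ∃ P : Sylow 2 ↥X, (P : Subgroup ↥X).map X.subtype = T := by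
  obtain ⟨P, hP⟩ := (h.2.1.comap_subtype (K := X)).exists_le_sylow
  refine ⟨P, h.2.2 _ (map_subtype_le _) (P.2.map _) fun t ht => ?_⟩
  exact ⟨⟨t, h.1 ht⟩, hP (mem_subgroupOf.2 ht), rfl⟩

omit [Finite G] in
theorem exists_syl_ge {X U : Subgroup G} (hUX : U ≤ X) (hU : IsPGroup 2 ↥U) :
    ∃ T, IsSyl X T ∧ U ≤ T := by
  obtain ⟨P, hP⟩ := (hU.comap_subtype (K := X)).exists_le_sylow
  exact ⟨_, isSyl_map P, fun u hu => ⟨⟨u, hUX hu⟩, hP (mem_subgroupOf.2 hu), rfl⟩⟩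

theorem IsSyl.exists_conj {X T T' : Subgroup G} (h : IsSyl X T) (h' : IsSyl X T') :
    ∃ x ∈ X, cj x T = T' := by
  haveI : Fact (Nat.Prime 2) := ⟨Nat.prime_two⟩
  obtain ⟨P, rfl⟩ := h.exists_sylow
  obtain ⟨P', rfl⟩ := h'.exists_sylow
  obtain ⟨x, rfl⟩ := MulAction.exists_smul_eq ↥X P P'
  refine ⟨x, x.2, ?_⟩
  ext y
  rw [mem_cj]
  constructor
  · rintro ⟨z, hz, hzy⟩
    refine ⟨x * z * x⁻¹, ⟨z, hz, rfl⟩, ?_⟩
    show (x : G) * z * (x : G)⁻¹ = y
    rw [show (z : G) = (x : G)⁻¹ * y * x from hzy]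
    group
  · rintro ⟨_, ⟨z, hz, rfl⟩, rfl⟩
    refine ⟨z, hz, ?_⟩
    show (z : G) = (x : G)⁻¹ * ((x : G) * z * (x : G)⁻¹) * x
    group

theorem IsSyl.O2_le {X T : Subgroup G} (h : IsSyl X T) : O2 X ≤ T := by
  obtain ⟨P, rfl⟩ := h.exists_sylow
  exact Subgroup.map_mono (Cores.pCore_le_sylow P)

omit [Finite G] in
theorem IsSyl.map {X T : Subgroup G} (h : IsSyl X T) (g : G) : IsSyl (cj g X) (cj g T) := by
  refine ⟨cj_le h.1, h.2.1.map _, fun U hUX hU hle => ?_⟩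
  have h1 := h.2.2 (cj g⁻¹ U) (by simpa [cj_inv] using cj_le (g := g⁻¹) hUX) (hU.map _)
    (by simpa [cj_inv] using cj_le (g := g⁻¹) hle)
  rw [← cj_inv' g U, h1]

omit [Finite G] in
theorem isPGroup_zpowers {x : G} {k : ℕ} (hk : x ^ (2 ^ k) = 1) : IsPGroup 2 ↥(zpowers x) := by
  rintro ⟨y, hy⟩
  obtain ⟨i, rfl⟩ := mem_zpowers_iff.1 hy
  refine ⟨k, Subtype.ext ?_⟩
  show (x ^ i) ^ (2 ^ k) = 1
  rw [← zpow_natCast, ← zpow_mul, mul_comm, zpow_mul, zpow_natCast, hk, one_zpow]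

omit [Finite G] in
/-- A 2-element normalising a Sylow 2-subgroup lies in it. -/
theorem IsSyl.mem_of_normalizes {X T : Subgroup G} (h : IsSyl X T) {x : G} (hxX : x ∈ X)
    (hxT : x ∈ normalizer (T : Set G)) {k : ℕ} (hk : x ^ (2 ^ k) = 1) : x ∈ T :=
  h.2.2 (zpowers x ⊔ T) (sup_le (zpowers_le.2 hxX) h.1)
    ((isPGroup_zpowers hk).to_sup_of_normal_right' h.2.1 (zpowers_le.2 hxT)) le_sup_right
    ▸ mem_sup_left (mem_zpowers x)

omit [Finite G] in
/-- Two Sylow subgroups inside one 2-group are equal. -/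
theorem IsSyl.eq_of_le {X T T' U : Subgroup G} (h : IsSyl X T) (h' : IsSyl X T')
    (hU : IsPGroup 2 ↥U) (hTU : T ≤ U) (hTU' : T' ≤ U) : T = T' := by
  have hW : IsPGroup 2 ↥(U ⊓ X) := hU.to_le inf_le_left
  rw [← h.2.2 _ inf_le_right hW (le_inf hTU h.1), h'.2.2 _ inf_le_right hW (le_inf hTU' h'.1)]

theorem IsSyl.odd_relIndex {X T : Subgroup G} (h : IsSyl X T) :
    ∃ r, Odd r ∧ Nat.card ↥X = Nat.card ↥T * r := by
  haveI : Fact (Nat.Prime 2) := ⟨Nat.prime_two⟩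
  obtain ⟨P, rfl⟩ := h.exists_sylow
  refine ⟨(P : Subgroup ↥X).index, Nat.not_even_iff_odd.1 fun he =>
    P.not_dvd_index (even_iff_two_dvd.1 he), ?_⟩
  rw [Subgroup.card_map_of_injective X.subtype_injective, Subgroup.card_mul_index]

/-- A subgroup with more than one Sylow 2-subgroup. -/
def NonNormal (X : Subgroup G) : Prop := ∃ T T', IsSyl X T ∧ IsSyl X T' ∧ T ≠ T'

theorem NonNormal.mono {X Y : Subgroup G} (hXY : X ≤ Y) (h : NonNormal X) : NonNormal Y := by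
  obtain ⟨T, T', hT, hT', hne⟩ := h
  obtain ⟨U, hU, hTU⟩ := exists_syl_ge (hT.1.trans hXY) hT.2.1
  obtain ⟨U', hU', hTU'⟩ := exists_syl_ge (hT'.1.trans hXY) hT'.2.1
  exact ⟨U, U', hU, hU', fun h => hne (hT.eq_of_le hT' hU.2.1 hTU (h ▸ hTU'))⟩

omit [Finite G] in
theorem NonNormal.map {X : Subgroup G} (h : NonNormal X) (g : G) : NonNormal (cj g X) := by
  obtain ⟨T, T', hT, hT', hne⟩ := h
  exact ⟨_, _, hT.map g, hT'.map g,
    fun he => hne (by rw [← cj_inv g T, he, cj_inv])⟩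

end Cfsg.Agent.H65.CIT
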