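import Cfsg.Agent.H65.CIT.Independent
import Cfsg.Agent.H41.Nilpotent
import Cfsg.Agent.H65.CIT.Local

/-!
# Simple groups with nilpotent centralisers of non-identity elements

In such a group of even order the centraliser of every involution is a 2-group: otherwise the centraliser of a
central involution of a Sylow 2-subgroup would be a centraliser-closed TI subgroup that is not a 2-group.
-/

set_option autoImplicit false
set_option linter.unusedSectionVars false
set_option linter.style.haveILetI false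
set_option linter.dupNamespace false

namespace Cfsg.Agent.H65.CIT

open Subgroup

universe u

variable {G : Type u} [Group G] [Finite G]

/-- An element is the product of its 2-part and its part of odd order. -/
theorem exists_two_split (x : G) : ∃ a b : G, x = a * b ∧ a ∈ zpowers x ∧ b ∈ zpowers x ∧
    (∃ k : ℕ, a ^ (2 ^ k) = 1) ∧ Odd (orderOf b) := by
  obtain ⟨e, j, hj, hnj⟩ := Nat.exists_eq_two_pow_mul_odd (orderOf_pos x).ne'
  obtain ⟨c, d, hcd⟩ : IsCoprime ((2 ^ e : ℕ) : ℤ) (j : ℤ) :=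
    Nat.isCoprime_iff_coprime.2 ((Nat.coprime_two_left.2 hj).pow_left e)
  refine ⟨(x ^ j) ^ d, (x ^ (2 ^ e)) ^ c, ?_, zpow_mem (pow_mem (mem_zpowers x) _) _,
    zpow_mem (pow_mem (mem_zpowers x) _) _, ⟨e, ?_⟩, hj.of_dvd_nat (orderOf_dvd_of_pow_eq_one ?_)⟩
  · rw [← zpow_natCast x j, ← zpow_natCast x (2 ^ e), ← zpow_mul, ← zpow_mul, ← zpow_add,
      mul_comm ((2 ^ e : ℕ) : ℤ), mul_comm (j : ℤ), add_comm, hcd, zpow_one]
  · rw [← zpow_natCast, ← zpow_mul, mul_comm, zpow_mul, zpow_natCast, ← pow_mul, mul_comm, ← hnj,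
      pow_orderOf_eq_one, one_zpow]
  · rw [← zpow_natCast, ← zpow_mul, mul_comm, zpow_mul, zpow_natCast, ← pow_mul, ← hnj,
      pow_orderOf_eq_one, one_zpow]

theorem coprime_two_odd {a b : G} {k : ℕ} (ha : a ^ (2 ^ k) = 1) (hb : Odd (orderOf b)) :
    (orderOf a).Coprime (orderOf b) :=
  Nat.Coprime.coprime_dvd_left (orderOf_dvd_of_pow_eq_one ha) ((Nat.coprime_two_left.2 hb).pow_left k)

/-- In a nilpotent subgroup containing a Sylow 2-subgroup the 2-elements lie in it. -/
theorem mem_sylow_of_nilpotent {C : Subgroup G} (hC : Group.IsNilpotent ↥C) (S : Sylow 2 G)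
    (hSC : (S : Subgroup G) ≤ C) {y : G} (hy : y ∈ C) {k : ℕ} (hk : y ^ (2 ^ k) = 1) :
    y ∈ (S : Subgroup G) := by
  haveI : Fact (Nat.Prime 2) := ⟨Nat.prime_two⟩
  let S' : Sylow 2 ↥C := S.subtype hSC
  have hn : (S' : Subgroup ↥C).Normal :=
    ((Group.isNilpotent_of_finite_tfae (G := ↥C)).out 0 3 rfl rfl).mp hC 2 ⟨Nat.prime_two⟩ S'
  obtain ⟨R, hR⟩ := (isPGroup_zpowers (x := (⟨y, hy⟩ : ↥C)) (k := k)
    (Subtype.ext (by simpa using hk))).exists_le_sylow
  haveI := Sylow.unique_of_normal S' hn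
  rw [Subsingleton.elim R S'] at hR
  exact hR (mem_zpowers _)

/-- A simple CN-group of even order has centralisers of involutions that are 2-groups. -/
theorem cit_of_cn [IsSimpleGroup G] (hG : ∃ a b : G, a * b ≠ b * a)
    (hCN : ∀ g : G, g ≠ 1 → Group.IsNilpotent (centralizer ({g} : Set G))) : CIT G := by
  classical
  haveI : Fact (Nat.Prime 2) := ⟨Nat.prime_two⟩
  intro t ht
  by_contra hnot
  obtain ⟨x, hxt, hx1, hxo⟩ : ∃ x, Commute x t ∧ x ≠ 1 ∧ Odd (orderOf x) := by
    by_contra hcon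
    push Not at hcon
    refine hnot fun y => ?_
    obtain ⟨a, b, hab, -, hb, ⟨k, hk⟩, hbo⟩ := exists_two_split (y : G)
    obtain ⟨i, hi⟩ := mem_zpowers_iff.1 hb
    have hbt : Commute b t := hi ▸ (mem_cent.1 y.2).zpow_left i
    have hb1 : b = 1 := by
      by_contra h
      exact hcon b hbt h hbo
    exact ⟨k, Subtype.ext (by
      show (y : G) ^ (2 ^ k) = 1
      rw [hab, hb1, mul_one, hk])⟩
  obtain ⟨S, hS⟩ := (isPGroup_zpowers (x := t) (k := 1)
    (by rw [pow_one, ← ht]; exact pow_orderOf_eq_one t)).exists_le_sylow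
  have htS : t ∈ (S : Subgroup G) := hS (mem_zpowers t)
  haveI : Nontrivial ↥(S : Subgroup G) :=
    ⟨⟨⟨t, htS⟩, 1, fun e => H65.ne_one_of_orderOf ht (congrArg Subtype.val e)⟩⟩
  obtain ⟨z₀, -, hzc, hz₀⟩ := PGroups.exists_mem_center_orderOf_eq S.2
    (⊤ : Subgroup ↥(S : Subgroup G)) top_ne_bot
  set z : G := (z₀ : G) with hz
  have hz2 : orderOf z = 2 := by rw [hz, Subgroup.orderOf_coe, hz₀]
  have hz1 := H65.ne_one_of_orderOf hz2
  have hzk : z ^ (2 ^ 1) = 1 := by rw [pow_one, ← hz2]; exact pow_orderOf_eq_one z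
  have hSz : ∀ s ∈ (S : Subgroup G), Commute s z := fun s hs =>
    congrArg Subtype.val (mem_center_iff.mp hzc ⟨s, hs⟩)
  -- coprime elements of a centraliser commute
  have hcop : ∀ g : G, g ≠ 1 → ∀ {a b : G} {k : ℕ}, Commute a g → Commute b g → a ^ (2 ^ k) = 1 →
      Odd (orderOf b) → Commute a b := fun g hg a b k ha hb hk ho =>
    H41.commute_of_coprime_of_isNilpotent (hCN g hg) (mem_cent.2 ha) (mem_cent.2 hb)
      (coprime_two_odd hk ho)
  have hzx : Commute z x := hcop t (H65.ne_one_of_orderOf ht) (hSz t htS).symm hxt hzk hxo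
  set M := centralizer ({z} : Set G) with hM
  have hSM : (S : Subgroup G) ≤ M := fun s hs => mem_cent.2 (hSz s hs)
  have hMS : ∀ y ∈ M, ∀ k : ℕ, y ^ (2 ^ k) = 1 → y ∈ (S : Subgroup G) := fun y hy k hk =>
    mem_sylow_of_nilpotent (hCN z hz1) S hSM hy hk
  have hSx : ∀ s ∈ (S : Subgroup G), Commute s x := fun s hs => by
    obtain ⟨k, hk⟩ := pow_two_of_mem S.2 hs
    exact hcop z hz1 (hSz s hs) hzx.symm hk hxo
  -- centralisers of elements of `M` lie in `M`
  have hcc : ∀ a ∈ M, a ≠ 1 → centralizer ({a} : Set G) ≤ M := by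
    have key : ∀ a ∈ M, a ≠ 1 → ((∃ k : ℕ, a ^ (2 ^ k) = 1) ∨ Odd (orderOf a)) →
        centralizer ({a} : Set G) ≤ M := by
      intro a haM ha1 hcase y hy
      obtain ⟨y₂, y', hyy, hy₂, hy', ⟨k, hk⟩, hy'o⟩ := exists_two_split y
      have hy₂a : Commute y₂ a := by
        obtain ⟨i, rfl⟩ := mem_zpowers_iff.1 hy₂
        exact (mem_cent.1 hy).zpow_left i
      have hy'a : Commute y' a := by
        obtain ⟨i, rfl⟩ := mem_zpowers_iff.1 hy'
        exact (mem_cent.1 hy).zpow_left i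
      have haz : Commute a z := mem_cent.1 haM
      have hy'z : Commute z y' := hcop a ha1 haz.symm hy'a hzk hy'o
      have hy₂S : y₂ ∈ (S : Subgroup G) := by
        rcases hcase with ⟨i, hi⟩ | hao
        · have hax : Commute a x := hcop z hz1 haz hzx.symm hi hxo
          have hy₂x : Commute y₂ x := hcop a ha1 hy₂a hax.symm hk hxo
          exact mem_sylow_of_nilpotent (hCN x hx1) S (fun s hs => mem_cent.2 (hSx s hs))
            (mem_cent.2 hy₂x) hk
        · refine mem_sylow_of_nilpotent (hCN a ha1) S (fun s hs => mem_cent.2 ?_) (mem_cent.2 hy₂a) hk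
          obtain ⟨i, hi⟩ := pow_two_of_mem S.2 hs
          exact hcop z hz1 (hSz s hs) haz hi hao
      rw [hyy]
      exact M.mul_mem (hSM hy₂S) (mem_cent.2 hy'z.symm)
    intro a haM ha1
    obtain ⟨a₂, a', haa, ha₂, ha', hk, ha'o⟩ := exists_two_split a
    have hpow : ∀ b ∈ zpowers a, centralizer ({a} : Set G) ≤ centralizer ({b} : Set G) := by
      intro b hb y hy
      obtain ⟨i, rfl⟩ := mem_zpowers_iff.1 hb
      exact mem_cent.2 ((mem_cent.1 hy).zpow_right i)
    by_cases h : a₂ = 1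
    · have : a = a' := by rw [haa, h, one_mul]
      exact key a haM ha1 (Or.inr (this ▸ ha'o))
    · exact (hpow _ ha₂).trans (key a₂ (zpowers_le.2 haM ha₂) h (Or.inl hk))
  have hnM : ∀ g : G, ∀ m ∈ M, m ≠ 1 → g * m * g⁻¹ ∈ M →
      g ∈ normalizer (M : Set G) := by
    intro g m hm hm1 hg
    refine mem_normalizer_of_cj ?_
    have hgm : g * m * g⁻¹ ≠ 1 := fun e => hm1 (conj_eq_one_iff.1 e)
    have hzg : g * z * g⁻¹ ∈ M := hcc _ hg hgm (mem_cent.2 ((mem_cent.1 hm).symm.map
      (MulAut.conj g).toMonoidHom))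
    have hzg1 : g * z * g⁻¹ ≠ 1 := fun e => hz1 (conj_eq_one_iff.1 e)
    refine Subgroup.eq_of_le_of_card_ge ?_ (card_cj g M).ge
    rintro _ ⟨y, hy, rfl⟩
    exact hcc _ hzg hzg1 (mem_cent.2 ((mem_cent.1 hy).map (MulAut.conj g).toMonoidHom))
  let F : Frame G :=
    { z := z
      hz := hz2
      hS := ⟨S, hSM⟩
      cc := hcc
      ti := fun m hm hm1 g hg => hnM g m hm hm1 hg
      not_normal := by
        intro h
        rcases (Subgroup.normalizer_eq_top_iff.1 h).eq_bot_or_eq_top with h' | h'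
        · exact hz1 (Subgroup.mem_bot.1 (h' ▸ mem_cent.2 (Commute.refl z)))
        · obtain ⟨a, b, hab⟩ := hG
          have hzc : z ∈ Subgroup.center G := Subgroup.mem_center_iff.2 fun g =>
            (mem_cent.1 (h' ▸ mem_top g : g ∈ centralizer ({z} : Set G))).eq
          rcases (inferInstance : (Subgroup.center G).Normal).eq_bot_or_eq_top with hc | hc
          · exact hz1 (Subgroup.mem_bot.1 (hc ▸ hzc))
          · exact hab (Subgroup.mem_center_iff.1 (hc ▸ mem_top b) a)
      invol_le := by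
        intro v hv hvN
        have hvS : v ∈ normalizer ((S : Subgroup G) : Set G) := by
          refine mem_normalizer_of_cj (Subgroup.eq_of_le_of_card_ge ?_ (card_cj v _).ge)
          rintro _ ⟨s, hs, rfl⟩
          obtain ⟨k, hk⟩ := pow_two_of_mem S.2 hs
          refine hMS _ (inv_mem_of_conj_mem hvN (hSM hs)) k ?_
          show (v * s * v⁻¹) ^ (2 ^ k) = 1
          rw [conj_pow, hk, mul_one, mul_inv_cancel]
        have hp : IsPGroup 2 ↥(zpowers v) :=
          IsPGroup.of_card (n := 1) (by rw [Nat.card_zpowers, hv, pow_one])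
        exact hSM (hp.inf_normalizer_sylow S ▸ (Subgroup.mem_inf.2 ⟨mem_zpowers v, hvS⟩) :
          v ∈ zpowers v ⊓ (S : Subgroup G)).2
      odd_core := fun K hK hKodd => (hK.eq_bot_or_eq_top).resolve_right fun h => by
        rw [h, Subgroup.card_top] at hKodd
        exact Nat.not_even_iff_odd.2 hKodd (even_iff_two_dvd.2 (hz2 ▸ orderOf_dvd_natCard z)) }
  exact hx1 (eq_one_of_mem_two F.isPGroup_M (mem_cent.2 hzx.symm) hxo)

end Cfsg.Agent.H65.CIT
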