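import Mathlib.Algebra.Ring.Basic
import Mathlib.Tactic.NoncommRing

/-!
# Two quadratic elements of a ring

For `g`, `h` with `g² + g + 1 = 0` and `h² + h + 1 = 0` the element `T = gh + h'g'`, where `g' = g²`, `h' = h²`,
commutes with both, and the span of `1, g, h, gh` over the commutant is closed under multiplication by `g` and `h`,
with a compatible conjugation.
-/

set_option autoImplicit false

namespace Cfsg.Agent.H65.CIT.Quad

variable {R : Type*} [Ring R] {g g' h h' : R}

/-- `y` and `y'` have conjugate expansions over the commutant of `g` and `h`. -/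
def Rep (g g' h h' y y' : R) : Prop :=
  ∃ a b c d : R, (Commute a g ∧ Commute a h) ∧ (Commute b g ∧ Commute b h) ∧
    (Commute c g ∧ Commute c h) ∧ (Commute d g ∧ Commute d h) ∧
    y = a + b * g + c * h + d * (g * h) ∧ y' = a + b * g' + c * h' + d * (h' * g')

/-- The trace of `g h`. -/
def tr (g g' h h' : R) : R := g * h + h' * g'

theorem g'_eq (hg : 1 + g + g * g = 0) (hg' : g' = g * g) : g' = -1 - g := by
  rw [hg', sub_eq_add_neg, eq_comm, ← sub_eq_zero]
  have : -1 + -g - g * g = -(1 + g + g * g) := by noncomm_ring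
  rw [this, hg, neg_zero]

theorem tr_eq (hg : 1 + g + g * g = 0) (hg' : g' = g * g) (hh : 1 + h + h * h = 0) (hh' : h' = h * h) :
    tr g g' h h' = g * h + h * g + g + h + 1 := by
  rw [tr, g'_eq hg hg', g'_eq hh hh']
  noncomm_ring

theorem tr_comm (hg : 1 + g + g * g = 0) (hg' : g' = g * g) (hh : 1 + h + h * h = 0) (hh' : h' = h * h) :
    Commute (tr g g' h h') g ∧ Commute (tr g g' h h') h := by
  rw [tr_eq hg hg' hh hh']
  have e1 : g * g = -1 - g := by rw [← hg']; exact g'_eq hg hg'
  have e2 : h * h = -1 - h := by rw [← hh']; exact g'_eq hh hh'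
  constructor
  · show (g * h + h * g + g + h + 1) * g = g * (g * h + h * g + g + h + 1)
    have h1 : (g * h + h * g + g + h + 1) * g = g * h * g + h * (g * g) + g * g + h * g + g := by
      noncomm_ring
    have h2 : g * (g * h + h * g + g + h + 1) = g * g * h + g * h * g + g * g + g * h + g := by
      noncomm_ring
    rw [h1, h2, e1]
    noncomm_ring
  · show (g * h + h * g + g + h + 1) * h = h * (g * h + h * g + g + h + 1)
    have h1 : (g * h + h * g + g + h + 1) * h = g * (h * h) + h * g * h + g * h + h * h + h := by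
      noncomm_ring
    have h2 : h * (g * h + h * g + g + h + 1) = h * g * h + h * h * g + h * g + h * h + h := by
      noncomm_ring
    rw [h1, h2, e2]
    noncomm_ring

theorem rep_one : Rep g g' h h' 1 1 :=
  ⟨1, 0, 0, 0, ⟨Commute.one_left _, Commute.one_left _⟩, ⟨Commute.zero_left _, Commute.zero_left _⟩,
    ⟨Commute.zero_left _, Commute.zero_left _⟩, ⟨Commute.zero_left _, Commute.zero_left _⟩,
    by simp, by simp⟩

theorem rep_mul_g (hg : 1 + g + g * g = 0) (hg' : g' = g * g) (hh' : h' = h * h) {y y' : R}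
    (hy : Rep g g' h h' y y') : Rep g g' h h' (g * y) (y' * g') := by
  obtain ⟨a, b, c, d, ha, hb, hc, hd, rfl, rfl⟩ := hy
  refine ⟨-b, a - b, -d, c - d, ⟨hb.1.neg_left, hb.2.neg_left⟩, ⟨ha.1.sub_left hb.1, ha.2.sub_left hb.2⟩,
    ⟨hd.1.neg_left, hd.2.neg_left⟩, ⟨hc.1.sub_left hd.1, hc.2.sub_left hd.2⟩, ?_, ?_⟩
  · have e1 : g * g = -1 - g := by rw [← hg']; exact g'_eq hg hg'
    calc g * (a + b * g + c * h + d * (g * h))
        = g * a + g * b * g + g * c * h + g * d * (g * h) := by noncomm_ring
      _ = a * g + b * (g * g) + c * (g * h) + d * ((g * g) * h) := by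
          rw [ha.1.symm.eq, hb.1.symm.eq, hc.1.symm.eq, hd.1.symm.eq]; noncomm_ring
      _ = _ := by rw [e1]; noncomm_ring
  · have e1 : g' * g' = -1 - g' := by
      rw [g'_eq hg hg']
      have : (-1 - g) * (-1 - g) = 1 + g + g * g + g := by noncomm_ring
      rw [this, hg]
      noncomm_ring
    calc (a + b * g' + c * h' + d * (h' * g')) * g'
        = a * g' + b * (g' * g') + c * (h' * g') + d * (h' * (g' * g')) := by noncomm_ring
      _ = _ := by rw [e1]; noncomm_ring

theorem rep_mul_h (hg : 1 + g + g * g = 0) (hg' : g' = g * g) (hh : 1 + h + h * h = 0) (hh' : h' = h * h)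
    {y y' : R} (hy : Rep g g' h h' y y') : Rep g g' h h' (h * y) (y' * h') := by
  obtain ⟨a, b, c, d, ha, hb, hc, hd, rfl, rfl⟩ := hy
  obtain ⟨hT1, hT2⟩ := tr_comm hg hg' hh hh'
  set T := tr g g' h h' with hT
  have eg : g' = -1 - g := g'_eq hg hg'
  have eh : h' = -1 - h := g'_eq hh hh'
  have e2 : h * h = -1 - h := by rw [← hh']; exact eh
  have ehg : h * g = T - 1 - g - h - g * h := by
    rw [hT, tr_eq hg hg' hh hh']; noncomm_ring
  have ehgh : h * (g * h) = 1 + g + T * h := by
    have : h * (g * h) = (T - 1 - g - h - g * h) * h := by rw [← mul_assoc, ehg]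
    rw [this]
    have h1 : (T - 1 - g - h - g * h) * h = T * h - h - g * h - h * h - g * (h * h) := by noncomm_ring
    rw [h1, e2]
    noncomm_ring
  have ebar : g' * h' = T - 1 - g' - h' - h' * g' := by
    rw [hT, tr, eg, eh]; noncomm_ring
  have ebar2 : h' * g' * h' = 1 + g' + T * h' := by
    have e3 : h' * h' = -1 - h' := by
      rw [eh]
      have : (-1 - h) * (-1 - h) = 1 + h + h * h + h := by noncomm_ring
      rw [this, hh]
      noncomm_ring
    have hTh : Commute T h' := by rw [eh]; exact ((Commute.one_right T).neg_right).sub_right hT2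
    rw [mul_assoc, ebar]
    have h1 : h' * (T - 1 - g' - h' - h' * g') = h' * T - h' - h' * g' - h' * h' - (h' * h') * g' := by
      noncomm_ring
    rw [h1, e3, hTh.symm.eq]
    noncomm_ring
  have hTc : ∀ x : R, Commute x g ∧ Commute x h → Commute (x * T) g ∧ Commute (x * T) h :=
    fun x hx => ⟨hx.1.mul_left hT1, hx.2.mul_left hT2⟩
  refine ⟨b * T - b - c + d, -b + d, a - b - c + d * T, -b,
    ⟨(((hTc b hb).1.sub_left hb.1).sub_left hc.1).add_left hd.1,
      (((hTc b hb).2.sub_left hb.2).sub_left hc.2).add_left hd.2⟩,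
    ⟨hb.1.neg_left.add_left hd.1, hb.2.neg_left.add_left hd.2⟩,
    ⟨((ha.1.sub_left hb.1).sub_left hc.1).add_left (hTc d hd).1,
      ((ha.2.sub_left hb.2).sub_left hc.2).add_left (hTc d hd).2⟩,
    ⟨hb.1.neg_left, hb.2.neg_left⟩, ?_, ?_⟩
  · calc h * (a + b * g + c * h + d * (g * h))
        = h * a + h * b * g + h * c * h + h * d * (g * h) := by noncomm_ring
      _ = a * h + b * (h * g) + c * (h * h) + d * (h * (g * h)) := by
          rw [ha.2.symm.eq, hb.2.symm.eq, hc.2.symm.eq, hd.2.symm.eq]; noncomm_ring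
      _ = _ := by rw [ehg, e2, ehgh]; noncomm_ring
  · have e3 : h' * h' = -1 - h' := by
      rw [eh]
      have : (-1 - h) * (-1 - h) = 1 + h + h * h + h := by noncomm_ring
      rw [this, hh]
      noncomm_ring
    calc (a + b * g' + c * h' + d * (h' * g')) * h'
        = a * h' + b * (g' * h') + c * (h' * h') + d * (h' * g' * h') := by noncomm_ring
      _ = _ := by rw [ebar, e3, ebar2]; noncomm_ring

/-- The trace of a represented pair commutes with `g`. -/
theorem rep_trace (hg : 1 + g + g * g = 0) (hg' : g' = g * g) (hh : 1 + h + h * h = 0) (hh' : h' = h * h)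
    {y y' : R} (hy : Rep g g' h h' y y') : Commute (y + y') g := by
  obtain ⟨a, b, c, d, ha, hb, hc, hd, rfl, rfl⟩ := hy
  have e : a + b * g + c * h + d * (g * h) + (a + b * g' + c * h' + d * (h' * g')) =
      a + a - b - c + d * tr g g' h h' := by
    rw [tr]
    conv_lhs => rw [show b * g' = b * (-1 - g) from congrArg _ (g'_eq hg hg'),
      show c * h' = c * (-1 - h) from congrArg _ (g'_eq hh hh')]
    noncomm_ring
  rw [e]
  exact (((ha.1.add_left ha.1).sub_left hb.1).sub_left hc.1).add_left
    (hd.1.mul_left (tr_comm hg hg' hh hh').1)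

end Cfsg.Agent.H65.CIT.Quad
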