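import Cfsg.Agent.H65.CIT.Structure
import Cfsg.Agent.H65.CIT.QuadRing

/-!
# A normal 2-subgroup with an element of order three in the simple quotient is elementary abelian

Elements of order three act without fixed points. This makes the 2-group abelian by polarisation of the
commutator map, and of exponent two because twice an involution of a group generated by two such elements
commutes with both of them.
-/

set_option autoImplicit false
set_option linter.unusedSectionVars false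
set_option linter.style.haveILetI false
set_option linter.dupNamespace false

namespace Cfsg.Agent.H65.CIT

open Subgroup

universe u

variable {G : Type u} [Group G] [Finite G]

/-- An involution acts by inversion on a subgroup of odd order that it normalises. -/
theorem CIT.inverts_of_odd_subgroup (hC : CIT G) {K : Subgroup G} {a : G}
    (haK : a ∈ normalizer (K : Set G)) (hK : Odd (Nat.card ↥K)) (ha : orderOf a = 2) {k : G} (hk : k ∈ K) :
    a * k * a⁻¹ = k⁻¹ := by
  let φ : ↥K →* ↥K :=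
    { toFun := fun k => ⟨a * k * a⁻¹, inv_mem_of_conj_mem haK k.2⟩
      map_one' := Subtype.ext (by simp)
      map_mul' := fun x y => Subtype.ext (by simp [mul_assoc]) }
  have hfp : MonoidHom.FixedPointFree φ := by
    intro x hx
    have h1 : a * (x : G) * a⁻¹ = x := congrArg Subtype.val hx
    refine Subtype.ext (hC.eq_one_of_commute (H65.ne_one_of_orderOf ha) (k := 1)
      (by rw [pow_one, pow_two]; exact H65.mul_self_eq_one ha)
      (hK.of_dvd_nat (Subgroup.orderOf_dvd_natCard K x.2)) ?_)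
    exact (mul_inv_eq_iff_eq_mul.1 h1).symm
  have h4 := hfp.coe_eq_inv_of_involutive (φ := φ) fun x => Subtype.ext (by
    show a * (a * (x : G) * a⁻¹) * a⁻¹ = x
    rw [show a * (a * (x : G) * a⁻¹) * a⁻¹ = (a * a) * x * (a * a)⁻¹ by group,
      H65.mul_self_eq_one ha]
    group)
  exact congrArg Subtype.val (congrFun h4 ⟨k, hk⟩)

/-- Some conjugate of an element of order three by an involution generates with it a group of even order. -/
theorem exists_even_pair [IsSimpleGroup G] (hC : CIT G) (hna : ¬ IsMulCommutative G) {g : G}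
    (hg : orderOf g = 3) (heven : Even (Nat.card G)) :
    ∃ s : G, Even (Nat.card ↥(closure ({g, s * g * s⁻¹} : Set G))) := by
  classical
  haveI : Fact (Nat.Prime 2) := ⟨Nat.prime_two⟩
  by_contra hcon
  push Not at hcon
  have hinv : ∀ s : G, orderOf s = 2 → s * g * s⁻¹ = g⁻¹ := by
    intro s hs
    set D := closure ({g, s * g * s⁻¹} : Set G) with hD
    have hsD : s ∈ normalizer (D : Set G) := by
      refine mem_normalizer_of_cj ?_
      rw [hD, cj, MonoidHom.map_closure, Set.image_pair]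
      congr 1
      show ({s * g * s⁻¹, s * (s * g * s⁻¹) * s⁻¹} : Set G) = _
      rw [show s * (s * g * s⁻¹) * s⁻¹ = (s * s) * g * (s * s)⁻¹ by group, H65.mul_self_eq_one hs,
        one_mul, inv_one, mul_one, Set.pair_comm]
    exact hC.inverts_of_odd_subgroup hsD (Nat.not_even_iff_odd.1 (hcon s)) hs
      (subset_closure (Set.mem_insert g _))
  obtain ⟨S⟩ : Nonempty (Sylow 2 G) := inferInstance
  haveI : Nontrivial ↥(S : Subgroup G) :=
    (Subgroup.nontrivial_iff_ne_bot _).2 (S.ne_bot_of_dvd_card (even_iff_two_dvd.1 heven))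
  obtain ⟨z₀, -, hzc, hz₀⟩ := PGroups.exists_mem_center_orderOf_eq S.2
    (⊤ : Subgroup ↥(S : Subgroup G)) top_ne_bot
  have hz : orderOf (z₀ : G) = 2 := by rw [Subgroup.orderOf_coe, hz₀]
  obtain ⟨v, hvS, hv, hvz⟩ := SelfCent.exists_second hna S hz z₀.2
  have hc : Commute v (z₀ : G) := congrArg Subtype.val (mem_center_iff.1 hzc ⟨v, hvS⟩)
  have hvv : (v * (z₀ : G)) ^ (2 ^ 1) = 1 := by
    rw [pow_one, hc.mul_pow, pow_two, pow_two, H65.mul_self_eq_one hv, H65.mul_self_eq_one hz, one_mul]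
  have hne : v * (z₀ : G) ≠ 1 := fun e => hvz
    ((eq_inv_of_mul_eq_one_left e).trans (H65.inv_eq_self hz))
  have hg1 := hC.eq_one_of_commute hne hvv (by rw [hg]; decide) (g := g) (by
    refine (mul_inv_eq_iff_eq_mul.1 ?_).symm
    calc v * (z₀ : G) * g * (v * (z₀ : G))⁻¹ = v * ((z₀ : G) * g * (z₀ : G)⁻¹) * v⁻¹ := by group
      _ = g := by rw [hinv _ hz, ← conj_inv, hinv _ hv, inv_inv])
  rw [hg1, orderOf_one] at hg
  omega

section

variable (hC : CIT G) {U : Subgroup G} [U.Normal] (hU : IsPGroup 2 ↥U)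

include hU in
omit [Finite G] in
theorem not_mem_of_three {g : G} (hg : orderOf g = 3) : g ∉ U := fun h => by
  have h1 := eq_one_of_mem_two hU h (by rw [hg]; decide)
  rw [h1, orderOf_one] at hg
  omega

include hC hU in
/-- The orbit products of an element of order three are trivial. -/
theorem three_prod {g u : G} (hg : orderOf g = 3) (hu : u ∈ U) :
    u * (g * u * g⁻¹) * (g * (g * u * g⁻¹) * g⁻¹) = 1 := by
  have hg3 : g * g * g = 1 := by
    have := pow_orderOf_eq_one g
    rwa [hg, pow_succ, pow_two] at this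
  have hgu : g * u * g⁻¹ ∈ U := (inferInstance : U.Normal).conj_mem u hu g
  set w := u * (g * u * g⁻¹) * (g * (g * u * g⁻¹) * g⁻¹) with hw
  have hwU : w ∈ U := mul_mem (mul_mem hu hgu) ((inferInstance : U.Normal).conj_mem _ hgu g)
  have h3 : (u * g) * (u * g) * (u * g) = w := by
    calc (u * g) * (u * g) * (u * g) = w * (g * g * g) := by rw [hw]; group
      _ = w := by rw [hg3, mul_one]
  by_contra hne
  obtain ⟨k, hk⟩ := pow_two_of_mem hU hwU
  have hc : Commute (u * g) w := by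
    rw [← h3]
    exact ((Commute.refl _).mul_right (Commute.refl _)).mul_right (Commute.refl _)
  obtain ⟨a, ha⟩ := (hC.isPGroup_centralizer hne hk) ⟨u * g, mem_cent.2 hc⟩
  have ha' : (u * g) ^ (2 ^ a) = 1 := congrArg Subtype.val ha
  refine not_mem_of_three hU hg ?_
  rw [← QuotientGroup.eq_one_iff]
  have h1 : ((u * g : G) : G ⧸ U) = (g : G ⧸ U) := by
    rw [QuotientGroup.mk_mul, (QuotientGroup.eq_one_iff u).2 hu, one_mul]
  have h2 : (g : G ⧸ U) ^ (2 ^ a) = 1 := by
    rw [← h1, ← QuotientGroup.mk_pow, ha', QuotientGroup.mk_one]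
  refine eq_one_of_pow_two h2 (Odd.of_dvd_nat (by decide : Odd 3) ?_)
  rw [← hg]
  exact orderOf_map_dvd (QuotientGroup.mk' U) g

include hC hU in
/-- An element commutes with its image under an element of order three. -/
theorem commute_three {g u : G} (hg : orderOf g = 3) (hu : u ∈ U) : Commute u (g * u * g⁻¹) := by
  have hg' : orderOf g⁻¹ = 3 := by rw [orderOf_inv, hg]
  have hg3 : g * g * g = 1 := by
    have := pow_orderOf_eq_one g
    rwa [hg, pow_succ, pow_two] at this
  have hgg : g⁻¹ = g * g := inv_eq_of_mul_eq_one_left hg3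
  set b := g * u * g⁻¹ with hb
  set c := g * b * g⁻¹ with hc
  have h1 : u * b * c = 1 := three_prod hC hU hg hu
  have h2 : u * c * b = 1 := by
    have h := three_prod hC hU hg' hu
    rw [inv_inv] at h
    have e1 : g⁻¹ * u * g = c := by
      conv_lhs => rw [show g⁻¹ * u * g = g⁻¹ * u * (g⁻¹)⁻¹ by rw [inv_inv], hgg]
      rw [hc, hb]; group
    have e2 : g⁻¹ * (g⁻¹ * u * g) * g = b := by
      rw [e1, hc]; group
    rwa [e2, e1] at h
  have h3 : b * c = c * b := mul_left_cancel (a := u)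
    ((mul_assoc u b c).symm.trans (h1.trans (h2.symm.trans (mul_assoc u c b))))
  have h4 : Commute (g⁻¹ * b * g) (g⁻¹ * c * g) := by
    show g⁻¹ * b * g * (g⁻¹ * c * g) = g⁻¹ * c * g * (g⁻¹ * b * g)
    calc g⁻¹ * b * g * (g⁻¹ * c * g) = g⁻¹ * (b * c) * g := by group
      _ = g⁻¹ * (c * b) * g := by rw [h3]
      _ = _ := by group
  rwa [show g⁻¹ * b * g = u by rw [hb]; group, show g⁻¹ * c * g = b by rw [hc]; group] at h4

variable [IsSimpleGroup (G ⧸ U)]

include hC hU in
/-- A normal subset of `U` centralised by `U` and by an element outside is trivial. -/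
theorem trivial_of_fixer {g : G} (hg : orderOf g = 3) {D : Set G} (hDU : D ⊆ (U : Set G))
    (hD : ∀ x : G, ∀ d ∈ D, x * d * x⁻¹ ∈ D) (hUD : ∀ v ∈ U, ∀ d ∈ D, Commute v d) {c : G} (hcU : c ∉ U)
    (hcD : ∀ d ∈ D, Commute c d) : ∀ d ∈ D, d = 1 := by
  haveI hn : (centralizer D).Normal := by
    refine ⟨fun y hy x => mem_centralizer_iff.2 fun d hd => ?_⟩
    have h1 := mem_centralizer_iff.1 hy _ (hD x⁻¹ d hd)
    rw [inv_inv] at h1
    calc d * (x * y * x⁻¹) = x * (x⁻¹ * d * x * y) * x⁻¹ := by group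
      _ = x * (y * (x⁻¹ * d * x)) * x⁻¹ := by rw [h1]
      _ = x * y * x⁻¹ * d := by group
  intro d hd
  rcases ((inferInstance : (centralizer D).Normal).map (QuotientGroup.mk' U)
    (QuotientGroup.mk'_surjective U)).eq_bot_or_eq_top with h | h
  · exfalso
    refine hcU ((QuotientGroup.eq_one_iff c).1 (Subgroup.mem_bot.1 (h ▸ ?_)))
    exact ⟨c, mem_centralizer_iff.2 fun d hd => ((hcD d hd).eq).symm, rfl⟩
  · have h1 : g ∈ centralizer D := by
      obtain ⟨y, hy, hyg⟩ := (h ▸ mem_top (QuotientGroup.mk' U g) :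
        QuotientGroup.mk' U g ∈ (centralizer D).map (QuotientGroup.mk' U))
      have h2 : y⁻¹ * g ∈ U := QuotientGroup.eq.1 hyg
      rw [show g = y * (y⁻¹ * g) by group]
      exact mul_mem hy (mem_centralizer_iff.2 fun d hd => ((hUD _ h2 d hd).eq).symm)
    exact hC.eq_one_of_commute_mem hU (hDU hd) (by rw [hg]; decide)
      (fun e => by rw [e, orderOf_one] at hg; omega) ((mem_centralizer_iff.1 h1 d hd).symm)

include hC hU in
/-- The 2-group is elementary abelian. -/
theorem elementary_of_three (hna : ¬ IsMulCommutative (G ⧸ U)) (heven : Even (Nat.card (G ⧸ U))) {g : G}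
    (hg : orderOf g = 3) : (∀ x ∈ U, ∀ y ∈ U, Commute x y) ∧ ∀ x ∈ U, x * x = 1 := by
  classical
  haveI : Fact (Nat.Prime 2) := ⟨Nat.prime_two⟩
  set π := QuotientGroup.mk' U with hπ
  have hgq : orderOf (π g) = 3 := by
    refine orderOf_eq_prime ?_ fun e => not_mem_of_three hU hg ((QuotientGroup.eq_one_iff g).1 e)
    rw [← map_pow, ← hg, pow_orderOf_eq_one, map_one]
  have hQC : CIT (G ⧸ U) := hC.quotient U hU
  have hg3 : g * g * g = 1 := by
    have := pow_orderOf_eq_one g
    rwa [hg, pow_succ, pow_two] at this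
  -- `U` is abelian
  have hab : ∀ x ∈ U, ∀ y ∈ U, Commute x y := by
    by_contra hcon
    let br : G → G → G := fun a b => a * b * a⁻¹ * b⁻¹
    have hbrU : ∀ a ∈ U, ∀ b ∈ U, br a b ∈ U := fun a ha b hb =>
      mul_mem (mul_mem (mul_mem ha hb) (inv_mem ha)) (inv_mem hb)
    let Z2 : Set G := {x | x ∈ U ∧ ∀ y ∈ U, ∀ w ∈ U, Commute w (br x y)}
    have hbrconj : ∀ k a b : G, br (k * a * k⁻¹) (k * b * k⁻¹) = k * br a b * k⁻¹ := fun k a b => by
      show (k * a * k⁻¹) * (k * b * k⁻¹) * (k * a * k⁻¹)⁻¹ * (k * b * k⁻¹)⁻¹ = k * (a * b * a⁻¹ * b⁻¹) * k⁻¹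
      group
    have hconjU : ∀ k : G, ∀ a ∈ U, k * a * k⁻¹ ∈ U := fun k a ha =>
      (inferInstance : U.Normal).conj_mem a ha k
    have hZ2 : ∀ k : G, ∀ x ∈ Z2, k * x * k⁻¹ ∈ Z2 := by
      rintro k x ⟨hxU, hx⟩
      refine ⟨hconjU k x hxU, fun y hy w hw => ?_⟩
      have h1 := (hx (k⁻¹ * y * k⁻¹⁻¹) (hconjU _ y hy) (k⁻¹ * w * k⁻¹⁻¹) (hconjU _ w hw)).map
        (MulAut.conj k).toMonoidHom
      simp only [MulEquiv.toMonoidHom_eq_coe, MonoidHom.coe_coe, MulAut.conj_apply] at h1
      rw [← hbrconj, inv_inv, show k * (k⁻¹ * y * k) * k⁻¹ = y by group,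
        show k * (k⁻¹ * w * k) * k⁻¹ = w by group] at h1
      exact h1
    have hpolar : ∀ k : G, orderOf k = 3 → ∀ x ∈ Z2, ∀ y ∈ U,
        br (k * x * k⁻¹) y = br x (k * y * k⁻¹) := by
      intro k hk x hx y hy
      set x' := k * x * k⁻¹ with hx'
      set y' := k * y * k⁻¹ with hy'
      have hx'Z : x' ∈ Z2 := hZ2 k x hx
      have hy'U : y' ∈ U := hconjU k y hy
      have hxx : Commute x x' := commute_three hC hU hk hx.1
      have hyy : Commute y y' := commute_three hC hU hk hy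
      have hall := commute_three hC hU hk (U.mul_mem hx.1 hy)
      rw [show k * (x * y) * k⁻¹ = x' * y' by rw [hx', hy']; group] at hall
      set A := br x' y with hA
      set B := br x y' with hB
      have hAc : ∀ w ∈ U, Commute w A := hx'Z.2 y hy
      have hBc : ∀ w ∈ U, Commute w B := hx.2 y' hy'U
      have e1 : y * x' = A⁻¹ * (x' * y) := by
        show y * x' = (x' * y * x'⁻¹ * y⁻¹)⁻¹ * (x' * y)
        group
      have e2 : y' * x = B⁻¹ * (x * y') := by
        show y' * x = (x * y' * x⁻¹ * y'⁻¹)⁻¹ * (x * y')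
        group
      have l1 : x * y * (x' * y') = A⁻¹ * (x * x' * (y * y')) := by
        calc x * y * (x' * y') = x * (y * x') * y' := by group
          _ = (x * A⁻¹) * (x' * y) * y' := by rw [e1]; group
          _ = (A⁻¹ * x) * (x' * y) * y' := by rw [((hAc x hx.1).inv_right).eq]
          _ = _ := by group
      have l2 : x' * y' * (x * y) = B⁻¹ * (x * x' * (y * y')) := by
        calc x' * y' * (x * y) = x' * (y' * x) * y := by group
          _ = (x' * B⁻¹) * (x * y') * y := by rw [e2]; group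
          _ = (B⁻¹ * x') * (x * y') * y := by rw [((hBc x' hx'Z.1).inv_right).eq]
          _ = B⁻¹ * ((x' * x) * (y' * y)) := by group
          _ = _ := by rw [← hxx.eq, ← hyy.eq]
      have h := hall.eq
      rw [l1, l2] at h
      exact inv_injective (mul_right_cancel h)
    have hF : ∀ k : G, orderOf k = 3 → ∀ x ∈ Z2, ∀ y ∈ U,
        br (k * x * k⁻¹) y = k⁻¹ * br x y * k := by
      intro k hk x hx y hy
      have hk' : orderOf k⁻¹ = 3 := by rw [orderOf_inv, hk]
      have hk3 : k * k * k = 1 := by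
        have := pow_orderOf_eq_one k
        rwa [hk, pow_succ, pow_two] at this
      have h := hpolar k⁻¹ hk' _ (hZ2 k⁻¹ x hx) y hy
      rw [inv_inv, show k⁻¹ * (k⁻¹ * x * k) * k = (k * k * k)⁻¹ * (k * x * k⁻¹) * (k * k * k) by group,
        hk3, inv_one, one_mul, mul_one] at h
      rw [h]
      have := hbrconj k⁻¹ x y
      rwa [inv_inv] at this
    -- a conjugate of `g` not commuting with it modulo `U`
    obtain ⟨s, hs⟩ : ∃ s : G, g * (s * g * s⁻¹) * g⁻¹ * (s * g * s⁻¹)⁻¹ ∉ U := by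
      by_contra hall
      push Not at hall
      have hle : normalClosure ({π g} : Set (G ⧸ U)) ≤ centralizer ({π g} : Set (G ⧸ U)) := by
        rw [normalClosure, closure_le]
        intro q hq
        obtain ⟨a, ha, hc⟩ := Group.mem_conjugatesOfSet_iff.1 hq
        rw [Set.mem_singleton_iff] at ha
        subst ha
        obtain ⟨r, rfl⟩ := isConj_iff.1 hc
        obtain ⟨r, rfl⟩ := QuotientGroup.mk'_surjective U r
        refine mem_cent.2 (Commute.symm ?_)
        have h1 := (QuotientGroup.eq_one_iff _).2 (hall r)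
        rw [show (g * (r * g * r⁻¹) * g⁻¹ * (r * g * r⁻¹)⁻¹ : G) = (g * (r * g * r⁻¹)) *
          ((r * g * r⁻¹) * g)⁻¹ by group, QuotientGroup.mk_mul, QuotientGroup.mk_inv, mul_inv_eq_one] at h1
        exact h1
      rcases (normalClosure_normal (s := ({π g} : Set (G ⧸ U)))).eq_bot_or_eq_top with h | h
      · have := h ▸ subset_normalClosure (Set.mem_singleton (π g))
        rw [SetLike.mem_coe, Subgroup.mem_bot] at this
        rw [this, orderOf_one] at hgq
        omega
      · have hzc : π g ∈ center (G ⧸ U) := mem_center_iff.2 fun q =>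
          (mem_cent.1 (hle (h ▸ mem_top q))).eq
        rcases (inferInstance : (center (G ⧸ U)).Normal).eq_bot_or_eq_top with hz | hz
        · rw [hz, Subgroup.mem_bot] at hzc
          rw [hzc, orderOf_one] at hgq
          omega
        · exact hna ⟨⟨fun a b => mem_center_iff.1 (hz ▸ mem_top b) a⟩⟩
    set h := s * g * s⁻¹ with hh
    have hho : orderOf h = 3 := (H65.orderOf_conj' s g).trans hg
    let D : Set G := {d | ∃ x ∈ Z2, ∃ y ∈ U, br x y = d}
    have hD1 : ∀ d ∈ D, d = 1 := by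
      refine trivial_of_fixer hC hU hg ?_ ?_ ?_ hs ?_
      · rintro _ ⟨x, hx, y, hy, rfl⟩
        exact hbrU x hx.1 y hy
      · rintro k _ ⟨x, hx, y, hy, rfl⟩
        exact ⟨_, hZ2 k x hx, _, hconjU k y hy, hbrconj k x y⟩
      · rintro v hv _ ⟨x, hx, y, hy, rfl⟩
        exact hx.2 y hy v hv
      · rintro _ ⟨x, hx, y, hy, rfl⟩
        have hhx := hZ2 h x hx
        have e1 : br (g * (h * x * h⁻¹) * g⁻¹) y = g⁻¹ * (h⁻¹ * br x y * h) * g := by
          rw [hF g hg _ hhx y hy, hF h hho x hx y hy]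
        have e2 : br (g * (h * x * h⁻¹) * g⁻¹) y = h⁻¹ * (g⁻¹ * br x y * g) * h := by
          rw [hpolar g hg _ hhx y hy, hF h hho x hx _ (hconjU g y hy), ← hpolar g hg x hx y hy,
            hF g hg x hx y hy]
        have e3 := e1.symm.trans e2
        show g * h * g⁻¹ * h⁻¹ * br x y = br x y * (g * h * g⁻¹ * h⁻¹)
        calc g * h * g⁻¹ * h⁻¹ * br x y = g * h * (g⁻¹ * (h⁻¹ * br x y * h) * g) * g⁻¹ * h⁻¹ := by group
          _ = g * h * (h⁻¹ * (g⁻¹ * br x y * g) * h) * g⁻¹ * h⁻¹ := by rw [e3]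
          _ = _ := by group
    push Not at hcon
    obtain ⟨a, ha, b, hb, hab⟩ := hcon
    haveI : Nontrivial (↥U ⧸ center ↥U) := by
      rw [QuotientGroup.nontrivial_iff]
      intro htop
      have h1 : (⟨a, ha⟩ : ↥U) * ⟨b, hb⟩ = ⟨b, hb⟩ * ⟨a, ha⟩ :=
        mem_center_iff.1 (htop.symm ▸ mem_top (⟨b, hb⟩ : ↥U)) ⟨a, ha⟩
      exact hab (congrArg Subtype.val h1)
    haveI := (hU.to_quotient (center ↥U)).center_nontrivial
    obtain ⟨q, hq, hq1⟩ := (center (↥U ⧸ center ↥U)).bot_or_exists_ne_one.resolve_left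
      ((Subgroup.nontrivial_iff_ne_bot _).1 inferInstance)
    obtain ⟨x, rfl⟩ := QuotientGroup.mk'_surjective (center ↥U) q
    have hxZ2 : (x : G) ∈ Z2 := by
      refine ⟨x.2, fun y hy w hw => ?_⟩
      have h1 : x * ⟨y, hy⟩ * x⁻¹ * (⟨y, hy⟩ : ↥U)⁻¹ ∈ center ↥U := by
        rw [← QuotientGroup.eq_one_iff]
        have h2 := mem_center_iff.1 hq (QuotientGroup.mk ⟨y, hy⟩)
        simp only [QuotientGroup.mk'_apply] at h2
        rw [QuotientGroup.mk_mul, QuotientGroup.mk_mul, QuotientGroup.mk_mul, QuotientGroup.mk_inv,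
          QuotientGroup.mk_inv, ← h2]
        group
      exact congrArg Subtype.val (mem_center_iff.1 h1 ⟨w, hw⟩)
    refine hq1 ((QuotientGroup.eq_one_iff x).2 (mem_center_iff.2 fun y => Subtype.ext ?_))
    have h3 := hD1 _ ⟨(x : G), hxZ2, (y : G), y.2, rfl⟩
    show (y : G) * x = x * y
    exact (mul_inv_eq_iff_eq_mul.1 (mul_inv_eq_one.1 h3)).symm
  refine ⟨hab, ?_⟩
  -- twice an involution commutes with `g`
  letI : CommGroup ↥U :=
    { (inferInstance : Group ↥U) with mul_comm := fun a b => Subtype.ext (hab a a.2 b b.2) }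
  let ρ : G →* AddMonoid.End (Additive ↥U) :=
    { toFun := fun k => MonoidHom.toAdditive (MulAut.conjNormal (H := U) k).toMonoidHom
      map_one' := AddMonoidHom.ext fun a => by
        apply Additive.toMul.injective
        show MulAut.conjNormal (1 : G) a.toMul = a.toMul
        rw [map_one, MulAut.one_apply]
      map_mul' := fun k l => AddMonoidHom.ext fun a => by
        apply Additive.toMul.injective
        show MulAut.conjNormal (k * l) a.toMul = MulAut.conjNormal k (MulAut.conjNormal l a.toMul)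
        rw [map_mul, MulAut.mul_apply] }
  have hρ : ∀ (k : G) (a : ↥U), ((ρ k (Additive.ofMul a)).toMul : G) = k * a * k⁻¹ := fun k a =>
    MulAut.conjNormal_apply k a
  have hquad : ∀ k : G, orderOf k = 3 → 1 + ρ k + ρ k * ρ k = 0 := by
    intro k hk
    refine AddMonoidHom.ext fun a => ?_
    apply Additive.toMul.injective
    refine Subtype.ext ?_
    show (a.toMul : G) * (ρ k (Additive.ofMul a.toMul)).toMul *
      (ρ k (Additive.ofMul (ρ k (Additive.ofMul a.toMul)).toMul)).toMul = 1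
    rw [hρ, hρ, hρ]
    exact three_prod hC hU hk a.toMul.2
  haveI : IsSimpleGroup (G ⧸ U) := inferInstance
  obtain ⟨s, hs⟩ := exists_even_pair hQC hna hgq heven
  obtain ⟨s, rfl⟩ := QuotientGroup.mk'_surjective U s
  set h := s * g * s⁻¹ with hh
  have hho : orderOf h = 3 := (H65.orderOf_conj' s g).trans hg
  have hh3 : h * h * h = 1 := by
    have := pow_orderOf_eq_one h
    rwa [hho, pow_succ, pow_two] at this
  have hDeq : closure ({π g, π s * π g * (π s)⁻¹} : Set (G ⧸ U)) = (closure ({g, h} : Set G)).map π := by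
    rw [MonoidHom.map_closure, Set.image_pair, hh, map_mul, map_mul, map_inv]
  rw [hDeq] at hs
  obtain ⟨q, hq⟩ := exists_prime_orderOf_dvd_card' 2 (even_iff_two_dvd.1 hs)
  obtain ⟨y, hy, hyq⟩ := Subgroup.mem_map.1 q.2
  have hqo : orderOf (π y) = 2 := by rw [hyq, Subgroup.orderOf_coe, hq]
  have hrep : ∀ x ∈ closure ({g, h} : Set G),
      Quad.Rep (ρ g) (ρ g * ρ g) (ρ h) (ρ h * ρ h) (ρ x) (ρ x⁻¹) := by
    have hgi : g⁻¹ = g * g := inv_eq_of_mul_eq_one_left hg3
    have hhi : h⁻¹ = h * h := inv_eq_of_mul_eq_one_left hh3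
    have step : ∀ x y : G, x ∈ ({g, h} : Set G) →
        Quad.Rep (ρ g) (ρ g * ρ g) (ρ h) (ρ h * ρ h) (ρ y) (ρ y⁻¹) →
        Quad.Rep (ρ g) (ρ g * ρ g) (ρ h) (ρ h * ρ h) (ρ (x * y)) (ρ (x * y)⁻¹) := by
      intro x y hx hy
      rcases hx with hx | hx
      · rw [hx, map_mul ρ g y, mul_inv_rev, map_mul ρ y⁻¹ g⁻¹, hgi, map_mul ρ g g]
        exact Quad.rep_mul_g (hquad g hg) rfl rfl hy
      · rw [Set.mem_singleton_iff.1 hx, map_mul ρ h y, mul_inv_rev, map_mul ρ y⁻¹ h⁻¹, hhi, map_mul ρ h h]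
        exact Quad.rep_mul_h (hquad g hg) rfl (hquad _ hho) rfl hy
    intro x hx
    induction hx using Subgroup.closure_induction_left with
    | one => rw [inv_one, map_one]; exact Quad.rep_one
    | mul_left x hx y _ ih => exact step x y hx ih
    | inv_mul_cancel x hx y _ ih =>
      have hxx : x⁻¹ = x * x := by
        rcases hx with rfl | rfl
        exacts [hgi, hhi]
      rw [hxx, mul_assoc]
      exact step x _ hx (step x y hx ih)
  have hy2 : y * y ∈ U := by
    rw [← QuotientGroup.eq_one_iff, QuotientGroup.mk_mul]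
    exact H65.mul_self_eq_one hqo
  have hyinv : ρ y⁻¹ = ρ y := by
    refine AddMonoidHom.ext fun a => ?_
    apply Additive.toMul.injective
    refine Subtype.ext ?_
    show ((ρ y⁻¹ (Additive.ofMul a.toMul)).toMul : G) = ((ρ y (Additive.ofMul a.toMul)).toMul : G)
    rw [hρ, hρ]
    have h1 := hab _ hy2 _ a.toMul.2
    calc y⁻¹ * (a.toMul : G) * y⁻¹⁻¹ = y⁻¹ * ((a.toMul : G) * (y * y)) * y⁻¹ := by group
      _ = y⁻¹ * ((y * y) * a.toMul) * y⁻¹ := by rw [h1.eq]
      _ = _ := by group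
  have htr := Quad.rep_trace (hquad g hg) rfl (hquad _ hho) rfl (hrep y hy)
  rw [hyinv] at htr
  have hcomm : ∀ u ∈ U, Commute (g⁻¹ * (y⁻¹ * (g * y))) (u * u) := by
    intro u hu
    have h1 := congrArg (fun f : AddMonoid.End (Additive ↥U) =>
      ((f (Additive.ofMul ⟨u, hu⟩)).toMul : G)) htr.eq
    have e1 : (((ρ y + ρ y) * ρ g) (Additive.ofMul (⟨u, hu⟩ : ↥U))).toMul =
        ((ρ y (ρ g (Additive.ofMul ⟨u, hu⟩))).toMul * (ρ y (ρ g (Additive.ofMul ⟨u, hu⟩))).toMul) := rfl
    have e2 : ((ρ g * (ρ y + ρ y)) (Additive.ofMul (⟨u, hu⟩ : ↥U))).toMul =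
        (ρ g ((ρ y (Additive.ofMul ⟨u, hu⟩)) + (ρ y (Additive.ofMul ⟨u, hu⟩)))).toMul := rfl
    simp only [e1, e2] at h1
    rw [map_add] at h1
    have k1 : ∀ a b : G, ((ρ a (ρ b (Additive.ofMul (⟨u, hu⟩ : ↥U)))).toMul : G) =
        a * (b * u * b⁻¹) * a⁻¹ := fun a b => by
      rw [← hρ b ⟨u, hu⟩]
      exact hρ a _
    rw [Subgroup.coe_mul, k1, show (ρ g (ρ y (Additive.ofMul (⟨u, hu⟩ : ↥U))) +
      ρ g (ρ y (Additive.ofMul (⟨u, hu⟩ : ↥U)))).toMul = (ρ g (ρ y (Additive.ofMul ⟨u, hu⟩))).toMul *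
        (ρ g (ρ y (Additive.ofMul ⟨u, hu⟩))).toMul from rfl, Subgroup.coe_mul, k1] at h1
    show g⁻¹ * (y⁻¹ * (g * y)) * (u * u) = u * u * (g⁻¹ * (y⁻¹ * (g * y)))
    calc g⁻¹ * (y⁻¹ * (g * y)) * (u * u)
        = g⁻¹ * y⁻¹ * (g * (y * u * y⁻¹) * g⁻¹ * (g * (y * u * y⁻¹) * g⁻¹)) * (g * y) := by group
      _ = g⁻¹ * y⁻¹ * (y * (g * u * g⁻¹) * y⁻¹ * (y * (g * u * g⁻¹) * y⁻¹)) * (g * y) := by rw [h1]
      _ = _ := by group
  let D : Set G := {d | ∃ u ∈ U, u * u = d}
  have hcU : g⁻¹ * (y⁻¹ * (g * y)) ∉ U := by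
    intro hmem
    have h1 : π (g⁻¹ * (y⁻¹ * (g * y))) = 1 := (QuotientGroup.eq_one_iff _).2 hmem
    rw [map_mul, map_mul, map_mul, map_inv, map_inv, inv_mul_eq_one] at h1
    have h2 : Commute (π g) (π y) := by
      show π g * π y = π y * π g
      conv_rhs => rw [h1]
      group
    have h3 := hQC.eq_one_of_commute (H65.ne_one_of_orderOf hqo) (k := 1)
      (by rw [pow_one, ← hqo]; exact pow_orderOf_eq_one _) (by rw [hgq]; decide) h2
    rw [h3, orderOf_one] at hgq
    omega
  have hD := trivial_of_fixer hC hU hg (D := D)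
    (fun d ⟨u, hu, e⟩ => e ▸ mul_mem hu hu)
    (fun k d ⟨u, hu, e⟩ => ⟨k * u * k⁻¹, (inferInstance : U.Normal).conj_mem u hu k, by rw [← e]; group⟩)
    (fun v hv d ⟨u, hu, e⟩ => e ▸ (hab v hv u hu).mul_right (hab v hv u hu)) hcU
    (fun d ⟨u, hu, e⟩ => e ▸ hcomm u hu)
  exact fun u hu => hD _ ⟨u, hu, rfl⟩

end

end Cfsg.Agent.H65.CIT
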