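import Cfsg.Agent.H65.CIT.Basic
import Cfsg.Agent.Linear.Dickson.Partition
import Cfsg.Agent.Linear.Order

/-!
A group with centralisers of involutions 2-groups has no subgroup `PSL(2, p)`, normal with an element outside
whose square is inside.
-/

set_option autoImplicit false
set_option linter.unusedSectionVars false
set_option linter.style.haveILetI false
set_option linter.dupNamespace false

namespace Cfsg.Agent.H65.CIT.PrimeExt

open Matrix Cfsg.Agent.Linear Cfsg.Agent.Linear.Dickson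

universe u

variable {F : Type*} [Field F]

local notation "M2" => Matrix (Fin 2) (Fin 2) F
local notation "S2" => Matrix.SpecialLinearGroup (Fin 2) F
local notation "P2" => Matrix.ProjectiveSpecialLinearGroup (Fin 2) F

/-- Upper unitriangular matrices. -/
def up (b : F) : S2 := ⟨!![1, b; 0, 1], by simp [Matrix.det_fin_two]⟩

/-- Lower unitriangular matrices. -/
def low (b : F) : S2 := ⟨!![1, 0; b, 1], by simp [Matrix.det_fin_two]⟩

/-- The reflection. -/
def refl2 : S2 := ⟨!![0, 1; -1, 0], by simp [Matrix.det_fin_two]⟩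

/-- Diagonal matrices. -/
def dg (γ : F) (h : γ ≠ 0) : S2 := ⟨!![γ, 0; 0, γ⁻¹], by simp [Matrix.det_fin_two, h]⟩

@[simp] theorem coe_up (b : F) : ((up b : S2) : M2) = !![1, b; 0, 1] := rfl

@[simp] theorem coe_low (b : F) : ((low b : S2) : M2) = !![1, 0; b, 1] := rfl

@[simp] theorem coe_refl2 : ((refl2 : S2) : M2) = !![0, 1; -1, 0] := rfl

@[simp] theorem coe_dg (γ : F) (h : γ ≠ 0) : ((dg γ h : S2) : M2) = !![γ, 0; 0, γ⁻¹] := rfl

theorem up_mul (a b : F) : up a * up b = up (a + b) :=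
  Subtype.ext (ext_two (by simp [mul_two_apply]) (by simp [mul_two_apply, add_comm])
    (by simp [mul_two_apply]) (by simp [mul_two_apply]))

theorem low_mul (a b : F) : low a * low b = low (a + b) :=
  Subtype.ext (ext_two (by simp [mul_two_apply]) (by simp [mul_two_apply])
    (by simp [mul_two_apply]) (by simp [mul_two_apply]))

theorem up_zero : up (0 : F) = 1 :=
  Subtype.ext (ext_two (by simp) (by simp) (by simp) (by simp))

theorem low_zero : low (0 : F) = 1 :=
  Subtype.ext (ext_two (by simp) (by simp) (by simp) (by simp))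

theorem refl2_up (b : F) : refl2 * up b = low (-b) * refl2 :=
  Subtype.ext (ext_two (by simp [mul_two_apply]) (by simp [mul_two_apply])
    (by simp [mul_two_apply]) (by simp [mul_two_apply]))

theorem refl2_low (b : F) : refl2 * low b = up (-b) * refl2 :=
  Subtype.ext (ext_two (by simp [mul_two_apply]) (by simp [mul_two_apply])
    (by simp [mul_two_apply]) (by simp [mul_two_apply]))

theorem refl2_eq : (refl2 : S2) = up 1 * low (-1) * up 1 :=
  Subtype.ext (ext_two (by simp [mul_two_apply]) (by simp [mul_two_apply])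
    (by simp [mul_two_apply]) (by simp [mul_two_apply]))

theorem dg_up {γ : F} (h : γ ≠ 0) (b : F) : dg γ h * up b = up (b * (γ * γ)) * dg γ h :=
  Subtype.ext (ext_two (by simp [mul_two_apply]) (by simp [mul_two_apply]; field_simp)
    (by simp [mul_two_apply]) (by simp [mul_two_apply]))

theorem dg_low {γ : F} (h : γ ≠ 0) (b : F) : dg γ h * low b = low (b * (γ * γ)⁻¹) * dg γ h :=
  Subtype.ext (ext_two (by simp [mul_two_apply]) (by simp [mul_two_apply])
    (by simp [mul_two_apply]; field_simp) (by simp [mul_two_apply]))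

theorem conj_up (X : S2) (hX : (X : M2) 1 0 ≠ 0) (b : F) :
    X * up b = up ((X : M2) 0 0 / (X : M2) 1 0) * low (-((X : M2) 1 0 * (X : M2) 1 0 * b)) *
      up (-((X : M2) 0 0 / (X : M2) 1 0)) * X := by
  have hd : (X : M2) 0 0 * (X : M2) 1 1 - (X : M2) 0 1 * (X : M2) 1 0 = 1 := by
    rw [← Matrix.det_fin_two]; exact X.2
  refine Subtype.ext (ext_two ?_ ?_ ?_ ?_) <;>
    simp [mul_two_apply] <;> field_simp <;>
    first
      | ring1
      | linear_combination -b * (X : M2) 0 0 * hd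
      | linear_combination b * (X : M2) 0 0 * hd
      | linear_combination -b * hd
      | linear_combination b * hd
      | linear_combination -b * (X : M2) 1 0 * hd
      | linear_combination b * (X : M2) 1 0 * hd
      | linear_combination -(b * (X : M2) 0 0 * (X : M2) 1 0) * hd
      | linear_combination (b * (X : M2) 0 0 * (X : M2) 1 0) * hd

variable [Fintype F]

theorem card_psl_odd {p : ℕ} (hp : p.Prime) (hF : Fintype.card F = p) (h2 : p ≠ 2) :
    ∃ m, Nat.card P2 = p * m ∧ ¬ p ∣ m := by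
  obtain ⟨d, hd⟩ : ∃ d, p ^ 2 - 1 = d := ⟨_, rfl⟩
  have h := card_PSL_two_mul (F := F)
  rw [hF, hd] at h
  have hodd := hp.odd_of_ne_two h2
  have hg : Nat.gcd 2 (p - 1) = 2 := Nat.gcd_eq_left (by
    obtain ⟨k, hk⟩ := hodd
    exact ⟨k, by omega⟩)
  rw [hg] at h
  have hpm : p ∣ Nat.card P2 :=
    ((Nat.coprime_two_right.2 hodd).dvd_mul_left).1 (h ▸ dvd_mul_right p d)
  obtain ⟨m, hm⟩ := hpm
  refine ⟨m, hm, fun hdvd => ?_⟩
  rw [hm] at h
  have h3 : 2 * m = d := Nat.eq_of_mul_eq_mul_left hp.pos (by rw [← h]; ring)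
  have h4 : p ∣ p ^ 2 - 1 := hd ▸ h3 ▸ dvd_mul_of_dvd_right hdvd 2
  have h5 : p ∣ p ^ 2 := dvd_pow_self p two_ne_zero
  have h1 : 1 ≤ p ^ 2 := Nat.one_le_pow _ _ hp.pos
  have h6 : p ∣ p ^ 2 - (p ^ 2 - 1) := Nat.dvd_sub h5 h4
  rw [Nat.sub_sub_self h1, Nat.dvd_one] at h6
  exact hp.ne_one h6

variable {G : Type u} [Group G] [Finite G]

/-- No element outside a normal `PSL(2, p)` has its square inside. -/
theorem no_prime_ext (hC : CIT G) {K : Subgroup G} [K.Normal] {p : ℕ} (hp : p.Prime) (h5 : 5 ≤ p)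
    (hF : Fintype.card F = p) (e : ↥K ≃* P2) {y : G} (hyK : y ∉ K) (hy2 : y * y ∈ K) : False := by
  classical
  haveI : Fact p.Prime := ⟨hp⟩
  haveI : CharP F p := charP_of_card_eq_prime hF
  have hpodd : Odd p := hp.odd_of_ne_two (by omega)
  have h2 : (2 : F) ≠ 0 := by
    intro h
    have h' : ((2 : ℕ) : F) = 0 := by exact_mod_cast h
    rw [CharP.cast_eq_zero_iff F p] at h'
    have := Nat.le_of_dvd (by omega) h'
    omega
  have hcast : ∀ b : F, ∃ n : ℕ, (n : F) = b := by
    intro b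
    obtain ⟨x, rfl⟩ := (ZMod.castHom_bijective F hF).2 b
    exact ⟨x.val, by rw [← map_natCast (ZMod.castHom (dvd_refl p) F) x.val, ZMod.natCast_zmod_val]⟩
  set ι : S2 →* G := (K.subtype.comp e.symm.toMonoidHom).comp proj with hι
  have hιK : ∀ X : S2, ι X ∈ K := fun X => (e.symm (proj X)).2
  have hιsurj : ∀ k ∈ K, ∃ X : S2, ι X = k := fun k hk => by
    obtain ⟨X, hX⟩ := proj_surjective (e ⟨k, hk⟩)
    exact ⟨X, by show ((e.symm (proj X)) : G) = k; rw [hX, e.symm_apply_apply]⟩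
  have hιker : ∀ X Y : S2, ι X = ι Y ↔ (Y = X ∨ Y = -X) := fun X Y => by
    rw [← proj_eq_iff]
    exact ⟨fun h => e.symm.injective (Subtype.ext h), fun h => congrArg (fun q => ((e.symm q : ↥K) : G)) h⟩
  -- the two root groups
  have hU0 : ι (up 0) = 1 := by rw [up_zero, map_one]
  have hUinj : ∀ a b : F, ι (up a) = ι (up b) → a = b := fun a b h => by
    rcases (hιker _ _).1 h with h | h
    · simpa [Matrix.SpecialLinearGroup.coe_neg] using (congrFun (congrFun (congrArg (fun X : S2 => (X : M2)) h) 0) 1).symm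
    · have h1 := congrFun (congrFun (congrArg (fun X : S2 => (X : M2)) h) 0) 0
      simp at h1
      exact absurd (by linear_combination h1) h2
  have hLinj : ∀ a b : F, ι (low a) = ι (low b) → a = b := fun a b h => by
    rcases (hιker _ _).1 h with h | h
    · simpa [Matrix.SpecialLinearGroup.coe_neg] using (congrFun (congrFun (congrArg (fun X : S2 => (X : M2)) h) 1) 0).symm
    · have h1 := congrFun (congrFun (congrArg (fun X : S2 => (X : M2)) h) 0) 0
      simp at h1
      exact absurd (by linear_combination h1) h2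
  have hUL : ∀ a b : F, ι (up a) = ι (low b) → a = 0 := fun a b h => by
    rcases (hιker _ _).1 h with h | h
    · simpa [Matrix.SpecialLinearGroup.coe_neg] using (congrFun (congrFun (congrArg (fun X : S2 => (X : M2)) h) 0) 1).symm
    · simpa [Matrix.SpecialLinearGroup.coe_neg] using (congrFun (congrFun (congrArg (fun X : S2 => (X : M2)) h) 0) 1).symm
  let Uhom : Multiplicative F →* G :=
    { toFun := fun b => ι (up b.toAdd)
      map_one' := hU0
      map_mul' := fun a b => by rw [← map_mul, up_mul]; rfl }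
  set R : Subgroup G := Uhom.range with hR
  have hRmem : ∀ {g : G}, g ∈ R ↔ ∃ b : F, ι (up b) = g := fun {g} =>
    ⟨fun ⟨b, hb⟩ => ⟨b.toAdd, hb⟩, fun ⟨b, hb⟩ => ⟨Multiplicative.ofAdd b, hb⟩⟩
  let Lhom : Multiplicative F →* G :=
    { toFun := fun b => ι (low b.toAdd)
      map_one' := (congrArg ι low_zero).trans ι.map_one
      map_mul' := fun a b => by rw [← map_mul, low_mul]; rfl }
  set R' : Subgroup G := Lhom.range with hR'
  have hR'mem : ∀ {g : G}, g ∈ R' ↔ ∃ b : F, ι (low b) = g := fun {g} =>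
    ⟨fun ⟨b, hb⟩ => ⟨b.toAdd, hb⟩, fun ⟨b, hb⟩ => ⟨Multiplicative.ofAdd b, hb⟩⟩
  have hFc : Nat.card (Multiplicative F) = p := by
    rw [← hF, ← Nat.card_eq_fintype_card]
    exact Nat.card_congr Multiplicative.toAdd
  have hRc : Nat.card ↥R = p := (Nat.card_congr (MonoidHom.ofInjective (f := Uhom) fun a b h =>
    Multiplicative.toAdd.injective (hUinj _ _ h)).symm.toEquiv).trans hFc
  have hR'c : Nat.card ↥R' = p := (Nat.card_congr (MonoidHom.ofInjective (f := Lhom) fun a b h =>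
    Multiplicative.toAdd.injective (hLinj _ _ h)).symm.toEquiv).trans hFc
  have hRK : R ≤ K := fun g hg => by obtain ⟨b, rfl⟩ := hRmem.1 hg; exact hιK _
  have hR'K : R' ≤ K := fun g hg => by obtain ⟨b, rfl⟩ := hR'mem.1 hg; exact hιK _
  -- subgroups of order `p` of `K` are conjugate to `R`
  obtain ⟨m, hm, hpm⟩ := card_psl_odd hp hF (by omega)
  have hsyl : ∀ (S : Sylow p ↥K), Nat.card ↥(S : Subgroup ↥K) = p := fun S => by
    rw [Sylow.card_eq_multiplicity S, Nat.card_congr e.toEquiv, hm,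
      Nat.factorization_mul hp.ne_zero (fun h => hpm (by rw [h]; exact dvd_zero p)), Finsupp.add_apply,
      hp.factorization_self, Nat.factorization_eq_zero_of_not_dvd hpm, add_zero, pow_one]
  have hconj : ∀ H : Subgroup G, H ≤ K → Nat.card ↥H = p → ∃ X : S2, ∀ h ∈ H, ∃ b : F,
      ι X * ι (up b) * (ι X)⁻¹ = h := by
    intro H hH hHc
    have hH' : Nat.card ↥(H.subgroupOf K) = p := by
      rw [Nat.card_congr (Subgroup.subgroupOfEquivOfLe hH).toEquiv, hHc]
    have hR'' : Nat.card ↥(R.subgroupOf K) = p := by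
      rw [Nat.card_congr (Subgroup.subgroupOfEquivOfLe hRK).toEquiv, hRc]
    obtain ⟨SH, hSH⟩ := (IsPGroup.of_card (p := p) (n := 1) (by rw [hH', pow_one])).exists_le_sylow
    obtain ⟨SR, hSR⟩ := (IsPGroup.of_card (p := p) (n := 1) (by rw [hR'', pow_one])).exists_le_sylow
    have eH := Subgroup.eq_of_le_of_card_ge hSH (by rw [hsyl SH, hH'])
    have eR := Subgroup.eq_of_le_of_card_ge hSR (by rw [hsyl SR, hR''])
    obtain ⟨k, hk⟩ := MulAction.exists_smul_eq ↥K SR SH
    obtain ⟨X, hX⟩ := hιsurj k k.2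
    refine ⟨X, fun h hh => ?_⟩
    have h1 : (⟨h, hH hh⟩ : ↥K) ∈ ((k • SR : Sylow p ↥K) : Subgroup ↥K) := by
      rw [hk, ← eH]; exact hh
    rw [Sylow.coe_subgroup_smul, ← eR] at h1
    obtain ⟨r, hr, hre⟩ := Subgroup.mem_map.1 h1
    obtain ⟨b, hb⟩ := hRmem.1 hr
    refine ⟨b, ?_⟩
    rw [hX, hb]
    exact congrArg Subtype.val hre
  -- normalise both root groups
  have hmapc : ∀ (g : G) (H : Subgroup G), Nat.card ↥(H.map (MulAut.conj g).toMonoidHom) = Nat.card ↥H :=
    fun g H => Subgroup.card_map_of_injective (MulAut.conj g).injective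
  have hmapK : ∀ (g : G) (H : Subgroup G), H ≤ K → H.map (MulAut.conj g).toMonoidHom ≤ K := by
    rintro g H hH _ ⟨h, hh, rfl⟩
    exact (inferInstance : K.Normal).conj_mem h (hH hh) g
  obtain ⟨X, hX⟩ := hconj _ (hmapK y R hRK) ((hmapc y R).trans hRc)
  set y₁ := (ι X)⁻¹ * y with hy₁
  have hy₁U : ∀ b : F, ∃ b' : F, y₁ * ι (up b) * y₁⁻¹ = ι (up b') := by
    intro b
    obtain ⟨b', hb'⟩ := hX (y * ι (up b) * y⁻¹) ⟨_, hRmem.2 ⟨b, rfl⟩, rfl⟩
    refine ⟨b', ?_⟩
    calc y₁ * ι (up b) * y₁⁻¹ = (ι X)⁻¹ * (y * ι (up b) * y⁻¹) * ι X := by rw [hy₁]; group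
      _ = _ := by rw [← hb']; group
  obtain ⟨Y, hY⟩ := hconj _ (hmapK y₁ R' hR'K) ((hmapc y₁ R').trans hR'c)
  have hY10 : (Y : M2) 1 0 ≠ 0 := by
    intro h0
    -- then `Y` would normalise `R`
    obtain ⟨b, hb⟩ := hY (y₁ * ι (low 1) * y₁⁻¹) ⟨_, hR'mem.2 ⟨1, rfl⟩, rfl⟩
    have hd : (Y : M2) 0 0 * (Y : M2) 1 1 = 1 := by
      have := Y.2
      rw [Matrix.det_fin_two, h0, mul_zero, sub_zero] at this
      exact this
    have hYu : Y * up b = up (b * ((Y : M2) 0 0 * (Y : M2) 0 0)) * Y :=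
      Subtype.ext (ext_two (by simp [mul_two_apply, h0])
        (by simp [mul_two_apply, h0]; linear_combination (-b * (Y : M2) 0 0) * hd)
        (by simp [mul_two_apply, h0]) (by simp [mul_two_apply, h0]))
    rw [← map_mul, hYu, map_mul, mul_inv_cancel_right] at hb
    set b₁ := b * ((Y : M2) 0 0 * (Y : M2) 0 0)
    let f : F → F := fun v => (hy₁U v).choose
    have hf : ∀ v, y₁ * ι (up v) * y₁⁻¹ = ι (up (f v)) := fun v => (hy₁U v).choose_spec
    have hfi : Function.Injective f := fun v w h => hUinj v w (by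
      have := hf v
      rw [h, ← hf w] at this
      exact mul_left_cancel (mul_right_cancel this))
    obtain ⟨v, hv⟩ := (Finite.injective_iff_surjective.1 hfi) b₁
    have h1 : ι (up v) = ι (low 1) := by
      have := hf v
      rw [hv, hb] at this
      exact mul_left_cancel (mul_right_cancel this)
    have h3 := hUL _ _ h1
    rw [h3, up_zero, map_one, ← map_one ι, ← low_zero] at h1
    exact one_ne_zero (hLinj _ _ h1).symm
  set t := (Y : M2) 0 0 / (Y : M2) 1 0 with ht
  set y₂ := ι (up (-t)) * y₁ with hy₂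
  have hUneg : ∀ s : F, (ι (up s))⁻¹ = ι (up (-s)) := fun s =>
    inv_eq_of_mul_eq_one_right (by rw [← map_mul, up_mul, add_neg_cancel, up_zero, map_one])
  have hy₂U : ∀ b : F, ∃ b' : F, y₂ * ι (up b) * y₂⁻¹ = ι (up b') := by
    intro b
    obtain ⟨b', hb'⟩ := hy₁U b
    refine ⟨b', ?_⟩
    calc y₂ * ι (up b) * y₂⁻¹ = ι (up (-t)) * (y₁ * ι (up b) * y₁⁻¹) * (ι (up (-t)))⁻¹ := by
          rw [hy₂]; group
      _ = _ := by
        rw [hb', hUneg, ← map_mul, ← map_mul, up_mul, up_mul]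
        congr 2
        ring
  have hy₂L : ∀ b : F, ∃ b' : F, y₂ * ι (low b) * y₂⁻¹ = ι (low b') := by
    intro b
    obtain ⟨b', hb'⟩ := hY (y₁ * ι (low b) * y₁⁻¹) ⟨_, hR'mem.2 ⟨b, rfl⟩, rfl⟩
    refine ⟨-((Y : M2) 1 0 * (Y : M2) 1 0 * b'), ?_⟩
    calc y₂ * ι (low b) * y₂⁻¹ = ι (up (-t)) * (y₁ * ι (low b) * y₁⁻¹) * (ι (up (-t)))⁻¹ := by
          rw [hy₂]; group
      _ = _ := by
        rw [← hb', ← map_mul ι Y, conj_up Y hY10 b', ← ht, map_mul, map_mul, map_mul, ← hUneg]
        group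
  have hy₂K : y₂ ∉ K := fun h => hyK (by
    have h1 := K.mul_mem (K.mul_mem (hιK X) (K.inv_mem (hιK (up (-t))))) h
    rwa [hy₂, hy₁, show ι X * (ι (up (-t)))⁻¹ * (ι (up (-t)) * ((ι X)⁻¹ * y)) = y by group] at h1)
  -- the multipliers
  obtain ⟨α, hα⟩ := hy₂U 1
  obtain ⟨β, hβ⟩ := hy₂L 1
  have hUa : ∀ b : F, y₂ * ι (up b) * y₂⁻¹ = ι (up (b * α)) := by
    intro b
    obtain ⟨n, rfl⟩ := hcast b
    induction n with
    | zero => rw [Nat.cast_zero, zero_mul, hU0, mul_one, mul_inv_cancel]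
    | succ n ih =>
      rw [Nat.cast_succ, ← up_mul, map_mul, show y₂ * (ι (up (n : F)) * ι (up 1)) * y₂⁻¹ =
        (y₂ * ι (up (n : F)) * y₂⁻¹) * (y₂ * ι (up 1) * y₂⁻¹) by group, ih, hα, ← map_mul, up_mul,
        add_mul, one_mul]
  have hLb : ∀ b : F, y₂ * ι (low b) * y₂⁻¹ = ι (low (b * β)) := by
    intro b
    obtain ⟨n, rfl⟩ := hcast b
    induction n with
    | zero => rw [Nat.cast_zero, zero_mul, low_zero, map_one, mul_one, mul_inv_cancel]
    | succ n ih =>
      rw [Nat.cast_succ, ← low_mul, map_mul, show y₂ * (ι (low (n : F)) * ι (low 1)) * y₂⁻¹ =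
        (y₂ * ι (low (n : F)) * y₂⁻¹) * (y₂ * ι (low 1) * y₂⁻¹) by group, ih, hβ, ← map_mul, low_mul,
        add_mul, one_mul]
  have hβ0 : β ≠ 0 := fun h => one_ne_zero (hLinj 1 0 (by
    rw [h, low_zero, map_one, conj_eq_one_iff] at hβ
    rw [hβ, low_zero, map_one]))
  have hαβ : α * β = 1 := by
    have h1 : ι refl2 * ι refl2 = 1 := by
      rw [← map_mul, ← map_one ι, hιker]
      exact Or.inr (Subtype.ext (ext_two (by simp [mul_two_apply]) (by simp [mul_two_apply])
        (by simp [mul_two_apply]) (by simp [mul_two_apply])))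
    set N : S2 := up α * low (-β) * up α with hN
    have h3 : y₂ * ι refl2 * y₂⁻¹ = ι N := by
      rw [refl2_eq, map_mul, map_mul, hN, map_mul, map_mul, show y₂ * (ι (up 1) * ι (low (-1)) * ι (up 1)) * y₂⁻¹
        = (y₂ * ι (up 1) * y₂⁻¹) * (y₂ * ι (low (-1)) * y₂⁻¹) * (y₂ * ι (up 1) * y₂⁻¹) by group, hα, hLb,
        neg_mul, one_mul]
    have h4 : ι (N * N) = ι 1 := by
      rw [map_mul, ← h3, map_one, show y₂ * ι refl2 * y₂⁻¹ * (y₂ * ι refl2 * y₂⁻¹) =
        y₂ * (ι refl2 * ι refl2) * y₂⁻¹ by group, h1, mul_one, mul_inv_cancel]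
    have h5 : ((N * N : S2) : M2) 1 0 = 0 := by
      rcases (hιker _ _).1 h4 with h | h
      · rw [← h]; simp
      · rw [← neg_neg (N * N), ← h]; simp
    simp [hN, mul_two_apply] at h5
    have h6 : β * (1 - α * β) * 2 = 0 := by linear_combination -h5
    have h7 := (mul_eq_zero.1 ((mul_eq_zero.1 h6).resolve_right h2)).resolve_left hβ0
    linear_combination -h7
  have hα0 : α ≠ 0 := left_ne_zero_of_mul_eq_one hαβ
  -- an element of `K` centralising both root groups is trivial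
  have hcent : ∀ k ∈ K, Commute k (ι (up 1)) → Commute k (ι (low 1)) → k = 1 := by
    intro k hk hu hl
    obtain ⟨Z, rfl⟩ := hιsurj k hk
    have hd : (Z : M2) 0 0 * (Z : M2) 1 1 - (Z : M2) 0 1 * (Z : M2) 1 0 = 1 := by
      rw [← Matrix.det_fin_two]; exact Z.2
    rw [Commute, SemiconjBy, ← map_mul, ← map_mul, hιker] at hu hl
    obtain ⟨u00, u01, u10⟩ : (Z : M2) 1 0 = 0 ∧ (Z : M2) 0 0 = (Z : M2) 1 1 ∧ True := by
      rcases hu with h | h
      · have a := congrFun (congrFun (congrArg (fun X : S2 => (X : M2)) h) 0) 0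
        have b := congrFun (congrFun (congrArg (fun X : S2 => (X : M2)) h) 0) 1
        simp [mul_two_apply] at a b
        exact ⟨by linear_combination a, by linear_combination -b, trivial⟩
      · have a := congrFun (congrFun (congrArg (fun X : S2 => (X : M2)) h) 0) 0
        have b := congrFun (congrFun (congrArg (fun X : S2 => (X : M2)) h) 1) 0
        simp [mul_two_apply] at a b
        have hb : (Z : M2) 1 0 = 0 :=
          (mul_eq_zero.1 (by linear_combination b : (2 : F) * (Z : M2) 1 0 = 0)).resolve_left h2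
        have ha : (Z : M2) 0 0 = 0 :=
          (mul_eq_zero.1 (by linear_combination a - hb : (2 : F) * (Z : M2) 0 0 = 0)).resolve_left h2
        rw [ha, hb] at hd
        simp at hd
    have l01 : (Z : M2) 0 1 = 0 := by
      rcases hl with h | h
      · have a := congrFun (congrFun (congrArg (fun X : S2 => (X : M2)) h) 0) 0
        simp [mul_two_apply] at a
        exact a
      · have b := congrFun (congrFun (congrArg (fun X : S2 => (X : M2)) h) 0) 1
        simp [mul_two_apply] at b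
        exact (mul_eq_zero.1 (by linear_combination b : (2 : F) * (Z : M2) 0 1 = 0)).resolve_left h2
    show ((e.symm (proj Z) : ↥K) : G) = 1
    rw [proj_eq_one_iff.2 ⟨l01, u00, u01⟩, map_one, OneMemClass.coe_one]
  have hsq : ∀ g : G, g⁻¹ * y₂ ∈ K → g * g ∈ K := by
    intro g hg
    rw [← QuotientGroup.eq_one_iff, QuotientGroup.mk_mul]
    have h1 : (g : G ⧸ K) = (y : G ⧸ K) := by
      rw [QuotientGroup.eq]
      have h2 := K.mul_mem (K.mul_mem hg (K.inv_mem ((inferInstance : K.Normal).conj_mem _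
        (K.mul_mem (hιK (up (-t))) (K.inv_mem (hιK X))) y⁻¹))) (one_mem _)
      rw [inv_inv] at h2
      rwa [show g⁻¹ * y₂ * (y⁻¹ * (ι (up (-t)) * (ι X)⁻¹) * y)⁻¹ * 1 = g⁻¹ * y by
        rw [hy₂, hy₁]; group] at h2
    rw [h1, ← QuotientGroup.mk_mul, (QuotientGroup.eq_one_iff _).2 hy2]
  have hout : ∀ g : G, g⁻¹ * y₂ ∈ K → g ∉ K := fun g hg h => hy₂K (by simpa using K.mul_mem h hg)
  have hinv2 : ∀ g : G, g⁻¹ * y₂ ∈ K → Commute (g * g) (ι (up 1)) → Commute (g * g) (ι (low 1)) →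
      orderOf g = 2 := fun g hg h1 h2' =>
    orderOf_eq_prime (by rw [pow_two]; exact hcent _ (hsq g hg) h1 h2')
      (fun e => hout g hg (e ▸ one_mem _))
  -- `α` is not a square
  have hns : ∀ γ : F, γ * γ ≠ α := by
    intro γ hγ
    have hγ0 : γ ≠ 0 := by rintro rfl; exact hα0 (by rw [← hγ, mul_zero])
    set x := (ι (dg γ hγ0))⁻¹ * y₂ with hx
    have hxK : x⁻¹ * y₂ ∈ K := by
      rw [show x⁻¹ * y₂ = y₂⁻¹ * ι (dg γ hγ0) * y₂⁻¹⁻¹ by rw [hx]; group]
      exact (inferInstance : K.Normal).conj_mem _ (hιK _) _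
    have hxu : Commute x (ι (up 1)) := by
      refine mul_inv_eq_iff_eq_mul.1 ?_
      calc x * ι (up 1) * x⁻¹ = (ι (dg γ hγ0))⁻¹ * (y₂ * ι (up 1) * y₂⁻¹) * ι (dg γ hγ0) := by rw [hx]; group
        _ = (ι (dg γ hγ0))⁻¹ * (ι (up (1 * (γ * γ))) * ι (dg γ hγ0)) := by rw [hα, hγ, one_mul, mul_assoc]
        _ = _ := by rw [← map_mul, ← dg_up, map_mul, inv_mul_cancel_left]
    have hxl : Commute x (ι (low 1)) := by
      refine mul_inv_eq_iff_eq_mul.1 ?_
      calc x * ι (low 1) * x⁻¹ = (ι (dg γ hγ0))⁻¹ * (y₂ * ι (low 1) * y₂⁻¹) * ι (dg γ hγ0) := by rw [hx]; group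
        _ = (ι (dg γ hγ0))⁻¹ * (ι (low (1 * (γ * γ)⁻¹)) * ι (dg γ hγ0)) := by
          rw [hβ, hγ, one_mul, mul_assoc, eq_inv_of_mul_eq_one_right hαβ]
        _ = _ := by rw [← map_mul, ← dg_low, map_mul, inv_mul_cancel_left]
    have hxo := hinv2 x hxK (hxu.mul_left hxu) (hxl.mul_left hxl)
    have hpu : ι (up (1 : F)) ^ p = 1 := by
      have h1 : (Uhom (Multiplicative.ofAdd 1)) ^ p = 1 := by
        rw [← map_pow, ← ofAdd_nsmul, nsmul_one, CharP.cast_eq_zero]
        exact Uhom.map_one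
      exact h1
    have h1 := hC.eq_one_of_commute (H65.ne_one_of_orderOf hxo) (k := 1)
      (by rw [pow_one, ← hxo]; exact pow_orderOf_eq_one x)
      (hpodd.of_dvd_nat (orderOf_dvd_of_pow_eq_one hpu)) hxu.symm
    exact one_ne_zero (hUinj 1 0 (by rw [h1, hU0]))
  -- the involution
  set b := y₂ * ι refl2 with hb
  have hbK : b⁻¹ * y₂ ∈ K := by
    rw [hb, _root_.mul_inv_rev, mul_assoc, inv_mul_cancel, mul_one]
    exact K.inv_mem (hιK _)
  have hbU : ∀ v : F, b * ι (up v) * b⁻¹ = ι (low (-v * β)) := by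
    intro v
    rw [← hLb, hb, show y₂ * ι refl2 * ι (up v) * (y₂ * ι refl2)⁻¹ =
      y₂ * (ι refl2 * ι (up v) * (ι refl2)⁻¹) * y₂⁻¹ by group, ← map_mul, refl2_up, map_mul,
      mul_inv_cancel_right]
  have hbL : ∀ v : F, b * ι (low v) * b⁻¹ = ι (up (-v * α)) := by
    intro v
    rw [← hUa, hb, show y₂ * ι refl2 * ι (low v) * (y₂ * ι refl2)⁻¹ =
      y₂ * (ι refl2 * ι (low v) * (ι refl2)⁻¹) * y₂⁻¹ by group, ← map_mul, refl2_low, map_mul,
      mul_inv_cancel_right]
  have hbo : orderOf b = 2 := by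
    refine hinv2 b hbK (mul_inv_eq_iff_eq_mul.1 ?_) (mul_inv_eq_iff_eq_mul.1 ?_)
    · rw [show b * b * ι (up 1) * (b * b)⁻¹ = b * (b * ι (up 1) * b⁻¹) * b⁻¹ by group, hbU, hbL]
      congr 2
      linear_combination hαβ
    · rw [show b * b * ι (low 1) * (b * b)⁻¹ = b * (b * ι (low 1) * b⁻¹) * b⁻¹ by group, hbL, hbU]
      congr 2
      linear_combination hαβ
  -- an element of the torus centralised by it
  obtain ⟨s, hs0, hs⟩ : ∃ s : F, s ≠ 0 ∧ 1 + α * (s * s) ≠ 0 := by
    by_cases h : 1 + α * (1 * 1) = 0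
    · refine ⟨2, h2, fun h' => ?_⟩
      have h3 : ((3 : ℕ) : F) = 0 := by push_cast; linear_combination -h' + 4 * h
      rw [CharP.cast_eq_zero_iff F p] at h3
      have := Nat.le_of_dvd (by norm_num) h3
      omega
    · exact ⟨1, one_ne_zero, h⟩
  set a := (1 - α * (s * s)) / (1 + α * (s * s)) with ha
  set c := 2 * s / (1 + α * (s * s)) with hc
  have hac : a * a + α * (c * c) = 1 := by
    rw [ha, hc, div_mul_div_comm, div_mul_div_comm, mul_div_assoc', ← add_div,
      div_eq_one_iff_eq (mul_ne_zero hs hs)]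
    ring
  have hc0 : c ≠ 0 := div_ne_zero (mul_ne_zero h2 hs0) hs
  set l := (a - 1) / (c * α) with hl
  set M : S2 := ⟨!![a, c * α; -c, a], by rw [Matrix.det_fin_two_of]; linear_combination hac⟩ with hM
  have hMc : (M : M2) = !![a, c * α; -c, a] := rfl
  have hMc' : ∀ i j, (M : M2) i j = !![a, c * α; -c, a] i j := fun i j => rfl
  have hM1 : M = low l * up (c * α) * low l := by
    refine Subtype.ext (ext_two ?_ ?_ ?_ ?_) <;> simp [hMc, mul_two_apply, hl] <;> field_simp <;>
      first | ring1 | linear_combination hac | linear_combination -hac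
  have hM2 : M = up (-l * α) * low (-(c * α) * β) * up (-l * α) := by
    have hβ' : β = α⁻¹ := eq_inv_of_mul_eq_one_right hαβ
    refine Subtype.ext (ext_two ?_ ?_ ?_ ?_) <;> simp [hMc, mul_two_apply, hl, hβ'] <;> field_simp <;>
      first | ring1 | linear_combination hac | linear_combination -hac
  have hMb : Commute (ι M) b := by
    refine Commute.symm (mul_inv_eq_iff_eq_mul.1 ?_)
    conv_lhs => rw [hM1, map_mul, map_mul]
    rw [show b * (ι (low l) * ι (up (c * α)) * ι (low l)) * b⁻¹ = (b * ι (low l) * b⁻¹) *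
      (b * ι (up (c * α)) * b⁻¹) * (b * ι (low l) * b⁻¹) by group, hbL, hbU, ← map_mul, ← map_mul, ← hM2]
  -- whose order has a small 2-part
  set h := p / 2 with hh
  have hp2 : p = 2 * h + 1 := by obtain ⟨k, hk⟩ := hpodd; omega
  have hpow : ((M : M2)) ^ p = a • (1 : M2) + ((-1 : F) ^ (h + 1) * c) • !![0, α; -1, 0] := by
    have hJ : (!![0, α; -1, 0] : M2) * !![0, α; -1, 0] = (-α) • (1 : M2) :=
      ext_two (by simp [mul_two_apply]) (by simp [mul_two_apply]) (by simp [mul_two_apply])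
        (by simp [mul_two_apply])
    have hMe : (M : M2) = a • (1 : M2) + c • !![0, α; -1, 0] :=
      ext_two (by simp [hMc]) (by simp [hMc]) (by simp [hMc]) (by simp [hMc])
    have hsq' : ¬ IsSquare α := fun ⟨γ, hγ⟩ => hns γ hγ.symm
    have hαh : α ^ h = -1 := by
      rcases FiniteField.pow_dichotomy (by rw [ringChar.eq F p]; omega) hα0 with h1 | h1
      · exfalso
        rw [hF, ← hh] at h1
        exact hsq' ((FiniteField.isSquare_iff (by rw [ringChar.eq F p]; omega) hα0).2 (by rw [hF, ← hh]; exact h1))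
      · rwa [hF, ← hh] at h1
    rw [hMe, add_pow_char_of_commute (p := p) (((Commute.one_left _).smul_left a).smul_right c), smul_pow,
      smul_pow, one_pow, show a ^ p = a by rw [← hF]; exact FiniteField.pow_card a,
      show c ^ p = c by rw [← hF]; exact FiniteField.pow_card c,
      show (!![0, α; -1, 0] : M2) ^ p = (-α) ^ h • !![0, α; -1, 0] by
        rw [hp2, pow_succ, pow_mul, pow_two, hJ, smul_pow, one_pow, Matrix.smul_mul, Matrix.one_mul],
      smul_smul]
    congr 2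
    rw [neg_pow, hαh, pow_succ]
    ring
  have hMexp : ∃ n, Odd n ∧ M ^ (2 * n) = 1 := by
    rcases Nat.even_or_odd h with hev | hod
    · refine ⟨h + 1, hev.add_one, Subtype.ext ?_⟩
      rw [Matrix.SpecialLinearGroup.coe_pow, show 2 * (h + 1) = p + 1 by omega, pow_succ, hpow,
        hev.add_one.neg_one_pow]
      refine ext_two ?_ ?_ ?_ ?_ <;> simp [hMc, mul_two_apply] <;>
        first | ring1 | linear_combination hac
    · refine ⟨h, hod, ?_⟩
      have h1 : M ^ p = M := Subtype.ext (by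
        rw [Matrix.SpecialLinearGroup.coe_pow, hpow, hod.add_one.neg_one_pow, one_mul]
        exact ext_two (by simp [hMc]) (by simp [hMc]) (by simp [hMc]) (by simp [hMc]))
      rw [hp2, pow_succ] at h1
      exact mul_eq_right.1 h1
  obtain ⟨n, hn, hMn⟩ := hMexp
  obtain ⟨k, hk⟩ := pow_two_of_mem (hC b hbo) (mem_cent.2 hMb)
  have h2M : ι M ^ 2 = 1 := by
    rw [← orderOf_dvd_iff_pow_eq_one]
    have h1 : orderOf (ι M) ∣ Nat.gcd (2 ^ k) (2 * n) := Nat.dvd_gcd (orderOf_dvd_of_pow_eq_one hk)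
      (orderOf_dvd_of_pow_eq_one (by rw [← map_pow, hMn, map_one]))
    rw [Nat.Coprime.gcd_mul_right_cancel_right _ ((Nat.coprime_two_right.2 hn).pow_right k)] at h1
    exact h1.trans (Nat.gcd_dvd_right _ _)
  rw [pow_two, ← map_mul, ← map_one ι, hιker] at h2M
  have h01 : ((M * M : S2) : M2) 0 1 = 0 := by
    rcases h2M with h' | h'
    · rw [← h']; simp
    · rw [← neg_neg (M * M), ← h']; simp
  simp [hMc, mul_two_apply] at h01
  have ha0 : a = 0 :=
    (mul_eq_zero.1 (by linear_combination h01 : (2 * c * α) * a = 0)).resolve_left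
      (mul_ne_zero (mul_ne_zero h2 hc0) hα0)
  refine hns c⁻¹ ?_
  rw [ha0, mul_zero, zero_add] at hac
  field_simp
  linear_combination -hac

end Cfsg.Agent.H65.CIT.PrimeExt
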