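import Cfsg.Agent.H65.CIT.SylowFour
import Cfsg.Agent.H65.CIT.PrimeExt
import Cfsg.Agent.H65.CIT.Elementary
import Cfsg.Agent.H65.SelfCent.Direct

/-!
A group with an amalgam and trivial `O_2` is simple or has a subgroup `PSL(2, 9)` of index 2.
-/

set_option autoImplicit false
set_option linter.unusedSectionVars false
set_option linter.style.haveILetI false
set_option linter.dupNamespace false

namespace Cfsg.Agent.H65.CIT

open Subgroup

universe u

variable {G : Type u} [Group G] [Finite G]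

theorem IsSyl.map_normal {K T : Subgroup G} [hK : K.Normal] (h : IsSyl K T) (x : G) : IsSyl K (cj x T) := by
  have h' := h.map x
  rwa [cj_eq_of_mem (by rw [normalizer_eq_top]; exact mem_top x)] at h'

/-- Frattini: a translate by `K` of any element normalises a Sylow subgroup of `K`. -/
theorem IsSyl.exists_mul_mem_normalizer {K T : Subgroup G} [hK : K.Normal] (h : IsSyl K T) (x : G) :
    ∃ k ∈ K, k * x ∈ normalizer (T : Set G) := by
  obtain ⟨k, hk, he⟩ := (h.map_normal x).exists_conj h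
  refine ⟨k, hk, mem_normalizer_of_cj (Eq.trans ?_ he)⟩
  simp only [cj, Subgroup.map_map]
  congr 1
  ext y
  simp [mul_assoc]

omit [Finite G] in
/-- An element of 2-power order outside a subgroup has a power outside with square inside. -/
theorem exists_sq_mem {K : Subgroup G} : ∀ {a : ℕ} {g : G}, g ^ (2 ^ a) ∈ K → g ∉ K →
    ∃ y : G, y ∉ K ∧ y * y ∈ K
  | 0, g, h, hg => absurd (by simpa using h) hg
  | a + 1, g, h, hg => by
    by_cases h' : g ^ (2 ^ a) ∈ K
    · exact exists_sq_mem h' hg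
    · refine ⟨_, h', ?_⟩
      rwa [← pow_add, ← two_mul, ← pow_succ']

namespace Side

variable {X P T Z : Subgroup G} {q : ℕ} (hL : Loc G) (h : Side X P T Z q)

include hL h in
/-- Elements of `X` normalising `T` have square in a normal subgroup containing `T`. -/
theorem sq_mem {K : Subgroup G} [K.Normal] (hTK : T ≤ K) {x : G} (hx : x ∈ X)
    (hxT : x ∈ normalizer (T : Set G)) : x * x ∈ K := by
  obtain ⟨w, hwX, hw2, -, -, -, hnorm, hinv, -⟩ := h.torus hL
  obtain ⟨U, hU, hwU⟩ := exists_syl_ge (U := zpowers w) (zpowers_le.2 hwX)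
    (isPGroup_zpowers (k := 1) (by rw [pow_one, ← hw2]; exact pow_orderOf_eq_one w))
  obtain ⟨y, -, rfl⟩ := h.syl.exists_conj hU
  have hwK : w ∈ K := by
    obtain ⟨t, ht, e⟩ := hwU (mem_zpowers w)
    exact e ▸ (inferInstance : K.Normal).conj_mem t (hTK ht) y
  obtain ⟨t, ht, m, hm, hmT, hmw, rfl⟩ := hnorm x hx hxT
  have h1 := hTK (h.le_T (hinv m hm hmT hmw))
  rw [← QuotientGroup.eq_one_iff] at h1 ⊢
  rw [QuotientGroup.mk_mul, QuotientGroup.mk_mul, (QuotientGroup.eq_one_iff t).2 (hTK ht), one_mul]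
  rwa [QuotientGroup.mk_mul, QuotientGroup.mk_mul, QuotientGroup.mk_mul, QuotientGroup.mk_inv,
    (QuotientGroup.eq_one_iff w).2 hwK, inv_one, one_mul, mul_one] at h1

include hL h in
/-- A subgroup normalised by `K` and meeting `Z` contains the core of the side. -/
theorem core_le {K L : Subgroup G} [K.Normal] (hTK : T ≤ K) (hKL : K ≤ normalizer (L : Set G)) {z : G}
    (hz : z ∈ Z) (hz1 : z ≠ 1) (hzL : z ∈ L) : P ≤ L := by
  obtain ⟨w, hwX, hw2, -, hwi, hdec, -, -, -⟩ := h.torus hL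
  obtain ⟨U, hU, hwU⟩ := exists_syl_ge (U := zpowers w) (zpowers_le.2 hwX)
    (isPGroup_zpowers (k := 1) (by rw [pow_one, ← hw2]; exact pow_orderOf_eq_one w))
  obtain ⟨x, -, rfl⟩ := h.syl.exists_conj hU
  have hwK : w ∈ K := by
    obtain ⟨t, ht, e⟩ := hwU (mem_zpowers w)
    exact e ▸ (inferInstance : K.Normal).conj_mem t (hTK ht) x
  set y := w * z * w⁻¹ with hy
  have hyL : y ∈ L := inv_mem_of_conj_mem (hKL hwK) hzL
  have hyP : y ∈ P := inv_mem_of_conj_mem (h.par.le_norm hwX) (h.le hz)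
  have hyZ : y ∉ Z := fun e => hz1 (hwi z hz e)
  let f : ↥T →* ↥Z :=
    { toFun := fun t => ⟨t * y * (t : G)⁻¹ * y, h.comm_mem t.2 hyP⟩
      map_one' := Subtype.ext (by simpa using h.ex y hyP)
      map_mul' := fun s t => by
        refine Subtype.ext ?_
        show (s : G) * t * y * ((s : G) * t)⁻¹ * y =
          (s * y * (s : G)⁻¹ * y) * (t * y * (t : G)⁻¹ * y)
        have hc := h.comm_mem t.2 hyP
        rw [← ((h.ex.commute (h.le (h.comm_mem s.2 hyP)) (h.le hc))).symm.eq,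
          show (s : G) * t * y * ((s : G) * t)⁻¹ * y =
            (s * (t * y * (t : G)⁻¹ * y) * (s : G)⁻¹) * (s * y⁻¹ * (s : G)⁻¹ * y) by group,
          h.ex.inv hyP, (h.comm _ hc _ s.2).eq, mul_inv_cancel_right] }
  have hker : f.ker ≤ P.subgroupOf T := by
    intro t ht
    refine mem_subgroupOf.2 ?_
    by_contra htP
    have h1 : (t : G) * y * (t : G)⁻¹ * y = 1 := congrArg Subtype.val (MonoidHom.mem_ker.1 ht)
    have h2 : Commute y (t : G) := by
      have h3 := eq_inv_of_mul_eq_one_left h1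
      rw [h.ex.inv hyP] at h3
      exact (mul_inv_eq_iff_eq_mul.1 h3).symm
    exact hyZ ((h.cent t t.2 htP).le ⟨hyP, mem_cent.2 h2⟩)
  have h1 := f.ker.card_mul_index
  rw [Subgroup.index_ker, h.cardT] at h1
  have h2 : Nat.card ↥f.ker ≤ q ^ 2 := by
    refine (Nat.card_le_card_of_injective _ (Subgroup.inclusion_injective hker)).trans ?_
    rw [Nat.card_congr (subgroupOfEquivOfLe h.le_T).toEquiv, h.cardP]
  have htop : f.range = ⊤ := by
    refine Subgroup.eq_top_of_le_card _ ?_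
    rw [h.cardZ]
    have hq : 0 < q ^ 2 := by have := h.two_le; positivity
    refine Nat.le_of_mul_le_mul_left ?_ hq
    rw [← pow_succ, ← h1]
    exact Nat.mul_le_mul_right _ h2
  have hZL : Z ≤ L := by
    intro a ha
    obtain ⟨t, ht⟩ := htop.ge (mem_top (⟨a, ha⟩ : ↥Z))
    rw [show a = (t : G) * y * (t : G)⁻¹ * y from (congrArg Subtype.val ht).symm]
    exact L.mul_mem (inv_mem_of_conj_mem (hKL (hTK t.2)) hyL) hyL
  intro v hv
  obtain ⟨a, ha, b, hb, rfl⟩ := hdec v hv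
  exact L.mul_mem (hZL ha) (inv_mem_of_conj_mem (hKL hwK) (hZL hb))

end Side

namespace Amalgam

variable (A : Amalgam G) (hL : Loc G)

include hL in
/-- A nontrivial subgroup normalised by a normal subgroup that contains it and `T` contains `T`. -/
theorem T_le {K L : Subgroup G} [K.Normal] (hTK : A.T ≤ K) (hLK : L ≤ K)
    (hKL : K ≤ normalizer (L : Set G)) (hne : L ≠ ⊥) : A.T ≤ L := by
  classical
  haveI : Fact (Nat.Prime 2) := ⟨Nat.prime_two⟩
  have heven : Even (Nat.card ↥L) := by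
    by_contra hodd
    rw [Nat.not_even_iff_odd] at hodd
    obtain ⟨x, hx, hx1⟩ := L.bot_or_exists_ne_one.resolve_left hne
    obtain ⟨a, ha, b, hb, ha1, hb1, hab⟩ : ∃ a ∈ A.P₁, ∃ b ∈ A.P₁, a ≠ 1 ∧ b ≠ 1 ∧ a ≠ b := by
      haveI := Fintype.ofFinite ↥A.P₁
      have h4 : 2 < Fintype.card ↥A.P₁ := by
        rw [← Nat.card_eq_fintype_card, A.cardP₁, pow_two]
        have := Nat.mul_le_mul A.two_le A.two_le
        omega
      obtain ⟨a, b, c, hab, hac, hbc⟩ := Fintype.two_lt_card_iff.1 h4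
      have e : ∀ s t : ↥A.P₁, s ≠ t → (s : G) ≠ t := fun s t h h' => h (Subtype.ext h')
      by_cases h : (a : G) = 1
      · exact ⟨b, b.2, c, c.2, fun h' => e a b hab (h.trans h'.symm),
          fun h' => e a c hac (h.trans h'.symm), e b c hbc⟩
      · by_cases h' : (b : G) = 1
        · exact ⟨a, a.2, c, c.2, h, fun h'' => e b c hbc (h'.trans h''.symm), e a c hac⟩
        · exact ⟨a, a.2, b, b.2, h, h', e a b hab⟩
    have ho : ∀ c ∈ A.P₁, c ≠ 1 → orderOf c = 2 := fun c hc hc1 =>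
      orderOf_eq_prime (by rw [pow_two]; exact A.ex₁ c hc) hc1
    have hinv : ∀ c ∈ A.P₁, c ≠ 1 → c * x * c⁻¹ = x⁻¹ := fun c hc hc1 =>
      hL.cit.inverts_of_odd_subgroup (hKL (hTK (A.le₁ hc))) hodd (ho c hc hc1) hx
    have hab1 : a * b ≠ 1 := fun e => hab ((eq_inv_of_mul_eq_one_left e).trans (A.ex₁.inv hb))
    have h1 := hinv _ (A.P₁.mul_mem ha hb) hab1
    rw [show a * b * x * (a * b)⁻¹ = a * (b * x * b⁻¹) * a⁻¹ by group, hinv b hb hb1, ← conj_inv,
      hinv a ha ha1, inv_inv] at h1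
    have h2 : x * x = 1 := by nth_rw 2 [h1]; exact mul_inv_cancel x
    have hxo : Odd (orderOf x) := hodd.of_dvd_nat (Subgroup.orderOf_dvd_natCard L hx)
    exact hx1 (eq_one_of_pow_two (k := 1) (by rwa [pow_one, pow_two]) hxo)
  obtain ⟨⟨u, huL⟩, hu⟩ := exists_prime_orderOf_dvd_card' (G := ↥L) 2 (even_iff_two_dvd.1 heven)
  rw [← Subgroup.orderOf_coe] at hu
  obtain ⟨S, hS, hTS⟩ := exists_syl_ge hTK A.hT₁.2.1
  obtain ⟨S', hS', huS'⟩ := exists_syl_ge (zpowers_le.2 (hLK huL))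
    (isPGroup_zpowers (k := 1) (by rw [pow_one, ← hu]; exact pow_orderOf_eq_one u))
  obtain ⟨k, hk, hkS⟩ := hS'.exists_conj hS
  set v := k * u * k⁻¹ with hv
  have hvS : v ∈ S := hkS ▸ conj_mem_cj (huS' (mem_zpowers u))
  have hvL : v ∈ L := inv_mem_of_conj_mem (hKL hk) huL
  haveI : ((L ⊓ S).subgroupOf S).Normal := normal_subgroupOf_of_le_normalizer fun s hs =>
    mem_normalizer_iff.2 fun y =>
      ⟨fun hy => ⟨inv_mem_of_conj_mem (hKL (hS.1 hs)) hy.1, S.mul_mem (S.mul_mem hs hy.2) (S.inv_mem hs)⟩,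
        fun hy => ⟨((mem_normalizer_iff.1 (hKL (hS.1 hs))) y).2 hy.1, by
          have := S.mul_mem (S.mul_mem (S.inv_mem hs) hy.2) hs
          rwa [show s⁻¹ * (s * y * s⁻¹) * s = y by group] at this⟩⟩
  have hN : (L ⊓ S).subgroupOf S ≠ ⊥ := by
    intro e
    have h1 : (⟨v, hvS⟩ : ↥S) ∈ (L ⊓ S).subgroupOf S := mem_subgroupOf.2 ⟨hvL, hvS⟩
    rw [e, Subgroup.mem_bot] at h1
    have h2 : v = 1 := congrArg Subtype.val h1
    rw [hv, conj_eq_one_iff] at h2
    exact H65.ne_one_of_orderOf hu h2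
  obtain ⟨z, hzN, hzc, hz⟩ := PGroups.exists_mem_center_orderOf_eq hS.2.1 _ hN
  have hzo : orderOf (z : G) = 2 := by rw [Subgroup.orderOf_coe, hz]
  have hzS : ∀ s ∈ S, Commute s (z : G) := fun s hs =>
    congrArg Subtype.val (mem_center_iff.1 hzc ⟨s, hs⟩)
  have hzZ : (z : G) ∈ A.P₁ ⊓ A.P₂ := ⟨hL.cent_le A.h₁ fun p hp => (hzS p (hTS (A.le₁ hp))).symm,
    hL.cent_le A.h₂ fun p hp => (hzS p (hTS (A.le₂ hp))).symm⟩
  have hzL : (z : G) ∈ L := (mem_subgroupOf.1 hzN).1
  rw [← A.sup_eq]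
  exact sup_le (A.side₁.core_le hL hTK hKL hzZ (H65.ne_one_of_orderOf hzo) hzL)
    (A.side₂.core_le hL hTK hKL hzZ (H65.ne_one_of_orderOf hzo) hzL)

theorem T_ne_bot : A.T ≠ ⊥ := fun e => by
  have h1 := A.cardT
  rw [e, Subgroup.card_bot] at h1
  have h2 : 2 ^ 3 ≤ A.q ^ 3 := Nat.pow_le_pow_left A.two_le 3
  omega

include hL in
/-- The normal closure of `T` lies in every nontrivial normal subgroup. -/
theorem hull_le {M : Subgroup G} [M.Normal] (hM : M ≠ ⊥) : normalClosure (A.T : Set G) ≤ M :=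
  normalClosure_le_normal (A.T_le hL (K := ⊤) le_top le_top (by rw [normalizer_eq_top]) hM)

include hL in
/-- The normal closure of `T` is simple. -/
theorem hull_simple : IsSimpleGroup ↥(normalClosure (A.T : Set G)) := by
  set K := normalClosure (A.T : Set G) with hK
  haveI : K.Normal := normalClosure_normal
  have hTK : A.T ≤ K := subset_normalClosure
  haveI : Nontrivial ↥K :=
    (Subgroup.nontrivial_iff_ne_bot K).2 fun e => A.T_ne_bot (le_bot_iff.1 (e ▸ hTK))
  refine ⟨fun L hL' => or_iff_not_imp_left.2 fun hne => ?_⟩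
  set L' := L.map K.subtype with hL'def
  have hne' : L' ≠ ⊥ := fun e => hne ((Subgroup.map_eq_bot_iff_of_injective L K.subtype_injective).1 e)
  have hKL' : K ≤ normalizer (L' : Set G) := by
    intro k hk
    refine mem_normalizer_of_cj (Subgroup.eq_of_le_of_card_ge ?_ (card_cj k L').ge)
    rintro _ ⟨_, ⟨l, hl, rfl⟩, rfl⟩
    exact ⟨⟨k, hk⟩ * l * ⟨k, hk⟩⁻¹, hL'.conj_mem l hl _, rfl⟩
  have hKK : ∀ g : G, cj g K = K := fun g => cj_eq_of_mem (by rw [normalizer_eq_top]; exact mem_top g)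
  have hall : ∀ g : G, cj g A.T ≤ L' := by
    intro g
    have h1 : A.T ≤ cj g⁻¹ L' := by
      refine A.T_le hL hTK ((cj_le (map_subtype_le L)).trans (hKK _).le) ?_ ?_
      · rw [← cj_normalizer]
        exact (hKK g⁻¹).ge.trans (cj_le hKL')
      · exact fun e => hne' ((Subgroup.map_eq_bot_iff_of_injective L' (MulAut.conj g⁻¹).injective).1 e)
    exact (cj_le h1).trans (cj_inv' g L').le
  have hle : K ≤ L' := by
    rw [hK, normalClosure, closure_le]
    intro y hy
    obtain ⟨t, ht, hty⟩ := Group.mem_conjugatesOfSet_iff.1 hy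
    obtain ⟨g, rfl⟩ := isConj_iff.1 hty
    exact hall g (conj_mem_cj ht)
  rw [eq_top_iff]
  intro k _
  obtain ⟨l, hl, hlk⟩ := hle k.2
  exact (Subtype.ext hlk : l = k) ▸ hl

include hL in
theorem norm_le {K : Subgroup G} [K.Normal] (hTK : A.T ≤ K) {x : G} (hx : x ∈ A.X₁)
    (hxT : x ∈ normalizer (A.T : Set G)) : x ∈ K := by
  obtain ⟨a, j, ⟨l, rfl⟩, hnj⟩ := Nat.exists_eq_two_pow_mul_odd (orderOf_pos x).ne'
  have h1 : x ^ (2 * l + 1) ∈ K := hTK (A.hT₁.mem_of_normalizes (pow_mem hx _) (pow_mem hxT _)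
    (k := a) (by rw [← pow_mul, mul_comm, ← hnj, pow_orderOf_eq_one]))
  rw [pow_succ, pow_mul, pow_two] at h1
  exact (Subgroup.mul_mem_cancel_left _ (pow_mem (A.side₁.sq_mem hL hTK hx hxT) l)).1 h1

include hL in
/-- When `T` is a Sylow subgroup of the normal subgroup `K`, its index is at most 2. -/
theorem mul_mem_of_not_mem {K : Subgroup G} [K.Normal] (hTK : IsSyl K A.T) {x y : G} (hx : x ∉ K)
    (hy : y ∉ K) : x⁻¹ * y ∈ K := by
  obtain ⟨k, hk, hkx⟩ := hTK.exists_mul_mem_normalizer x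
  obtain ⟨k', hk', hky⟩ := hTK.exists_mul_mem_normalizer y
  have hsx : cj (k * x) A.P₁ = A.P₂ := (A.norm_cases hkx).resolve_left fun h =>
    hx ((Subgroup.mul_mem_cancel_left _ hk).1 (A.norm_le hL hTK.1 h hkx))
  have hsy : cj (k' * y) A.P₁ = A.P₂ := (A.norm_cases hky).resolve_left fun h =>
    hy ((Subgroup.mul_mem_cancel_left _ hk').1 (A.norm_le hL hTK.1 h hky))
  have hN : (k * x)⁻¹ * (k' * y) ∈ normalizer (A.T : Set G) := mul_mem (inv_mem hkx) hky
  have hX : (k * x)⁻¹ * (k' * y) ∈ A.X₁ := by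
    rw [← A.h₁.norm]
    refine mem_normalizer_of_cj ?_
    calc cj ((k * x)⁻¹ * (k' * y)) A.P₁ = cj (k * x)⁻¹ (cj (k' * y) A.P₁) := by
          simp only [cj, Subgroup.map_map]; congr 1; ext z; simp [mul_assoc]
      _ = A.P₁ := by rw [hsy, ← hsx, cj_inv]
  have h1 := A.norm_le hL hTK.1 hX hN
  rw [← QuotientGroup.eq_one_iff] at h1 ⊢
  rwa [QuotientGroup.mk_mul, QuotientGroup.mk_inv, QuotientGroup.mk_mul, QuotientGroup.mk_mul,
    (QuotientGroup.eq_one_iff k).2 hk, (QuotientGroup.eq_one_iff k').2 hk', one_mul, one_mul,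
    ← QuotientGroup.mk_inv, ← QuotientGroup.mk_mul] at h1

include hL in
/-- For `q = 4` the normal closure of `T` is everything. -/
theorem hull_eq_top_four (hq : A.q = 4) : normalClosure (A.T : Set G) = ⊤ := by
  haveI : Fact (Nat.Prime 2) := ⟨Nat.prime_two⟩
  set K := normalClosure (A.T : Set G) with hK
  haveI : K.Normal := normalClosure_normal
  have hTK : A.T ≤ K := subset_normalClosure
  have hsyl := A.sylow_four_gen hL hq hTK fun M hM hMi => by
    haveI := hM
    refine A.hull_le hL fun e => ?_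
    rw [e, Subgroup.index_bot] at hMi
    have h1 := Subgroup.card_le_card_group A.T
    rw [hMi, A.cardT, hq] at h1
    norm_num at h1
  have hTKs : IsSyl K A.T := ⟨hTK, A.hT₁.2.1, fun U _ hU => hsyl U hU⟩
  rw [eq_top_iff]
  intro x _
  by_contra hx
  obtain ⟨a, j, ⟨l, rfl⟩, hnj⟩ := Nat.exists_eq_two_pow_mul_odd (orderOf_pos x).ne'
  have hx2 : x * x ∈ K := by
    have := A.mul_mem_of_not_mem hL hTKs (x := x⁻¹) (y := x) (fun h => hx (by simpa using K.inv_mem h)) hx
    rwa [inv_inv] at this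
  have hg : x ^ (2 * l + 1) ∉ K := fun h => hx (by
    rw [pow_succ, pow_mul, pow_two] at h
    exact (Subgroup.mul_mem_cancel_left _ (pow_mem hx2 l)).1 h)
  obtain ⟨U, hU, hgU⟩ := exists_syl_ge (X := (⊤ : Subgroup G)) (U := zpowers (x ^ (2 * l + 1))) le_top
    (isPGroup_zpowers (k := a) (by rw [← pow_mul, mul_comm, ← hnj, pow_orderOf_eq_one]))
  have hT : IsSyl (⊤ : Subgroup G) A.T := ⟨le_top, A.hT₁.2.1, fun V _ hV => hsyl V hV⟩
  obtain ⟨y, -, rfl⟩ := hT.exists_conj hU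
  obtain ⟨t, ht, e⟩ := hgU (mem_zpowers _)
  exact hg (e ▸ (inferInstance : K.Normal).conj_mem t (hTK ht) y)

include hL in
/-- For `q = 2`: the normal closure of `T` is everything, or it is `PSL(2, 9)` of index 2. -/
theorem hull_two (hq : A.q = 2) :
    normalClosure (A.T : Set G) = ⊤ ∨ ((normalClosure (A.T : Set G)).index = 2 ∧
      ∃ (F : Type) (_ : Field F) (_ : Fintype F), Fintype.card F = 9 ∧
        Nonempty (↥(normalClosure (A.T : Set G)) ≃* Matrix.ProjectiveSpecialLinearGroup (Fin 2) F)) := by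
  classical
  haveI : Fact (Nat.Prime 2) := ⟨Nat.prime_two⟩
  set K := normalClosure (A.T : Set G) with hK
  haveI hKn : K.Normal := normalClosure_normal
  haveI : IsSimpleGroup ↥K := A.hull_simple hL
  have hTK : A.T ≤ K := subset_normalClosure
  obtain ⟨w, hwX, hw2, -, hwi, hdec, -, -, -⟩ := A.side₁.torus hL
  -- the centre of a Sylow subgroup of `K`
  obtain ⟨S₀, hS₀, hTS⟩ := exists_syl_ge hTK A.hT₁.2.1
  obtain ⟨S, hSe⟩ := hS₀.exists_sylow
  have hmemS : ∀ s : ↥K, s ∈ (S : Subgroup ↥K) ↔ (s : G) ∈ S₀ := fun s => by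
    rw [← hSe]
    exact (Subgroup.mem_map_iff_mem K.subtype_injective).symm
  have hPS : ∀ p ∈ A.P₁, p ∈ S₀ := fun p hp => hTS (A.le₁ hp)
  haveI : Nontrivial ↥S₀ :=
    (Subgroup.nontrivial_iff_ne_bot _).2 fun e => A.T_ne_bot (le_bot_iff.1 (e ▸ hTS))
  obtain ⟨z₀, -, hzc, hz₀⟩ := PGroups.exists_mem_center_orderOf_eq hS₀.2.1
    (⊤ : Subgroup ↥S₀) top_ne_bot
  set z : G := (z₀ : G) with hzdef
  have hz : orderOf z = 2 := by rw [hzdef, Subgroup.orderOf_coe, hz₀]
  have hz1 := H65.ne_one_of_orderOf hz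
  have hcz : ∀ s ∈ S₀, Commute s z := fun s hs =>
    congrArg Subtype.val (mem_center_iff.mp hzc ⟨s, hs⟩)
  have hmemZ : ∀ v : G, (∀ t ∈ A.T, Commute t v) → v ∈ A.P₁ ⊓ A.P₂ := fun v hv =>
    ⟨hL.cent_le A.h₁ fun p hp => (hv p (A.le₁ hp)).symm, hL.cent_le A.h₂ fun p hp => (hv p (A.le₂ hp)).symm⟩
  have hzZ : z ∈ A.P₁ ⊓ A.P₂ := hmemZ z fun t ht => hcz t (hTS ht)
  have hZ : ∀ v ∈ A.P₁ ⊓ A.P₂, v = 1 ∨ v = z := by
    have heq : ({1, z} : Set G) = ((A.P₁ ⊓ A.P₂ : Subgroup G) : Set G) := by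
      refine Set.eq_of_subset_of_ncard_le ?_ ?_
      · rintro v (rfl | rfl)
        exacts [one_mem _, hzZ]
      · rw [Set.ncard_pair hz1.symm, ← Nat.card_coe_set_eq]
        exact le_of_eq (A.cardZ.trans hq)
    intro v hv
    exact (heq ▸ hv : v ∈ ({1, z} : Set G))
  set u := w * z * w⁻¹ with hu
  have huP : u ∈ A.P₁ := inv_mem_of_conj_mem (A.h₁.le_norm hwX) hzZ.1
  have huo : orderOf u = 2 := (H65.orderOf_conj' w z).trans hz
  have huz : u ≠ z := fun e => hz1 (hwi z hzZ (by rw [← hu, e]; exact hzZ))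
  have hP4 : ∀ p ∈ A.P₁, p = 1 ∨ p = z ∨ p = u ∨ p = u * z := by
    intro p hp
    obtain ⟨a, ha, b, hb, rfl⟩ := hdec p hp
    rcases hZ a ha with rfl | rfl <;> rcases hZ b hb with rfl | rfl
    · simp
    · right; right; left; simp [hu]
    · right; left; simp
    · right; right; right
      exact (A.ex₁.commute hzZ.1 huP).eq
  -- the group `K`
  have hKna : ¬ IsMulCommutative ↥K := by
    intro hcomm
    obtain ⟨t, ht, htP⟩ : ∃ t ∈ A.T, t ∉ A.P₁ := SetLike.not_le_iff_exists.1 fun h => by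
      have := Subgroup.card_le_of_le h
      rw [A.cardT, A.cardP₁, hq] at this
      norm_num at this
    have h1 : u ∈ A.P₁ ⊓ A.P₂ := (A.cent₁ t ht htP).le ⟨huP, mem_cent.2 (congrArg Subtype.val
      (hcomm.is_comm.comm ⟨u, hTK (A.le₁ huP)⟩ ⟨t, hTK ht⟩))⟩
    rcases hZ u h1 with h | h
    · exact H65.ne_one_of_orderOf huo h
    · exact huz h
  obtain ⟨n, hn⟩ := IsPGroup.iff_card.1 S.2
  let zK : ↥(S : Subgroup ↥K) := ⟨⟨z, hS₀.1 z₀.2⟩, (hmemS _).2 z₀.2⟩
  let uK : ↥(S : Subgroup ↥K) := ⟨⟨u, hTK (A.le₁ huP)⟩, (hmemS _).2 (hPS u huP)⟩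
  obtain ⟨S', n', a, z', h1, h2, h3, h4, h5, h6⟩ := SelfCent.exists_dihedral_of hKna S hn zK uK
    (mem_center_iff.2 fun s => Subtype.ext (Subtype.ext (hcz _ ((hmemS _).1 s.2))))
    (by rw [← Subgroup.orderOf_coe, ← Subgroup.orderOf_coe]; exact hz)
    (by rw [← Subgroup.orderOf_coe, ← Subgroup.orderOf_coe]; exact huo)
    (fun e => huz (congrArg (fun s : ↥(S : Subgroup ↥K) => ((s : ↥K) : G)) e))
    (fun c hc => by
      have hcu : Commute ((c : ↥K) : G) u :=
        congrArg (fun s : ↥(S : Subgroup ↥K) => ((s : ↥K) : G)) hc.eq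
      have hcS := (hmemS _).1 c.2
      have hcmem : ((c : ↥K) : G) ∈ A.P₁ := hL.cent_le A.h₁ fun p hp => by
        rcases hP4 p hp with rfl | rfl | rfl | rfl
        exacts [Commute.one_right _, hcz _ hcS, hcu, hcu.mul_right (hcz _ hcS)]
      rcases hP4 _ hcmem with h | h | h | h
      · exact Or.inl (Subtype.ext (Subtype.ext h))
      · exact Or.inr (Or.inl (Subtype.ext (Subtype.ext h)))
      · exact Or.inr (Or.inr (Or.inl (Subtype.ext (Subtype.ext h))))
      · exact Or.inr (Or.inr (Or.inr (Subtype.ext (Subtype.ext h)))))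
    fun c _ _ => S.3 ((hL.cit.subgroup K) _ (by rw [← Subgroup.orderOf_coe]; exact hz))
      fun s hs => mem_cent.2 (Subtype.ext (hcz _ ((hmemS s).1 hs)))
  obtain ⟨F, iF, iFt, hF, ⟨e⟩⟩ := SelfCent.psl_of_dihedral S' h1 h2 h3 h4 h5 h6
  rw [or_iff_not_imp_left]
  intro hne
  obtain ⟨x, hx⟩ : ∃ x, x ∉ K := by
    by_contra hcon
    push Not at hcon
    exact hne (eq_top_iff.2 fun x _ => hcon x)
  have hdvd : 8 ∣ Nat.card ↥K := by
    have h8 : Nat.card ↥A.T = 8 := by rw [A.cardT, hq]; norm_num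
    exact h8 ▸ Subgroup.card_dvd_of_le hTK
  have hcard := Linear.card_PSL_two_mul (F := F)
  rw [← Nat.card_congr e.toEquiv] at hcard
  rcases hF with h | h | ⟨hp, -⟩
  · exfalso
    rw [h] at hcard
    norm_num at hcard
    omega
  · refine ⟨?_, F, iF, iFt, h, ⟨e⟩⟩
    rw [h] at hcard
    norm_num at hcard
    have hTs : IsSyl K A.T := by
      refine ⟨hTK, A.hT₁.2.1, fun U hUK hU hTU => (Subgroup.eq_of_le_of_card_ge hTU ?_).symm⟩
      obtain ⟨m, hm⟩ := IsPGroup.iff_card.1 hU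
      have h1 := Subgroup.card_dvd_of_le hUK
      rw [hm, show Nat.card ↥K = 360 by omega] at h1
      rw [hm, A.cardT, hq]
      refine Nat.pow_le_pow_right (by norm_num) ?_
      by_contra hlt
      have h16 : 2 ^ 4 ∣ 360 := (pow_dvd_pow 2 (by omega : 4 ≤ m)).trans h1
      norm_num at h16
    refine Subgroup.index_eq_two_iff.2 ⟨x, fun b => ?_⟩
    by_cases hb : b ∈ K
    · exact Or.inr ⟨hb, fun h => hx ((Subgroup.mul_mem_cancel_left _ hb).1 h)⟩
    · refine Or.inl ⟨?_, hb⟩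
      have := A.mul_mem_of_not_mem hL hTs (fun h => hb (by simpa using K.inv_mem h) : b⁻¹ ∉ K) hx
      rwa [inv_inv] at this
  · exfalso
    have h5p : 5 ≤ Fintype.card F := by
      by_contra hlt
      have := hp.two_le
      interval_cases hq' : Fintype.card F <;> revert hp hcard <;> norm_num <;> omega
    -- some element outside has its square inside
    obtain ⟨k, hk, hkx⟩ := hS₀.exists_mul_mem_normalizer x
    set g := k * x with hg
    have hgc : Commute g z := by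
      have h7 : ∀ t ∈ A.T, Commute t (g * z * g⁻¹) := by
        intro t ht
        have h7 := hcz _ (inv_mem_of_conj_mem (inv_mem hkx) (hTS ht))
        have h8 := h7.map (MulAut.conj g).toMonoidHom
        simp only [MulEquiv.toMonoidHom_eq_coe, MonoidHom.coe_coe, MulAut.conj_apply] at h8
        rwa [show g * (g⁻¹ * t * g⁻¹⁻¹) * g⁻¹ = t by group] at h8
      rcases hZ _ (hmemZ _ h7) with h | h
      · rw [conj_eq_one_iff] at h
        exact absurd h hz1
      · exact mul_inv_eq_iff_eq_mul.1 h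
    obtain ⟨j, hj⟩ := pow_two_of_mem (hL.cit z hz) (mem_cent.2 hgc)
    obtain ⟨y, hy, hyy⟩ := exists_sq_mem (K := K) (a := j) (g := g) (hj ▸ one_mem K)
      fun h => hx ((Subgroup.mul_mem_cancel_left _ hk).1 h)
    exact PrimeExt.no_prime_ext hL.cit hp h5p rfl e hy hyy

include hL in
/-- A group with an amalgam with `q ≤ 4` is simple or has a subgroup `PSL(2, 9)` of index 2. -/
theorem simple_or_index_two (hq : A.q = 2 ∨ A.q = 4) :
    IsSimpleGroup G ∨ ∃ N : Subgroup G, N.Normal ∧ N.index = 2 ∧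
      ∃ (F : Type) (_ : Field F) (_ : Fintype F), Fintype.card F = 9 ∧
        Nonempty (↥N ≃* Matrix.ProjectiveSpecialLinearGroup (Fin 2) F) := by
  have htop : normalClosure (A.T : Set G) = ⊤ → IsSimpleGroup G := fun h => by
    haveI := A.hull_simple hL
    exact (((MulEquiv.subgroupCongr h).trans Subgroup.topEquiv)).symm.isSimpleGroup
  rcases hq with hq | hq
  · rcases A.hull_two hL hq with h | ⟨h1, h2⟩
    · exact Or.inl (htop h)
    · exact Or.inr ⟨_, normalClosure_normal, h1, h2⟩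
  · exact Or.inl (htop (A.hull_eq_top_four hL hq))

end Amalgam

end Cfsg.Agent.H65.CIT
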