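import Cfsg.Agent.H39.StronglyEmbedded
import Cfsg.Agent.H65.Invol
import Cfsg.Agent.S0215

/-!
# Centraliser-closed TI subgroups of even order

For an involution `z` whose centraliser `M` is a centraliser-closed TI subgroup containing a Sylow
2-subgroup, the normaliser of `M` is strongly embedded and permutes the involutions of `M` simply
transitively modulo `M`.
-/

set_option autoImplicit false
set_option linter.unusedSectionVars false
set_option linter.style.haveILetI false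

namespace Cfsg.Agent.H65.CIT

open scoped Pointwise

universe u

variable {G : Type u} [Group G] [Finite G]

omit [Finite G] in
theorem mem_C {y x : G} : y ∈ Subgroup.centralizer ({x} : Set G) ↔ Commute y x :=
  Subgroup.mem_centralizer_singleton_iff

/-- A centraliser-closed TI subgroup `M = C(z)` of even order that is not normal, in a group without
odd normal subgroups. -/
structure Frame (G : Type u) [Group G] where
  /-- The involution. -/
  z : G
  hz : orderOf z = 2
  hS : ∃ S : Sylow 2 G, (S : Subgroup G) ≤ Subgroup.centralizer ({z} : Set G)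
  cc : ∀ x ∈ Subgroup.centralizer ({z} : Set G), x ≠ 1 →
    Subgroup.centralizer ({x} : Set G) ≤ Subgroup.centralizer ({z} : Set G)
  ti : ∀ x ∈ Subgroup.centralizer ({z} : Set G), x ≠ 1 → ∀ g : G,
    g * x * g⁻¹ ∈ Subgroup.centralizer ({z} : Set G) →
    g ∈ Subgroup.normalizer (Subgroup.centralizer ({z} : Set G) : Set G)
  not_normal : Subgroup.normalizer (Subgroup.centralizer ({z} : Set G) : Set G) ≠ ⊤
  invol_le : ∀ u : G, orderOf u = 2 →
    u ∈ Subgroup.normalizer (Subgroup.centralizer ({z} : Set G) : Set G) →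
    u ∈ Subgroup.centralizer ({z} : Set G)
  odd_core : ∀ K : Subgroup G, K.Normal → Odd (Nat.card ↥K) → K = ⊥

namespace Frame

variable (F : Frame G)

/-- The centraliser of the involution. -/
abbrev M : Subgroup G := Subgroup.centralizer ({F.z} : Set G)

/-- Its normaliser. -/
abbrev N : Subgroup G := Subgroup.normalizer (F.M : Set G)

omit [Finite G] in
theorem M_le_N : F.M ≤ F.N := Subgroup.le_normalizer

omit [Finite G] in
theorem z_mem : F.z ∈ F.M := mem_C.2 (Commute.refl _)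

omit [Finite G] in
theorem conj_mem {n x : G} (hn : n ∈ F.N) (hx : x ∈ F.M) : n * x * n⁻¹ ∈ F.M :=
  (Subgroup.mem_normalizer_iff.1 hn x).1 hx

omit [Finite G] in
theorem centralizer_le {x g : G} (hx : x ∈ F.M) (hx1 : x ≠ 1) (h : Commute g x) : g ∈ F.M :=
  F.cc x hx hx1 (mem_C.2 h)

omit [Finite G] in
theorem mem_N_of_conj {x g : G} (hx : x ∈ F.M) (hx1 : x ≠ 1) (h : g * x * g⁻¹ ∈ F.M) :
    g ∈ F.N :=
  F.ti x hx hx1 g h

omit [Finite G] in
theorem N_ne_top : F.N ≠ ⊤ := F.not_normal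

omit [Finite G] in
/-- Involutions of `N` lie in `M`. -/
theorem invol_mem {u : G} (hu : orderOf u = 2) (huN : u ∈ F.N) : u ∈ F.M := F.invol_le u hu huN

theorem isSE : Cfsg.IsStronglyEmbedded F.N := by
  refine ⟨F.N_ne_top, even_iff_two_dvd.2
    (F.hz ▸ Subgroup.orderOf_dvd_natCard F.N (F.M_le_N F.z_mem)), fun g hg => ?_⟩
  rw [← Nat.not_even_iff_odd]
  intro he
  haveI : Fact (Nat.Prime 2) := ⟨Nat.prime_two⟩
  obtain ⟨⟨w, hw1, hwm⟩, hw2⟩ := exists_prime_orderOf_dvd_card' 2 (even_iff_two_dvd.1 he)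
  rw [← Subgroup.orderOf_coe] at hw2
  obtain ⟨y, hy, hyw⟩ := Subgroup.mem_map.1 hwm
  have hyw' : g * y * g⁻¹ = w := hyw
  have hy2 : orderOf y = 2 := by rw [← H65.orderOf_conj' g, hyw']; exact hw2
  exact hg (F.mem_N_of_conj (F.invol_mem hy2 hy) (H65.ne_one_of_orderOf hy2)
    (hyw'.symm ▸ F.invol_mem hw2 hw1))

theorem exists_conj {u : G} (hu : orderOf u = 2) : ∃ g : G, g * F.z * g⁻¹ = u :=
  isConj_iff.1 (H39.se_involutions_conj F.isSE F.hz hu)

/-- An involution of `M` is conjugate to `z` in `N`. -/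
theorem exists_conj_N {u : G} (hu : orderOf u = 2) (huM : u ∈ F.M) :
    ∃ g ∈ F.N, g * F.z * g⁻¹ = u := by
  obtain ⟨g, hg⟩ := F.exists_conj hu
  exact ⟨g, F.mem_N_of_conj F.z_mem (H65.ne_one_of_orderOf F.hz) (hg.symm ▸ huM), hg⟩

/-- The involutions of `M` are central in it and have centraliser `M`. -/
theorem mem_M_iff_commute {u g : G} (hu : orderOf u = 2) (huM : u ∈ F.M) :
    g ∈ F.M ↔ Commute g u := by
  obtain ⟨n, hn, rfl⟩ := F.exists_conj_N hu huM
  have h1 : n⁻¹ * g * n ∈ F.M ↔ g ∈ F.M := by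
    constructor
    · intro h
      have := F.conj_mem hn h
      rwa [show n * (n⁻¹ * g * n) * n⁻¹ = g by group] at this
    · intro h
      have := F.conj_mem (F.N.inv_mem hn) h
      rwa [inv_inv] at this
  rw [← h1, mem_C]
  constructor
  · intro h
    have := h.map (MulAut.conj n).toMonoidHom
    simp only [MulEquiv.toMonoidHom_eq_coe, MonoidHom.coe_coe, MulAut.conj_apply] at this
    rwa [show n * (n⁻¹ * g * n) * n⁻¹ = g by group] at this
  · intro h
    have := h.map (MulAut.conj n⁻¹).toMonoidHom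
    simp only [MulEquiv.toMonoidHom_eq_coe, MonoidHom.coe_coe, MulAut.conj_apply, inv_inv] at this
    rwa [show n⁻¹ * (n * F.z * n⁻¹) * n = F.z by group] at this

/-- The index of `M` in `N`. -/
noncomputable abbrev m : ℕ := Nat.card (↥F.N ⧸ F.M.subgroupOf F.N)

omit [Finite G] in
theorem card_N : Nat.card ↥F.N = F.m * Nat.card ↥F.M := by
  rw [Subgroup.card_eq_card_quotient_mul_card_subgroup (F.M.subgroupOf F.N),
    Nat.card_congr (Subgroup.subgroupOfEquivOfLe F.M_le_N).toEquiv]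

theorem card_invol : Nat.card {w : G // orderOf w = 2 ∧ w ∈ F.M} = F.m := by
  let f : ↥F.N ⧸ F.M.subgroupOf F.N → {w : G // orderOf w = 2 ∧ w ∈ F.M} := fun q =>
    ⟨(q.out : G) * F.z * (q.out : G)⁻¹, by rw [H65.orderOf_conj']; exact F.hz,
      F.conj_mem q.out.2 F.z_mem⟩
  have key : ∀ a b : ↥F.N, (a : G) * F.z * (a : G)⁻¹ = (b : G) * F.z * (b : G)⁻¹ ↔
      (QuotientGroup.mk a : ↥F.N ⧸ F.M.subgroupOf F.N) = QuotientGroup.mk b := by
    intro a b
    rw [QuotientGroup.eq, Subgroup.mem_subgroupOf, mem_C]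
    show _ ↔ (a : G)⁻¹ * (b : G) * F.z = F.z * ((a : G)⁻¹ * (b : G))
    constructor
    · intro h
      calc (a : G)⁻¹ * (b : G) * F.z = (a : G)⁻¹ * ((b : G) * F.z * (b : G)⁻¹) * (b : G) := by group
        _ = (a : G)⁻¹ * ((a : G) * F.z * (a : G)⁻¹) * (b : G) := by rw [h]
        _ = _ := by group
    · intro h
      calc (a : G) * F.z * (a : G)⁻¹
          = (a : G) * (F.z * ((a : G)⁻¹ * (b : G))) * (b : G)⁻¹ := by group
        _ = (a : G) * ((a : G)⁻¹ * (b : G) * F.z) * (b : G)⁻¹ := by rw [h]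
        _ = _ := by group
  refine (Nat.card_eq_of_bijective f ⟨fun q q' h => ?_, fun w => ?_⟩).symm
  · rw [← q.out_eq', ← q'.out_eq']
    exact (key _ _).1 (congrArg Subtype.val h)
  · obtain ⟨g, hgN, hg⟩ := F.exists_conj_N w.2.1 w.2.2
    exact ⟨QuotientGroup.mk ⟨g, hgN⟩, Subtype.ext
      (((key _ ⟨g, hgN⟩).2 (QuotientGroup.out_eq' _)).trans hg)⟩

/-- There are at least two involutions in `M`. -/
theorem two_le_m : 2 ≤ F.m := by
  rw [← F.card_invol]
  by_contra hlt
  haveI : Fact (Nat.Prime 2) := ⟨Nat.prime_two⟩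
  haveI : Subsingleton {w : G // orderOf w = 2 ∧ w ∈ F.M} :=
    Finite.card_le_one_iff_subsingleton.1 (by omega)
  obtain ⟨S, hS⟩ := F.hS
  obtain ⟨T, hT⟩ := (IsPGroup.of_card (p := 2) (n := 1) (G := ↥(Subgroup.zpowers F.z))
    (by rw [Nat.card_zpowers, F.hz, pow_one])).exists_le_sylow
  obtain ⟨g, rfl⟩ := MulAction.exists_smul_eq G S T
  have hmem : g⁻¹ * F.z * g ∈ (S : Subgroup G) := by
    have h := hT (Subgroup.mem_zpowers F.z)
    rwa [show ((g • S : Sylow 2 G) : Subgroup G) = MulAut.conj g • (S : Subgroup G) from rfl,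
      Subgroup.mem_pointwise_smul_iff_inv_smul_mem, MulAut.smul_def, MulAut.conj_inv_apply] at h
  have hu : orderOf (g⁻¹ * F.z * g) = 2 := by
    have := H65.orderOf_conj' g⁻¹ F.z
    rw [inv_inv] at this
    rw [this]; exact F.hz
  have hzS : F.z ∈ (S : Subgroup G) := by
    have h := Subsingleton.elim (⟨_, hu, hS hmem⟩ : {w : G // orderOf w = 2 ∧ w ∈ F.M})
      ⟨F.z, F.hz, F.z_mem⟩
    have h' : g⁻¹ * F.z * g = F.z := congrArg Subtype.val h
    rwa [h'] at hmem
  obtain ⟨K, hKn, hKodd, hK⟩ := S0215.result S F.z F.hz hzS fun x hx =>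
    congrArg Subtype.val (Subsingleton.elim
      (⟨_, (H65.orderOf_conj' x F.z).trans F.hz, hS hx⟩ : {w : G // orderOf w = 2 ∧ w ∈ F.M})
      ⟨F.z, F.hz, F.z_mem⟩)
  have hKbot := F.odd_core K hKn hKodd
  refine F.N_ne_top (top_le_iff.1 (le_trans (fun x _ => mem_C.2 ?_) F.M_le_N))
  have h1 : F.z * x * F.z⁻¹ * x⁻¹ = 1 := Subgroup.mem_bot.1 (hKbot ▸ hK x)
  exact (mul_inv_eq_iff_eq_mul.1 (mul_inv_eq_one.1 h1)).symm

end Frame

end Cfsg.Agent.H65.CIT
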