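import Cfsg.Agent.H65.CIT.SylowFour

/-!
# Points and lines of the amalgam

Points are the conjugates of `P₁`, lines those of `P₂`. When `T` is a Sylow 2-subgroup, every involution has one
point and one line, and it fixes exactly the points of its line.
-/

set_option autoImplicit false
set_option linter.unusedSectionVars false
set_option linter.style.haveILetI false
set_option linter.dupNamespace false

namespace Cfsg.Agent.H65.CIT

open Subgroup

universe u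

variable {G : Type u} [Group G] [Finite G]

omit [Finite G] in
theorem cj_mul (g h : G) (X : Subgroup G) : cj (g * h) X = cj g (cj h X) := by
  simp only [cj, Subgroup.map_map]
  congr 1
  ext x
  simp [mul_assoc]

omit [Finite G] in
theorem cj_one (X : Subgroup G) : cj 1 X = X := by
  ext x
  simp [mem_cj]

namespace Amalgam

/-- A point is a conjugate of `P₁`. -/
def IsPt (A : Amalgam G) (P : Subgroup G) : Prop := ∃ g, P = cj g A.P₁

/-- A point and a line are incident if they are conjugate to the two sides by one element. -/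
def Inc (A : Amalgam G) (P L : Subgroup G) : Prop := ∃ g, P = cj g A.P₁ ∧ L = cj g A.P₂

/-- The point and the line of an element conjugate into `Z`. -/
def Own (A : Amalgam G) (u : G) (P L : Subgroup G) : Prop :=
  ∃ g, g⁻¹ * u * g ∈ A.P₁ ⊓ A.P₂ ∧ P = cj g A.P₁ ∧ L = cj g A.P₂

variable (A : Amalgam G)

theorem inc_swap {P L : Subgroup G} : A.swap.Inc L P ↔ A.Inc P L :=
  ⟨fun ⟨g, h1, h2⟩ => ⟨g, h2, h1⟩, fun ⟨g, h1, h2⟩ => ⟨g, h2, h1⟩⟩

theorem own_swap {u : G} {P L : Subgroup G} : A.swap.Own u L P ↔ A.Own u P L :=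
  ⟨fun ⟨g, ⟨h1, h2⟩, h3, h4⟩ => ⟨g, ⟨h2, h1⟩, h4, h3⟩, fun ⟨g, ⟨h1, h2⟩, h3, h4⟩ => ⟨g, ⟨h2, h1⟩, h4, h3⟩⟩

theorem inc_isPt {P L : Subgroup G} (h : A.Inc P L) : A.IsPt P := h.elim fun g hg => ⟨g, hg.1⟩

theorem inc_map {P L : Subgroup G} (h : A.Inc P L) (u : G) : A.Inc (cj u P) (cj u L) := by
  obtain ⟨g, rfl, rfl⟩ := h
  exact ⟨u * g, (cj_mul u g _).symm, (cj_mul u g _).symm⟩

theorem inc_le {P L : Subgroup G} (h : A.Inc P L) : L ≤ normalizer (P : Set G) := by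
  obtain ⟨g, rfl, rfl⟩ := h
  rw [← cj_normalizer]
  exact cj_le (A.le₂.trans (A.hT₁.1.trans A.h₁.le_norm))

theorem own_inc {u : G} {P L : Subgroup G} (h : A.Own u P L) : A.Inc P L :=
  h.elim fun g hg => ⟨g, hg.2⟩

theorem own_mem {u : G} {P L : Subgroup G} (h : A.Own u P L) : u ∈ P ∧ u ∈ L := by
  obtain ⟨g, hu, rfl, rfl⟩ := h
  exact ⟨mem_cj.2 hu.1, mem_cj.2 hu.2⟩

/-- An element normalising both sides normalises `T`. -/
theorem norm_T {g : G} (h₁ : g ∈ A.X₁) (h₂ : g ∈ A.X₂) : g ∈ normalizer (A.T : Set G) := by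
  refine mem_normalizer_of_cj ?_
  rw [← A.sup_eq, cj, Subgroup.map_sup]
  exact congrArg₂ (· ⊔ ·) (cj_eq_of_mem (A.h₁.le_norm h₁)) (cj_eq_of_mem (A.h₂.le_norm h₂))

variable (hL : Loc G) (hS : ∀ U : Subgroup G, IsPGroup 2 ↥U → A.T ≤ U → U = A.T)

include hS in
theorem mem_X₁ {g : G} (hg : g ∈ normalizer (A.T : Set G)) : g ∈ A.X₁ := by
  by_contra hgX
  obtain ⟨i, j, hj, hnj⟩ := Nat.exists_eq_two_pow_mul_odd (orderOf_pos g).ne'
  have h1 := (A.norm_cases hg).resolve_left hgX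
  have hgg : g * g ∈ A.X₁ := by
    refine (A.norm_cases (mul_mem hg hg)).resolve_right fun h => ?_
    rw [cj_mul, h1] at h
    exact A.ne (Subgroup.map_injective (MulAut.conj g).injective (h1.trans h.symm))
  have h2 : g ^ j ∈ A.T := by
    have hp : IsPGroup 2 ↥(zpowers (g ^ j) ⊔ A.T) :=
      (isPGroup_zpowers (k := i) (by rw [← pow_mul, mul_comm, ← hnj, pow_orderOf_eq_one]))
        |>.to_sup_of_normal_right' A.hT₁.2.1 (zpowers_le.2 (pow_mem hg j))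
    exact hS _ hp le_sup_right ▸ mem_sup_left (mem_zpowers _)
  obtain ⟨l, rfl⟩ := hj
  refine hgX ?_
  have h3 : (g * g) ^ l ∈ A.X₁ := pow_mem hgg l
  have h4 := A.hT₁.1 h2
  rw [pow_succ, pow_mul, pow_two] at h4
  exact (Subgroup.mul_mem_cancel_left _ h3).1 h4

include hS in
theorem mem_X₂' {g : G} (hg : g ∈ normalizer (A.T : Set G)) : g ∈ A.X₂ :=
  A.norm₂ hg (A.mem_X₁ hS hg)

include hS in
/-- Points are not lines. -/
theorem not_conj (g : G) : cj g A.P₁ ≠ A.P₂ := by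
  intro h
  have hX : cj g A.X₁ = A.X₂ := by
    rw [← A.h₁.norm, ← A.h₂.norm, cj_normalizer, h]
  obtain ⟨x, hx, hxT⟩ := (hX ▸ A.hT₁.map g).exists_conj A.hT₂
  rw [← cj_mul] at hxT
  have h1 := cj_eq_of_mem (A.h₁.le_norm (A.mem_X₁ hS (mem_normalizer_of_cj hxT)))
  rw [cj_mul, h, cj_eq_of_mem (A.h₂.le_norm hx)] at h1
  exact A.ne h1.symm

include hL hS in
theorem cent_Z {z : G} (hz : z ∈ A.P₁ ⊓ A.P₂) (h1 : z ≠ 1) :
    centralizer ({z} : Set G) = A.T :=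
  hS _ (hL.cit z (orderOf_eq_prime (by rw [pow_two]; exact A.ex₁ z hz.1) h1))
    fun t ht => mem_cent.2 (A.commute_Z hz ht)

include hL hS in
theorem own_unique {u : G} (hu : u ≠ 1) {P L P' L' : Subgroup G} (h : A.Own u P L)
    (h' : A.Own u P' L') : P = P' ∧ L = L' := by
  obtain ⟨g, hz, rfl, rfl⟩ := h
  obtain ⟨k, hz', rfl, rfl⟩ := h'
  have hne : ∀ x : G, x⁻¹ * u * x ≠ 1 := fun x e => hu (by
    rw [show u = x * (x⁻¹ * u * x) * x⁻¹ by group, e, mul_one, mul_inv_cancel])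
  have hN : k⁻¹ * g ∈ normalizer (A.T : Set G) := by
    refine mem_normalizer_of_cj ?_
    conv_lhs => rw [← A.cent_Z hL hS hz (hne g)]
    conv_rhs => rw [← A.cent_Z hL hS hz' (hne k)]
    ext x
    rw [mem_cj, mem_cent, mem_cent]
    have key : (k⁻¹ * g) * (g⁻¹ * u * g) * (k⁻¹ * g)⁻¹ = k⁻¹ * u * k := by group
    constructor
    · intro hc
      have := hc.map (MulAut.conj (k⁻¹ * g)).toMonoidHom
      simp only [MulEquiv.toMonoidHom_eq_coe, MonoidHom.coe_coe, MulAut.conj_apply, key] at this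
      rwa [show (k⁻¹ * g) * ((k⁻¹ * g)⁻¹ * x * (k⁻¹ * g)) * (k⁻¹ * g)⁻¹ = x by group] at this
    · intro hc
      have := hc.map (MulAut.conj (k⁻¹ * g)⁻¹).toMonoidHom
      simp only [MulEquiv.toMonoidHom_eq_coe, MonoidHom.coe_coe, MulAut.conj_apply, inv_inv] at this
      rwa [← key, show (k⁻¹ * g)⁻¹ * ((k⁻¹ * g) * (g⁻¹ * u * g) * (k⁻¹ * g)⁻¹) * (k⁻¹ * g) =
        g⁻¹ * u * g by group] at this
  constructor
  · rw [show g = k * (k⁻¹ * g) by group, cj_mul k,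
      cj_eq_of_mem (A.h₁.le_norm (A.mem_X₁ hS hN))]
  · rw [show g = k * (k⁻¹ * g) by group, cj_mul k,
      cj_eq_of_mem (A.h₂.le_norm (A.mem_X₂' hS hN))]

include hL in
theorem mem_point {u : G} {P : Subgroup G} (hP : A.IsPt P) (hu : u ∈ P) : ∃ L, A.Own u P L := by
  obtain ⟨g, rfl⟩ := hP
  obtain ⟨x, hx, hxz⟩ := A.exists_conj_Z hL (mem_cj.1 hu)
  refine ⟨cj (g * x⁻¹) A.P₂, g * x⁻¹, ?_, ?_, rfl⟩
  · rwa [show (g * x⁻¹)⁻¹ * u * (g * x⁻¹) = x * (g⁻¹ * u * g) * x⁻¹ by group]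
  · rw [cj_mul, cj_eq_of_mem (inv_mem (A.h₁.le_norm hx))]

include hL in
theorem mem_line {u : G} {P L : Subgroup G} (h : A.Inc P L) (hu : u ∈ L) : ∃ P', A.Own u P' L :=
  (A.swap.mem_point hL (A.swap.inc_isPt (A.inc_swap.2 h)) hu).imp fun _ h => A.own_swap.1 h

include hL hS in
theorem exists_own {u : G} (hu : orderOf u = 2) : ∃ P L, A.Own u P L := by
  haveI : Fact (Nat.Prime 2) := ⟨Nat.prime_two⟩
  obtain ⟨S, hSle⟩ := (isPGroup_zpowers (x := u) (k := 1)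
    (by rw [pow_one, ← hu]; exact pow_orderOf_eq_one u)).exists_le_sylow
  obtain ⟨S₀, hS₀⟩ := A.hT₁.2.1.exists_le_sylow
  have hS₀T : (S₀ : Subgroup G) = A.T := hS _ S₀.2 hS₀
  obtain ⟨g, hg⟩ := MulAction.exists_smul_eq G S S₀
  have hgu : g * u * g⁻¹ ∈ A.T := by
    rw [← hS₀T, ← hg, Sylow.smul_def]
    exact ⟨u, hSle (mem_zpowers u), rfl⟩
  have h2 : g * u * g⁻¹ * (g * u * g⁻¹) = 1 := by
    rw [show g * u * g⁻¹ * (g * u * g⁻¹) = g * (u * u) * g⁻¹ by group, H65.mul_self_eq_one hu, mul_one,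
      mul_inv_cancel]
  rcases A.invol_mem hgu h2 with h | h
  · obtain ⟨L, hL'⟩ := A.mem_point hL (P := cj g⁻¹ A.P₁) ⟨g⁻¹, rfl⟩
      (mem_cj.2 (by rwa [inv_inv]) : u ∈ cj g⁻¹ A.P₁)
    exact ⟨_, _, hL'⟩
  · obtain ⟨P, hP⟩ := A.mem_line hL (P := cj g⁻¹ A.P₁) (L := cj g⁻¹ A.P₂) ⟨g⁻¹, rfl, rfl⟩
      (mem_cj.2 (by rwa [inv_inv]) : u ∈ cj g⁻¹ A.P₂)
    exact ⟨_, _, hP⟩

include hL hS in
/-- An involution fixes exactly the points of its line. -/
theorem fixes_iff {u : G} (hu : orderOf u = 2) {P P₀ L₀ : Subgroup G} (h₀ : A.Own u P₀ L₀)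
    (hP : A.IsPt P) : u ∈ normalizer (P : Set G) ↔ A.Inc P L₀ := by
  refine ⟨fun hfix => ?_, fun h => A.inc_le h (A.own_mem h₀).2⟩
  have hu1 := H65.ne_one_of_orderOf hu
  obtain ⟨g, rfl⟩ := hP
  rw [← cj_normalizer, A.h₁.norm, mem_cj] at hfix
  set v := g⁻¹ * u * g with hv
  have hvv : v * v = 1 := by
    rw [hv, show g⁻¹ * u * g * (g⁻¹ * u * g) = g⁻¹ * (u * u) * g by group, H65.mul_self_eq_one hu,
      mul_one, inv_mul_cancel]
  obtain ⟨T', hT', hvT⟩ := exists_syl_ge (zpowers_le.2 hfix)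
    (isPGroup_zpowers (x := v) (k := 1) (by rw [pow_one, pow_two]; exact hvv))
  obtain ⟨x, hx, rfl⟩ := A.hT₁.exists_conj hT'
  have hw : x⁻¹ * v * x ∈ A.T := mem_cj.1 (hvT (mem_zpowers v))
  have hww : x⁻¹ * v * x * (x⁻¹ * v * x) = 1 := by
    rw [show x⁻¹ * v * x * (x⁻¹ * v * x) = x⁻¹ * (v * v) * x by group, hvv, mul_one, inv_mul_cancel]
  have hPx : cj (g * x) A.P₁ = cj g A.P₁ := by rw [cj_mul, cj_eq_of_mem (A.h₁.le_norm hx)]
  have hmem : ∀ Y : Subgroup G, x⁻¹ * v * x ∈ Y → u ∈ cj (g * x) Y := fun Y h => mem_cj.2 (by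
    rwa [show (g * x)⁻¹ * u * (g * x) = x⁻¹ * v * x by rw [hv]; group])
  rcases A.invol_mem hw hww with h | h
  · obtain ⟨L, hL'⟩ := A.mem_point hL ⟨g, rfl⟩ (hPx ▸ hmem _ h)
    exact (A.own_unique hL hS hu1 hL' h₀).2 ▸ A.own_inc hL'
  · obtain ⟨P', hP'⟩ := A.mem_line hL (P := cj g A.P₁) (L := cj (g * x) A.P₂) ⟨g * x, hPx.symm, rfl⟩
      (hmem _ h)
    exact (A.own_unique hL hS hu1 hP' h₀).2 ▸ ⟨g * x, hPx.symm, rfl⟩

include hL hS in
/-- Two lines have at most one common point. -/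
theorem inc_unique {P P' L L' : Subgroup G} (h1 : A.Inc P L) (h2 : A.Inc P L') (h3 : A.Inc P' L)
    (h4 : A.Inc P' L') (hne : L ≠ L') : P = P' := by
  obtain ⟨a, hPa, rfl⟩ := h1
  obtain ⟨b, hPb, rfl⟩ := h2
  set Z := A.P₁ ⊓ A.P₂ with hZ
  have hPex : Ex2 P := hPa ▸ A.ex₁.map a
  have hla : cj a Z ≤ P := hPa ▸ cj_le inf_le_left
  have hlb : cj b Z ≤ P := hPb ▸ cj_le inf_le_left
  have hdis : cj a Z ⊓ cj b Z = ⊥ := by
    rw [eq_bot_iff]
    rintro y ⟨hya, hyb⟩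
    refine Subgroup.mem_bot.2 (by_contra fun hy => hne ?_)
    exact (A.own_unique hL hS hy ⟨a, mem_cj.1 hya, rfl, rfl⟩ ⟨b, mem_cj.1 hyb, rfl, rfl⟩).2
  have hn : cj a Z ≤ normalizer ((cj b Z : Subgroup G) : Set G) := fun y hy => by
    refine mem_normalizer_of_cj (Subgroup.eq_of_le_of_card_ge ?_ (card_cj y _).ge)
    rintro _ ⟨x, hx, rfl⟩
    show y * x * y⁻¹ ∈ cj b Z
    rwa [(hPex.commute (hla hy) (hlb hx)).eq, mul_inv_cancel_right]
  have hsup : cj a Z ⊔ cj b Z = P := by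
    refine Subgroup.eq_of_le_of_card_ge (sup_le hla hlb) ?_
    have hc := card_sup_mul (cj a Z) (cj b Z) hn
    rw [hdis, Subgroup.card_bot, mul_one, card_cj, card_cj, A.cardZ] at hc
    rw [hc, hPa, card_cj, A.cardP₁, pow_two]
  have hle : P ≤ normalizer (P' : Set G) := hsup ▸ sup_le
    ((cj_le inf_le_right).trans (A.inc_le h3)) ((cj_le inf_le_right).trans (A.inc_le h4))
  obtain ⟨g, rfl⟩ := A.inc_isPt h3
  rw [← cj_normalizer, A.h₁.norm] at hle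
  have hle' : cj g⁻¹ P ≤ A.X₁ := by have := cj_le (g := g⁻¹) hle; rwa [cj_inv] at this
  obtain ⟨T', hT', hPT⟩ := exists_syl_ge hle' (hPex.map g⁻¹).isPGroup
  obtain ⟨x, hx, rfl⟩ := A.hT₁.exists_conj hT'
  have hle'' : cj x⁻¹ (cj g⁻¹ P) ≤ A.T := by have := cj_le (g := x⁻¹) hPT; rwa [cj_inv] at this
  rcases A.elem_eq hle'' ((hPex.map _).map _) (by rw [card_cj, card_cj, hPa, card_cj, A.cardP₁]) with
    h | h
  · rw [← cj_inv' g P, ← cj_inv' x (cj g⁻¹ P), h, cj_eq_of_mem (A.h₁.le_norm hx)]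
  · rw [hPa, ← cj_mul, ← cj_mul] at h
    exact absurd h (A.not_conj hS _)

/-- The lines through a point are those of the cosets of the torus. -/
theorem card_lines (hL : Loc G) (hS : ∀ U : Subgroup G, IsPGroup 2 ↥U → A.T ≤ U → U = A.T)
    {P : Subgroup G} (hP : A.IsPt P) : Nat.card {L : Subgroup G // A.Inc P L} = A.q + 1 := by
  classical
  obtain ⟨g, rfl⟩ := hP
  obtain ⟨w, hwX, -, hwT, -⟩ := A.side₁.torus hL
  have hinc : ∀ x ∈ A.X₁, A.Inc (cj g A.P₁) (cj (g * x) A.P₂) := fun x hx =>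
    ⟨g * x, by rw [cj_mul, cj_eq_of_mem (A.h₁.le_norm hx)], rfl⟩
  have htwX : ∀ t : ↥A.T, (t : G) * w ∈ A.X₁ := fun t => A.X₁.mul_mem (A.hT₁.1 t.2) hwX
  let f : Option (↥A.T ⧸ A.P₁.subgroupOf A.T) → {L : Subgroup G // A.Inc (cj g A.P₁) L} :=
    fun o => o.elim ⟨cj (g * 1) A.P₂, hinc 1 (one_mem _)⟩
      fun t => ⟨cj (g * (t.out * w)) A.P₂, hinc _ (htwX t.out)⟩
  have hX₂ : ∀ x y : G, cj (g * x) A.P₂ = cj (g * y) A.P₂ → x⁻¹ * y ∈ A.X₂ := fun x y h => by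
    rw [← A.h₂.norm]
    refine mem_normalizer_of_cj ?_
    rw [cj_mul g x, cj_mul g y] at h
    rw [cj_mul, ← Subgroup.map_injective (MulAut.conj g).injective h, cj_inv]
  have hw1 : w ∉ normalizer (A.T : Set G) := fun h => hwT (cj_eq_of_mem h)
  have hnone : ∀ t : ↥A.T, cj (g * 1) A.P₂ ≠ cj (g * ((t : G) * w)) A.P₂ := fun t h => by
    have h1 := hX₂ _ _ h
    rw [inv_one, one_mul] at h1
    exact hw1 (A.norm_T hwX ((Subgroup.mul_mem_cancel_left _ (A.hT₂.1 t.2)).1 h1))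
  have hsame : ∀ t t' : ↥A.T, cj (g * ((t : G) * w)) A.P₂ = cj (g * ((t' : G) * w)) A.P₂ →
      t⁻¹ * t' ∈ A.P₁.subgroupOf A.T := by
    intro t t' h
    refine mem_subgroupOf.2 ?_
    have h1 := hX₂ _ _ h
    set s : G := (t : G)⁻¹ * t' with hs
    have hsT : s ∈ A.T := A.T.mul_mem (A.T.inv_mem t.2) t'.2
    rw [show ((t : G) * w)⁻¹ * ((t' : G) * w) = w⁻¹ * s * w by rw [hs]; group] at h1
    have h2 := A.norm_T (A.X₁.mul_mem (A.X₁.mul_mem (A.X₁.inv_mem hwX) (A.hT₁.1 hsT)) hwX) h1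
    obtain ⟨k, hk⟩ := pow_two_of_mem A.hT₁.2.1 hsT
    have h3 : w⁻¹ * s * w ∈ A.T := A.hT₁.mem_of_normalizes
      (A.X₁.mul_mem (A.X₁.mul_mem (A.X₁.inv_mem hwX) (A.hT₁.1 hsT)) hwX) h2 (k := k) (by
        rw [show w⁻¹ * s * w = w⁻¹ * s * (w⁻¹)⁻¹ by rw [inv_inv], conj_pow, hk, mul_one,
          mul_inv_cancel])
    show s ∈ A.P₁
    exact hL.inf_syl A.h₁ A.hT₁ ((cj_eq_of_mem (le_normalizer hwX)) ▸ A.hT₁.map w) hwT.symm
      ⟨hsT, mem_cj.2 h3⟩
  have hf : Function.Bijective f := by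
    refine ⟨?_, ?_⟩
    · rintro (_ | a) (_ | b) h
      · rfl
      · exact absurd (congrArg Subtype.val h) (hnone b.out)
      · exact absurd (congrArg Subtype.val h).symm (hnone a.out)
      · rw [← QuotientGroup.out_eq' a, ← QuotientGroup.out_eq' b]
        exact congrArg some (QuotientGroup.eq.2 (hsame _ _ (congrArg Subtype.val h)))
    · rintro ⟨L, k, hk, rfl⟩
      set x := g⁻¹ * k with hx
      have hxX : x ∈ A.X₁ := by
        rw [← A.h₁.norm]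
        refine mem_normalizer_of_cj ?_
        rw [hx, cj_mul, ← hk, cj_inv]
      have hkx : k = g * x := by rw [hx]; group
      by_cases hxT : cj x A.T = A.T
      · refine ⟨none, Subtype.ext ?_⟩
        show cj (g * 1) A.P₂ = cj k A.P₂
        rw [mul_one, hkx, cj_mul g x,
          cj_eq_of_mem (A.h₂.le_norm (A.norm₂ (mem_normalizer_of_cj hxT) hxX))]
      · obtain ⟨t, ht, hte⟩ := A.side₁.transitive hL
          ((cj_eq_of_mem (le_normalizer hwX)) ▸ A.hT₁.map w) hwT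
          ((cj_eq_of_mem (le_normalizer hxX)) ▸ A.hT₁.map x) hxT
        rw [← cj_mul] at hte
        set t' : ↥A.T := (QuotientGroup.mk (⟨t, ht⟩ : ↥A.T) : ↥A.T ⧸ A.P₁.subgroupOf A.T).out
          with ht'
        refine ⟨some (QuotientGroup.mk ⟨t, ht⟩), Subtype.ext ?_⟩
        show cj (g * ((t' : G) * w)) A.P₂ = cj k A.P₂
        have hp : t⁻¹ * (t' : G) ∈ A.P₁ := by
          have h2 : (QuotientGroup.mk (⟨t, ht⟩ : ↥A.T) : ↥A.T ⧸ A.P₁.subgroupOf A.T) =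
            QuotientGroup.mk t' := (QuotientGroup.out_eq' _).symm
          exact mem_subgroupOf.1 (QuotientGroup.eq.1 h2)
        have hN : (t * w)⁻¹ * x ∈ normalizer (A.T : Set G) :=
          mem_normalizer_of_cj (by rw [cj_mul, ← hte, cj_inv])
        have hX : (t * w)⁻¹ * x ∈ A.X₂ := A.norm₂ hN
          (A.X₁.mul_mem (A.X₁.inv_mem (A.X₁.mul_mem (A.hT₁.1 ht) hwX)) hxX)
        have hq : w⁻¹ * (t⁻¹ * (t' : G)) * w ∈ A.X₂ := by
          refine A.hT₂.1 (A.le₁ ?_)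
          have := inv_mem_of_conj_mem (inv_mem (A.h₁.le_norm hwX)) hp
          rwa [inv_inv] at this
        have e1 : (t' : G) * w = (t * w) * (w⁻¹ * (t⁻¹ * (t' : G)) * w) := by group
        have e2 : x = (t * w) * ((t * w)⁻¹ * x) := by group
        rw [hkx, cj_mul g x, cj_mul g, e1, cj_mul (t * w), cj_eq_of_mem (A.h₂.le_norm hq), e2,
          cj_mul (t * w), cj_eq_of_mem (A.h₂.le_norm hX)]
  rw [← Nat.card_congr (Equiv.ofBijective f hf), Finite.card_option]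
  congr 1
  have h := (A.P₁.subgroupOf A.T).card_mul_index
  rw [Nat.card_congr (subgroupOfEquivOfLe A.le₁).toEquiv, A.cardP₁, A.cardT, pow_succ A.q 2] at h
  exact Nat.eq_of_mul_eq_mul_left (by have := A.two_le; positivity) h

end Amalgam

end Cfsg.Agent.H65.CIT
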