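import Cfsg.Agent.H65.CIT.Numeric
import Cfsg.Agent.H28.ZassApps
import Cfsg.Agent.H39.ElemPSL
import Cfsg.Agent.H27.PermFamily
import Cfsg.Agent.S0346
import Cfsg.Agent.S0347

/-!
# Simple groups with a centraliser-closed TI subgroup of even order

The subgroup is a 2-group, and the group is `PSL(2, 2^n)` or has Suzuki order.
-/

set_option autoImplicit false
set_option linter.unusedSectionVars false
set_option linter.style.haveILetI false
set_option linter.dupNamespace false

namespace Cfsg.Agent.H65.CIT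

open Subgroup MulAction

universe u

variable {G : Type u} [Group G] [Finite G]

namespace Frame

variable (F : Frame G)

include F in
/-- In a simple group the kernel is a 2-group. -/
theorem isPGroup_M [IsSimpleGroup G] : IsPGroup 2 ↥F.M := by
  classical
  obtain ⟨hZ, -⟩ := F.zassenhaus
  haveI := Fintype.ofFinite (G ⧸ F.N)
  obtain ⟨p, k, hp, hk, hpk⟩ := S0346.result hZ
  have hcard : Nat.card ↥F.M = p ^ k := by
    rw [hpk, ← Nat.card_eq_fintype_card, F.card_points, Nat.add_sub_cancel]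
  have h2 : (2 : ℕ) ∣ p ^ k := hcard ▸ F.hz ▸ Subgroup.orderOf_dvd_natCard F.M F.z_mem
  obtain rfl : p = 2 := ((Nat.prime_dvd_prime_iff_eq Nat.prime_two hp.nat_prime).1
    (Nat.prime_two.dvd_of_dvd_pow h2)).symm
  exact IsPGroup.of_card hcard

/-- An abelian kernel has exponent two. -/
theorem sq_eq_one_of_comm (hc : ∀ a ∈ F.M, ∀ b ∈ F.M, Commute a b) {x : G} (hx : x ∈ F.M) :
    x * x = 1 := by
  classical
  obtain ⟨hZ, hker⟩ := F.zassenhaus
  obtain ⟨P, hP⟩ := F.exists_ne_base
  have h2 := F.hz ▸ Subgroup.orderOf_dvd_natCard F.M F.z_mem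
  have hcard : F.m + 1 = Nat.card ↥F.M := by
    rcases H28.Zass.kernel_cases hker hZ hP.symm (fun a ha b hb => (hc a ha b hb).eq) with h | h
    · rwa [F.card_two hP] at h
    · omega
  by_cases hx1 : x = 1
  · rw [hx1, one_mul]
  let f : {w : G // orderOf w = 2 ∧ w ∈ F.M} → {y : ↥F.M // y ≠ 1} := fun w =>
    ⟨⟨w.1, w.2.2⟩, fun e => H65.ne_one_of_orderOf w.2.1 (congrArg Subtype.val e)⟩
  have hf : Function.Injective f := fun a b h => Subtype.ext
    (congrArg (fun y : {y : ↥F.M // y ≠ 1} => (y.1 : G)) h)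
  haveI := Fintype.ofFinite ↥F.M
  have hle : Nat.card {y : ↥F.M // y ≠ 1} ≤ Nat.card {w : G // orderOf w = 2 ∧ w ∈ F.M} := by
    rw [F.card_invol, Nat.card_eq_fintype_card, Fintype.card_subtype_compl, Fintype.card_subtype_eq,
      ← Nat.card_eq_fintype_card]
    omega
  obtain ⟨w, hw⟩ := (hf.bijective_of_nat_card_le hle).2 ⟨⟨x, hx⟩, fun e => hx1 (congrArg Subtype.val e)⟩
  have hwx : w.1 = x := congrArg (fun y : {y : ↥F.M // y ≠ 1} => (y.1 : G)) hw
  exact hwx ▸ H65.mul_self_eq_one w.2.1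

include F in
/-- A simple group with a frame is `PSL(2, 2^n)` or has Suzuki order. -/
theorem classification [IsSimpleGroup G] :
    (∃ n : ℕ, 2 ≤ n ∧
      Nonempty (G ≃* Matrix.ProjectiveSpecialLinearGroup (Fin 2) (GaloisField 2 n))) ∨
    Cfsg.IsSuzuki G := by
  classical
  haveI : Fact (Nat.Prime 2) := ⟨Nat.prime_two⟩
  have hM2 := F.isPGroup_M
  obtain ⟨hZ, hker⟩ := F.zassenhaus
  by_cases hc : ∀ a ∈ F.M, ∀ b ∈ F.M, Commute a b
  swap
  · right
    push Not at hc
    obtain ⟨a, ha, b, hb, hab⟩ := hc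
    refine S0347.result hZ F.base F.M (fun x hx => F.smul_base.2 (F.M_le_N hx))
      (normal_subgroupOf_of_le_normalizer fun g hg => (F.smul_base.1 hg : g ∈ F.N)) hM2
      ⟨⟨a, ha⟩, ⟨b, hb⟩, fun e => hab (congrArg Subtype.val e)⟩ fun y w hy hw => ?_
    obtain ⟨c, hc', hcy⟩ := F.regular.2 y w hy hw
    refine ⟨⟨c, hc'⟩, hcy, fun d hd => Subtype.ext ?_⟩
    have hd' : (d : G) • y = w := hd
    refine (inv_mul_eq_one.1 (F.eq_one_of_fix hy (F.M.mul_mem (F.M.inv_mem d.2) hc') ?_))
    rw [mul_smul, hcy, ← hd', inv_smul_smul]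
  left
  have hexp : ∀ x ∈ F.M, x * x = 1 := fun x hx => F.sq_eq_one_of_comm hc hx
  obtain ⟨S, hS⟩ := F.hS
  have hSM : (S : Subgroup G) = F.M := (S.is_maximal' hM2 hS).symm
  have helem : H39.ElemCentralizers G := by
    intro t ht
    obtain ⟨g, rfl⟩ := F.exists_conj ht
    have hmem : ∀ c ∈ centralizer ({g * F.z * g⁻¹} : Set G), g⁻¹ * c * g ∈ F.M := by
      intro c hc'
      have h := (mem_C.1 hc').map (MulAut.conj g⁻¹).toMonoidHom
      simp only [MulEquiv.toMonoidHom_eq_coe, MonoidHom.coe_coe, MulAut.conj_apply, inv_inv] at h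
      rw [show g⁻¹ * (g * F.z * g⁻¹) * g = F.z by group] at h
      exact mem_C.2 h
    refine ⟨⟨⟨fun a b => Subtype.ext ?_⟩⟩, fun c hc' => ?_⟩
    · show (a : G) * b = b * a
      calc (a : G) * b = g * ((g⁻¹ * a * g) * (g⁻¹ * b * g)) * g⁻¹ := by group
        _ = g * ((g⁻¹ * b * g) * (g⁻¹ * a * g)) * g⁻¹ := by
          rw [(hc _ (hmem a a.2) _ (hmem b b.2)).eq]
        _ = _ := by group
    · calc c ^ 2 = g * ((g⁻¹ * c * g) * (g⁻¹ * c * g)) * g⁻¹ := by rw [pow_two]; group
        _ = 1 := by rw [hexp _ (hmem c hc')]; group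
  have hnc : ¬ IsCyclic ↥(S : Subgroup G) := by
    intro hcyc
    obtain ⟨g, hg⟩ := hcyc.exists_ofOrder_eq_natCard
    have h2 : orderOf g ∣ 2 := orderOf_dvd_of_pow_eq_one (Subtype.ext (by
      rw [pow_two, Subgroup.coe_mul]; exact hexp g (hS g.2)))
    have h3 := Nat.le_of_dvd (by norm_num) h2
    rw [hg, hSM] at h3
    have h4 : F.m + 1 ≤ Nat.card ↥F.M := by
      rw [← F.card_invol]
      haveI := Fintype.ofFinite ↥F.M
      let f : {w : G // orderOf w = 2 ∧ w ∈ F.M} → {y : ↥F.M // y ≠ 1} := fun w =>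
        ⟨⟨w.1, w.2.2⟩, fun e => H65.ne_one_of_orderOf w.2.1 (congrArg Subtype.val e)⟩
      have hf : Function.Injective f := fun a b h => Subtype.ext
        (congrArg (fun y : {y : ↥F.M // y ≠ 1} => (y.1 : G)) h)
      have := Nat.card_le_card_of_injective f hf
      rw [Nat.card_eq_fintype_card (α := {y : ↥F.M // y ≠ 1}), Fintype.card_subtype_compl,
        Fintype.card_subtype_eq, ← Nat.card_eq_fintype_card] at this
      have := Nat.card_pos (α := ↥F.M)
      omega
    have := F.two_le_m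
    omega
  have hnn : ¬ (S : Subgroup G).Normal := fun h => by
    rw [hSM] at h
    exact F.N_ne_top (Subgroup.normalizer_eq_top_iff.2 h)
  obtain ⟨K, iK, iK', hK, ⟨e⟩⟩ := H39.ec_isPSL helem hnc hnn
  obtain ⟨n, hn⟩ := IsPGroup.iff_card.1 S.2
  have hn2 : 2 ≤ n := by
    by_contra h
    refine hnc ?_
    rcases Nat.eq_zero_or_pos n with rfl | hn0
    · haveI : Subsingleton ↥(S : Subgroup G) :=
        Finite.card_le_one_iff_subsingleton.1 (by rw [hn]; norm_num)
      exact isCyclic_of_subsingleton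
    · exact isCyclic_of_prime_card (p := 2) (by rw [hn, show n = 1 by omega, pow_one])
  rw [hn] at hK
  haveI := Fintype.ofFinite (GaloisField 2 n)
  have hcG : Fintype.card (GaloisField 2 n) = 2 ^ n := by
    rw [← Nat.card_eq_fintype_card, GaloisField.card 2 n (by omega)]
  let r : K ≃+* GaloisField 2 n := FiniteField.ringEquivOfCardEq (hK.trans hcG.symm)
  exact ⟨n, hn2, ⟨e.trans (H27.PermFamily.pslCongr r)⟩⟩

end Frame

/-- A simple group with centralisers of involutions 2-groups and independent Sylow 2-subgroups. -/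
theorem classification_of_ti [IsSimpleGroup G] (hG : ∃ a b : G, a * b ≠ b * a) (hC : CIT G)
    (hTI : ∀ S T : Sylow 2 G, S ≠ T → (S : Subgroup G) ⊓ (T : Subgroup G) = ⊥)
    (heven : Even (Nat.card G)) :
    (∃ n : ℕ, 2 ≤ n ∧
      Nonempty (G ≃* Matrix.ProjectiveSpecialLinearGroup (Fin 2) (GaloisField 2 n))) ∨
    Cfsg.IsSuzuki G := by
  haveI : Fact (Nat.Prime 2) := ⟨Nat.prime_two⟩
  obtain ⟨a, b, hab⟩ := hG
  have hbot : ∀ N : Subgroup G, N.Normal → N ≠ ⊤ → N = ⊥ := fun N hN h =>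
    (hN.eq_bot_or_eq_top).resolve_right h
  obtain ⟨S⟩ : Nonempty (Sylow 2 G) := inferInstance
  have hnn : ¬ (S : Subgroup G).Normal := by
    intro hn
    rcases hn.eq_bot_or_eq_top with h | h
    · exact S.ne_bot_of_dvd_card (even_iff_two_dvd.1 heven) h
    · haveI : Nontrivial G := IsSimpleGroup.toNontrivial
      have hp : IsPGroup 2 G := fun x =>
        (pow_two_of_mem S.2 (h.symm ▸ mem_top x)).imp fun _ hk => hk
      haveI := hp.center_nontrivial
      rcases (inferInstance : (center G).Normal).eq_bot_or_eq_top with hz | hz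
      · exact (Subgroup.nontrivial_iff_ne_bot _).1 inferInstance hz
      · exact hab (mem_center_iff.1 (hz ▸ mem_top b) a)
  obtain ⟨T, hT⟩ : ∃ T : Sylow 2 G, S ≠ T := by
    by_contra hcon
    push Not at hcon
    haveI : Subsingleton (Sylow 2 G) := ⟨fun x y => (hcon x).symm.trans (hcon y)⟩
    exact hnn S.normal_of_subsingleton
  have hodd : Cfsg.oddCore G = ⊥ := by
    haveI : (Cfsg.oddCore G).Characteristic := Cores.pPrimeCore_characteristic
    refine hbot _ inferInstance fun h => ?_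
    have ho := Cores.odd_card_oddCore (G := G)
    rw [h, Subgroup.card_top] at ho
    exact Nat.not_even_iff_odd.2 ho heven
  obtain ⟨F, -⟩ := exists_frame hC hodd hTI S T hT
  exact F.classification

end Cfsg.Agent.H65.CIT
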