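import Cfsg.Agent.H65.CIT.Pair

/-!
# No fixed-point-free action of a group with an amalgam

A group with two parabolics as in `Amalgam` has no action on a nontrivial group of exponent two in which all
nontrivial elements of odd order act without fixed points. Hence in a group with centralisers of involutions
2-groups the Sylow 2-subgroups of the 2-locals are independent modulo the core.
-/

set_option autoImplicit false
set_option linter.unusedSectionVars false
set_option linter.style.haveILetI false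
set_option linter.dupNamespace false

namespace Cfsg.Agent.H65.CIT

open Subgroup

universe u v

variable {G : Type u} [Group G] [Finite G]

namespace Amalgam

omit [Finite G] in
theorem commute_Z (A : Amalgam G) {z t : G} (hz : z ∈ A.P₁ ⊓ A.P₂) (ht : t ∈ A.T) : Commute t z := by
  by_cases htP : t ∈ A.P₁
  · exact A.ex₁.commute htP hz.1
  · exact (mem_cent.1 ((A.cent₁ t ht htP).ge hz).2).symm

theorem exists_Z_invol (A : Amalgam G) : ∃ z ∈ A.P₁ ⊓ A.P₂, orderOf z = 2 := by
  refine exists_invol (A.ex₁.mono inf_le_left).isPGroup fun h => ?_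
  have := A.cardZ
  rw [h, Subgroup.card_bot] at this
  have := A.two_le
  omega

end Amalgam

section action

variable {W : Type v} [Group W] [Finite W] (hW : ∀ w : W, w * w = 1) (ρ : G →* MulAut W)
  (hfp : ∀ g : G, Odd (orderOf g) → g ≠ 1 → ∀ w : W, ρ g w = w → w = 1)

include hW in
omit [Finite W] in
theorem comm_of_exp_two (a b : W) : a * b = b * a := by
  have h1 := hW (a * b)
  calc a * b = (a * b)⁻¹ := (inv_eq_of_mul_eq_one_right h1).symm
    _ = b * a := by
      rw [mul_inv_rev, inv_eq_of_mul_eq_one_right (hW a), inv_eq_of_mul_eq_one_right (hW b)]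

include hW hfp in
omit [Finite W] [Finite G] in
/-- An element of order three satisfies `w · ρ h w · ρ h² w = 1`. -/
theorem three_sum {h : G} (hh : orderOf h = 3) (w : W) : w * ρ h w * ρ h (ρ h w) = 1 := by
  refine hfp h (by rw [hh]; decide) (fun e => by rw [e, orderOf_one] at hh; omega) _ ?_
  have h3 : ρ h (ρ h (ρ h w)) = w := by
    rw [← MulAut.mul_apply, ← MulAut.mul_apply, ← map_mul, ← map_mul, show h * h * h = 1 by
      have := pow_orderOf_eq_one h
      rwa [hh, pow_succ, pow_two] at this, map_one, MulAut.one_apply]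
  rw [map_mul, map_mul, h3, comm_of_exp_two hW _ w, ← mul_assoc]

/-- The fixed points of an element. -/
def fixSet (z : G) : Set W := {w | ρ z w = w}

include hW hfp in
omit [Finite W] [Finite G] in
/-- An element of order three moving an involution `z` inside an elementary abelian group preserves the fixed
points of `z`. -/
theorem fixSet_le {P : Subgroup G} (hP : Ex2 P) (hC : CIT G) {g z : G} (hg : orderOf g = 3)
    (hgP : g ∈ normalizer (P : Set G)) (hz : z ∈ P) :
    fixSet ρ z ⊆ fixSet (W := W) ρ (g * z * g⁻¹) := by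
  set v := g * z * g⁻¹ with hv
  have hvP : v ∈ P := inv_mem_of_conj_mem hgP hz
  have hsum := mul_conj_conj_eq_one hC hP.isPGroup hg hgP hz (hP.commute hz hvP)
    (hP.commute hz (inv_mem_of_conj_mem hgP hvP))
  have hg3 : g * g * g = 1 := by
    have := pow_orderOf_eq_one g
    rwa [hg, pow_succ, pow_two] at this
  have hgz : orderOf (g * z) = 3 := by
    haveI : Fact (Nat.Prime 3) := ⟨Nat.prime_three⟩
    refine orderOf_eq_prime ?_ fun e => ?_
    · rw [pow_succ, pow_two,
        show g * z * (g * z) * (g * z) = v * (g * v * g⁻¹) * (g * g * g) * z by rw [hv]; group, hg3,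
        mul_one, ← (hP.commute hz (P.mul_mem hvP (inv_mem_of_conj_mem hgP hvP))).eq, ← mul_assoc]
      exact hsum
    · have he : g = z⁻¹ := eq_inv_of_mul_eq_one_left e
      have := Subgroup.orderOf_coe (H := P) ⟨z, hz⟩
      have h2 : orderOf z ∣ 2 := orderOf_dvd_of_pow_eq_one (by rw [pow_two]; exact hP z hz)
      rw [he, orderOf_inv] at hg
      rw [hg] at h2
      omega
  intro w hw
  have hw' : ρ z w = w := hw
  have h1 := three_sum hW ρ hfp hgz w
  have h2 := three_sum hW ρ hfp hg w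
  have e1 : ρ (g * z) w = ρ g w := by rw [map_mul, MulAut.mul_apply, hw']
  have e2 : ρ (g * z) (ρ g w) = ρ v (ρ g (ρ g w)) := by
    rw [← MulAut.mul_apply, ← MulAut.mul_apply, ← MulAut.mul_apply, ← map_mul, ← map_mul, ← map_mul,
      show g * z * g = v * g * g by rw [hv]; group]
  rw [e1, e2] at h1
  have hfix1 : ρ v (ρ g (ρ g w)) = ρ g (ρ g w) := mul_left_cancel (h1.trans h2.symm)
  have hfix2 : ρ v (ρ g w) = ρ g w := by
    rw [← MulAut.mul_apply, ← map_mul, show v * g = g * z by rw [hv]; group, e1]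
  have hwsum : w = ρ g w * ρ g (ρ g w) := by
    rw [mul_assoc] at h2
    exact (eq_inv_of_mul_eq_one_left h2).trans (inv_eq_of_mul_eq_one_right (hW _))
  show ρ v w = w
  rw [hwsum, map_mul, hfix2, hfix1]

include hW hfp in
omit [Finite W] [Finite G] in
theorem fixSet_eq {P : Subgroup G} (hP : Ex2 P) (hC : CIT G) {g z : G} (hg : orderOf g = 3)
    (hgP : g ∈ normalizer (P : Set G)) (hz : z ∈ P) :
    fixSet ρ (g * z * g⁻¹) = fixSet (W := W) ρ z := by
  refine Set.Subset.antisymm ?_ (fixSet_le hW ρ hfp hP hC hg hgP hz)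
  have h1 := fixSet_le (W := W) hW ρ hfp hP hC (g := g⁻¹) (z := g * z * g⁻¹) (by rw [orderOf_inv, hg])
    (inv_mem hgP) (inv_mem_of_conj_mem hgP hz)
  rwa [show g⁻¹ * (g * z * g⁻¹) * (g⁻¹)⁻¹ = z by group] at h1

omit [Finite G] [Finite W] in
theorem mem_fixSet_conj {h z : G} {w : W} :
    ρ h w ∈ fixSet ρ (h * z * h⁻¹) ↔ w ∈ fixSet ρ z := by
  show ρ (h * z * h⁻¹) (ρ h w) = ρ h w ↔ ρ z w = w
  rw [← MulAut.mul_apply, ← map_mul, inv_mul_cancel_right, map_mul, MulAut.mul_apply]
  exact (ρ h).injective.eq_iff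

include hW hfp in
/-- A group with an amalgam has no fixed-point-free action. -/
theorem Amalgam.no_action (A : Amalgam G) (hL : Loc G) (hne : ∃ w : W, w ≠ 1) : False := by
  obtain ⟨z, hzZ, hz⟩ := A.exists_Z_invol
  obtain ⟨g₁, hg₁X, hg₁, hg₁T⟩ := A.three₁
  obtain ⟨g₂, hg₂X, hg₂, hg₂T⟩ := A.three₂
  set U := fixSet (W := W) ρ z with hU
  let St : Subgroup G :=
    { carrier := {h | ∀ w : W, ρ h w ∈ U ↔ w ∈ U}
      one_mem' := fun w => by rw [map_one, MulAut.one_apply]
      mul_mem' := fun {a b} ha hb w => by rw [map_mul, MulAut.mul_apply, ha, hb]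
      inv_mem' := fun {a} ha w => by
        conv_rhs => rw [← (ρ a).apply_symm_apply w]
        rw [map_inv, MulAut.inv_def, ha] }
  have hst : ∀ h : G, fixSet (W := W) ρ (h * z * h⁻¹) = U → h ∈ St := fun h he w => by
    show ρ h w ∈ U ↔ w ∈ U
    conv_lhs => rw [← he]
    exact mem_fixSet_conj ρ
  set L := closure ((A.T : Set G) ∪ {g₁, g₂}) with hLdef
  have hTL : A.T ≤ L := fun t ht => subset_closure (Or.inl ht)
  have hg₁L : g₁ ∈ L := subset_closure (Or.inr (Or.inl rfl))
  have hg₂L : g₂ ∈ L := subset_closure (Or.inr (Or.inr rfl))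
  have hLSt : L ≤ St := by
    rw [hLdef, closure_le]
    rintro h (ht | rfl | rfl)
    · refine hst h ?_
      rw [(A.commute_Z hzZ ht).eq, mul_inv_cancel_right]
    · exact hst _ (fixSet_eq hW ρ hfp A.ex₁ hL.cit hg₁ (A.h₁.le_norm hg₁X) hzZ.1)
    · exact hst _ (fixSet_eq hW ρ hfp A.ex₂ hL.cit hg₂ (A.h₂.le_norm hg₂X) hzZ.2)
  -- `U` contains a nontrivial element
  obtain ⟨u, huU, hu⟩ : ∃ u ∈ U, u ≠ 1 := by
    obtain ⟨w, hw⟩ := hne
    by_cases h : ρ z w = w
    · exact ⟨w, h, hw⟩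
    · refine ⟨w * ρ z w, ?_, fun e => h ?_⟩
      · show ρ z (w * ρ z w) = w * ρ z w
        rw [map_mul, ← MulAut.mul_apply, ← map_mul, H65.mul_self_eq_one hz, map_one,
          MulAut.one_apply, comm_of_exp_two hW]
      · rw [eq_inv_of_mul_eq_one_right e, inv_eq_of_mul_eq_one_right (hW w)]
  let K : Subgroup G :=
    { carrier := {h | h ∈ L ∧ ∀ w ∈ U, ρ h w = w}
      one_mem' := ⟨L.one_mem, fun w _ => by rw [map_one, MulAut.one_apply]⟩
      mul_mem' := fun {a b} ha hb => ⟨L.mul_mem ha.1 hb.1, fun w hw => by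
        rw [map_mul, MulAut.mul_apply, hb.2 w hw, ha.2 w hw]⟩
      inv_mem' := fun {a} ha => ⟨L.inv_mem ha.1, fun w hw => by
        rw [map_inv, MulAut.inv_def]
        conv_lhs => rw [← ha.2 w hw]
        exact (ρ a).symm_apply_apply w⟩ }
  have hK2 : IsPGroup 2 ↥K := by
    rintro ⟨h, hh⟩
    obtain ⟨a, m, hm, hnm⟩ := Nat.exists_eq_two_pow_mul_odd (orderOf_pos h).ne'
    refine ⟨a, Subtype.ext ?_⟩
    show h ^ 2 ^ a = 1
    by_contra hne1
    exact hu (hfp _ (hm.of_dvd_nat (orderOf_dvd_of_pow_eq_one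
      (by rw [← pow_mul, ← hnm, pow_orderOf_eq_one]))) hne1 u ((K.pow_mem hh _).2 u huU))
  have hKn : L ≤ normalizer (K : Set G) := by
    intro x hx
    refine mem_normalizer_of_cj (Subgroup.eq_of_le_of_card_ge ?_ (card_cj x K).ge)
    rintro _ ⟨h, hh, rfl⟩
    refine ⟨L.mul_mem (L.mul_mem hx hh.1) (L.inv_mem hx), fun w hw => ?_⟩
    show ρ (x * h * x⁻¹) w = w
    rw [map_mul, map_mul, MulAut.mul_apply, MulAut.mul_apply,
      hh.2 _ ((hLSt (L.inv_mem hx) w).2 hw), map_inv, MulAut.inv_def, MulEquiv.apply_symm_apply]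
  set R := O2 L with hR
  have hzR : z ∈ R := le_O2 (show K ≤ L from fun h hh => hh.1) hK2 hKn
    ⟨hTL (A.h₁.le_syl A.hT₁ hzZ.1), fun w hw => hw⟩
  have key : ∀ (X P : Subgroup G) (g : G), IsPar X P → IsSyl X A.T → g ∈ X → g ∈ L →
      cj g A.T ≠ A.T → R ≤ P := by
    intro X P g hP hT hgX hgL hgT
    have hint : R ⊓ X ≤ P := by
      have h1 : R ⊓ X ≤ A.T := by
        intro r hr
        have hsup : IsPGroup 2 ↥((R ⊓ X) ⊔ A.T) := by
          refine ((isPGroup_O2 L).to_le inf_le_left).to_sup_of_normal_left' hT.2.1 fun t ht => ?_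
          refine mem_normalizer_of_cj (Subgroup.eq_of_le_of_card_ge ?_ (card_cj t _).ge)
          rintro _ ⟨y, hy, rfl⟩
          exact ⟨inv_mem_of_conj_mem (le_normalizer_O2 L (hTL ht)) hy.1,
            X.mul_mem (X.mul_mem (hT.1 ht) hy.2) (X.inv_mem (hT.1 ht))⟩
        exact hT.2.2 _ (sup_le inf_le_right hT.1) hsup le_sup_right ▸ mem_sup_left hr
      refine le_trans (le_inf h1 fun r hr => ?_)
        (hL.inf_syl hP hT ((cj_eq_of_mem (le_normalizer hgX)) ▸ hT.map g) (Ne.symm hgT))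
      refine mem_cj.2 (h1 ⟨?_, X.mul_mem (X.mul_mem (X.inv_mem hgX) hr.2) hgX⟩)
      have := inv_mem_of_conj_mem (le_normalizer_O2 L (L.inv_mem hgL)) hr.1
      rwa [inv_inv] at this
    have hPL : P ≤ normalizer (R : Set G) := ((hP.le_syl hT).trans hTL).trans (le_normalizer_O2 L)
    by_contra hle
    have hlt : P < R ⊔ P := lt_of_le_of_ne le_sup_right fun e => hle (e ▸ le_sup_left)
    haveI : Fact (Nat.Prime 2) := ⟨Nat.prime_two⟩
    obtain ⟨x, hx, hxP, hxN⟩ := H39.exists_mem_normalizer_not_mem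
      ((isPGroup_O2 L).to_sup_of_normal_left' hP.two hPL) hlt
    rw [hP.norm] at hxN
    rw [← SetLike.mem_coe, Subgroup.coe_mul_of_right_le_normalizer_left R P hPL] at hx
    obtain ⟨r, hr, p, hp, rfl⟩ := hx
    refine hxP (P.mul_mem (hint ⟨hr, ?_⟩) hp)
    have := X.mul_mem hxN (X.inv_mem (hP.le hp))
    simpa using this
  have hgz : g₁ * z * g₁⁻¹ ∈ R := inv_mem_of_conj_mem (le_normalizer_O2 L hg₁L) hzR
  have hgzZ : g₁ * z * g₁⁻¹ ∈ A.P₁ ⊓ A.P₂ :=
    ⟨key _ _ _ A.h₁ A.hT₁ hg₁X hg₁L hg₁T hgz, key _ _ _ A.h₂ A.hT₂ hg₂X hg₂L hg₂T hgz⟩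
  refine H65.ne_one_of_orderOf hz (conj_eq_one_iff.1 (hL.eq_one_of_two_syl A.hT₁
    ((cj_eq_of_mem (le_normalizer hg₁X)) ▸ A.hT₁.map g₁) (Ne.symm hg₁T) (k := 1) ?_
    (fun t ht => A.commute_Z hgzZ ht) ?_))
  · rw [pow_one, pow_two]; exact A.ex₁ _ hgzZ.1
  · rintro _ ⟨t, ht, rfl⟩
    exact (A.commute_Z hzZ ht).map (MulAut.conj g₁).toMonoidHom

end action

/-- In a group with centralisers of involutions 2-groups and trivial 2-core, the Sylow 2-subgroups of every
2-local are independent modulo the core. -/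
theorem loc_of (hC : CIT G) (hO : Cfsg.pCore 2 G = ⊥) : Loc G := by
  obtain ⟨n, hn⟩ : ∃ n, n = Nat.card G := ⟨_, rfl⟩
  induction n using Nat.strong_induction_on generalizing G with
  | _ n ih =>
    refine ⟨hC, hO, fun X hX T T' hT hT' hne => ?_⟩
    by_contra hle
    haveI : Fact (Nat.Prime 2) := ⟨Nat.prime_two⟩
    set N := Cfsg.pCore 2 ↥X with hN
    have hCQ : CIT (↥X ⧸ N) := (hC.subgroup X).quotient N Cores.pCore_isPGroup
    have hN1 : 1 < Nat.card ↥N := by
      refine Finite.one_lt_card_iff_nontrivial.2 ((Subgroup.nontrivial_iff_ne_bot _).2 fun e => hX ?_)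
      show N.map X.subtype = ⊥
      rw [e, Subgroup.map_bot]
    have hcard : Nat.card (↥X ⧸ N) < n := by
      have h1 := Subgroup.card_eq_card_quotient_mul_card_subgroup N
      have h2 : Nat.card ↥X ≤ Nat.card G := Subgroup.card_le_card_group X
      have h3 : 0 < Nat.card (↥X ⧸ N) := Nat.card_pos
      nlinarith
    have hL : Loc (↥X ⧸ N) := ih _ hcard hCQ Cores.pCore_quotient_pCore rfl
    obtain ⟨A, hA⟩ := hT.exists_sylow
    obtain ⟨B, hB⟩ := hT'.exists_sylow
    set f := QuotientGroup.mk' N with hf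
    have hcomap : ∀ C : Sylow 2 ↥X, ((C : Subgroup ↥X).map f).comap f = (C : Subgroup ↥X) := fun C => by
      rw [Subgroup.comap_map_eq, hf, QuotientGroup.ker_mk', sup_eq_left.2 (Cores.pCore_le_sylow C)]
    obtain ⟨Am⟩ := hL.exists_amalgam
      ⟨A.mapSurjective (QuotientGroup.mk'_surjective N), B.mapSurjective (QuotientGroup.mk'_surjective N),
        fun e => hne (by
          have e' : (A : Subgroup ↥X).map f = (B : Subgroup ↥X).map f := congrArg Sylow.toSubgroup e
          rw [← hA, ← hB, ← hcomap A, ← hcomap B, e']),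
        fun e => hle fun y hy => by
          obtain ⟨⟨a, haA, hay⟩, ⟨b, hbB, hby⟩⟩ :
              (∃ a ∈ (A : Subgroup ↥X), (a : G) = y) ∧ (∃ b ∈ (B : Subgroup ↥X), (b : G) = y) := by
            obtain ⟨h1, h2⟩ := Subgroup.mem_inf.1 hy
            rw [← hA] at h1
            rw [← hB] at h2
            exact ⟨h1, h2⟩
          obtain rfl : a = b := Subtype.ext (hay.trans hby.symm)
          have hmem : f a = 1 := Subgroup.mem_bot.1 (e ▸ (⟨⟨a, haA, rfl⟩, ⟨a, hbB, rfl⟩⟩ :
            f a ∈ ((A : Subgroup ↥X).map f) ⊓ ((B : Subgroup ↥X).map f)))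
          exact ⟨a, (QuotientGroup.eq_one_iff a).1 hmem, hay⟩⟩
    set P := O2 X with hP
    set W := (omegaZ P).subgroupOf X with hW
    haveI hWn : W.Normal :=
      normal_subgroupOf_of_le_normalizer (le_normalizer_omegaZ (le_normalizer_O2 X))
    let ρ : ↥X ⧸ N →* MulAut ↥W := QuotientGroup.lift N MulAut.conjNormal fun x hx => by
      refine MonoidHom.mem_ker.2 (MulEquiv.ext fun w => Subtype.ext ?_)
      rw [MulAut.conjNormal_apply, MulAut.one_apply]
      refine mul_inv_eq_iff_eq_mul.2 (Subtype.ext ?_)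
      exact ((commute_omegaZ (mem_subgroupOf.1 w.2)) ⟨x, hx, rfl⟩).symm
    refine Am.no_action (W := ↥W)
      (fun w => Subtype.ext (Subtype.ext (ex2_omegaZ P _ (mem_subgroupOf.1 w.2)))) ρ ?_ hL ?_
    · intro g hg hg1 w hw
      obtain ⟨x, rfl⟩ := QuotientGroup.mk'_surjective N g
      obtain ⟨x', hx', hxe⟩ := exists_odd_preimage (QuotientGroup.mk' N) hg
      rw [← hxe] at hw hg1
      refine Subtype.ext (Subtype.ext (hC.eq_one_of_commute_mem (g := (x' : G)) (x := ((w : ↥X) : G))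
        (isPGroup_O2 X) (mem_subgroupOf.1 w.2).1 (by rwa [Subgroup.orderOf_coe]) (fun e => hg1 (by
          rw [show x' = 1 from Subtype.ext e, map_one])) ?_))
      have h1 : x' * (w : ↥X) * x'⁻¹ = (w : ↥X) := by
        have := congrArg Subtype.val hw
        rwa [show ρ (QuotientGroup.mk' N x') = MulAut.conjNormal x' from rfl,
          MulAut.conjNormal_apply] at this
      exact congrArg Subtype.val (mul_inv_eq_iff_eq_mul.1 h1)
    · have hbot := omegaZ_ne_bot (isPGroup_O2 X) hX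
      obtain ⟨w, hw, hw1⟩ := (omegaZ P).bot_or_exists_ne_one.resolve_left hbot
      exact ⟨⟨⟨w, O2_le X hw.1⟩, hw⟩, fun e => hw1 (congrArg (fun a : ↥W => ((a : ↥X) : G)) e)⟩

end Cfsg.Agent.H65.CIT
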