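import Cfsg.Agent.H65.CIT.Frame
import Cfsg.Agent.H28.ZassKernel
import Cfsg.Agent.H26.Invol
import Mathlib.GroupTheory.FixedPointFree

/-!
# Zassenhaus groups from centraliser-closed TI subgroups

The action on the cosets of `N` has trivial three-point stabilisers and `M` is regular off the base.
-/

set_option autoImplicit false
set_option linter.unusedSectionVars false
set_option linter.style.haveILetI false

namespace Cfsg.Agent.H65.CIT.Frame

open MulAction

universe u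

variable {G : Type u} [Group G] [Finite G] (F : Frame G)

/-- The base point. -/
abbrev base : G ⧸ F.N := QuotientGroup.mk 1

/-- The elements fixing the base and `P`. -/
abbrev two (P : G ⧸ F.N) : Subgroup G := stabilizer G F.base ⊓ stabilizer G P

omit [Finite G] in
theorem smul_base {g : G} : g • F.base = F.base ↔ g ∈ F.N := by
  rw [← mem_stabilizer_iff, MulAction.stabilizer_quotient]

omit [Finite G] in
theorem mem_two {P : G ⧸ F.N} {d : G} : d ∈ F.two P ↔ d ∈ F.N ∧ d • P = P := by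
  rw [Subgroup.mem_inf, mem_stabilizer_iff, mem_stabilizer_iff, smul_base]

theorem exists_swap {P : G ⧸ F.N} :
    ∃ x : G, orderOf x = 2 ∧ x • F.base = P ∧ x • P = F.base := by
  have h : 0 < Nat.card {t : G // orderOf t = 2 ∧ t ∈ F.N} := by
    haveI : Nonempty {t : G // orderOf t = 2 ∧ t ∈ F.N} := ⟨⟨F.z, F.hz, F.M_le_N F.z_mem⟩⟩
    exact Nat.card_pos
  rw [← H39.se_card_swap F.isSE F.base P] at h
  obtain ⟨⟨x, hx, hxP⟩⟩ := (Nat.card_pos_iff.1 h).1
  exact ⟨x, hx, hxP, by rw [← hxP, ← mul_smul, H65.mul_self_eq_one hx, one_smul]⟩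

omit [Finite G] in
theorem not_mem_N {P : G ⧸ F.N} (hP : P ≠ F.base) {x : G} (hxP : x • F.base = P) : x ∉ F.N :=
  fun h => hP (hxP.symm.trans (F.smul_base.2 h))

omit [Finite G] in
theorem fix_iff {P : G ⧸ F.N} {x d : G} (hxP : x • F.base = P) :
    d • P = P ↔ x⁻¹ * d * x ∈ F.N := by
  rw [← F.smul_base, mul_smul, mul_smul, hxP, inv_smul_eq_iff, hxP]

theorem odd_two {P : G ⧸ F.N} (hP : P ≠ F.base) : Odd (Nat.card ↥(F.two P)) := by
  obtain ⟨x, -, hxP, -⟩ := F.exists_swap (P := P)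
  refine (F.isSE.2.2 x (F.not_mem_N hP hxP)).of_dvd_nat (Subgroup.card_dvd_of_le fun d hd => ?_)
  obtain ⟨h1, h2⟩ := F.mem_two.1 hd
  exact ⟨h1, x⁻¹ * d * x, (F.fix_iff hxP).1 h2, by
    show x * (x⁻¹ * d * x) * x⁻¹ = d
    group⟩

/-- Elements of `M` fix only the base. -/
theorem eq_one_of_fix {P : G ⧸ F.N} (hP : P ≠ F.base) {y : G} (hy : y ∈ F.M) (hyP : y • P = P) :
    y = 1 := by
  obtain ⟨x, hx, hxP, hPx⟩ := F.exists_swap (P := P)
  have hxN := F.not_mem_N hP hxP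
  set y' := x * y * x⁻¹ with hy'
  have hTI : ∀ k ∈ F.M, x * k * x⁻¹ ∈ F.M → k = 1 := fun k hk hk' => by
    by_contra h
    exact hxN (F.mem_N_of_conj hk h hk')
  have hxx : ∀ a : G, x * (x * a * x⁻¹) * x⁻¹ = a := fun a => by
    rw [show x * (x * a * x⁻¹) * x⁻¹ = (x * x) * a * (x * x)⁻¹ by group, H65.mul_self_eq_one hx]
    group
  have hy'N : y' ∈ F.N := by
    have h := (F.fix_iff hxP).1 hyP
    rwa [H65.inv_eq_self hx, show x * y * x = x * y * x⁻¹ by rw [H65.inv_eq_self hx]] at h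
  by_contra hy1
  -- `y` and `y'` commute
  have hyy' : Commute y y' := by
    set c := y * y' * y⁻¹ * y'⁻¹ with hc
    have hcM : c ∈ F.M := by
      rw [show c = y * (y' * y⁻¹ * y'⁻¹) by rw [hc]; group]
      exact mul_mem hy (F.conj_mem hy'N (inv_mem hy))
    have hc' : x * c * x⁻¹ ∈ F.M := by
      rw [show x * c * x⁻¹ = (x * y * x⁻¹) * (x * y' * x⁻¹) * (x * y * x⁻¹)⁻¹ * (x * y' * x⁻¹)⁻¹ by
        rw [hc]; group, hy', hxx, ← hy']
      exact mul_mem (F.conj_mem hy'N hy) (inv_mem hy)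
    exact mul_inv_eq_iff_eq_mul.1 (mul_inv_eq_one.1 (hTI c hcM hc'))
  have hy'M : y' ∈ F.M := F.centralizer_le hy hy1 hyy'.symm
  exact hy1 (hTI y hy hy'M)

theorem eq_one_of_mem_two {P : G ⧸ F.N} (hP : P ≠ F.base) {y : G} (hy : y ∈ F.M)
    (hy' : y ∈ F.two P) : y = 1 :=
  F.eq_one_of_fix hP hy (F.mem_two.1 hy').2

/-- For every involution `w` of `M` some element of the two-point stabiliser inverted by a swapping
involution maps `z` to `w`. -/
theorem exists_inverted {P : G ⧸ F.N} (hP : P ≠ F.base) {x : G} (hx : orderOf x = 2)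
    (hxP : x • F.base = P) {w : G} (hw : orderOf w = 2) (hwM : w ∈ F.M) :
    ∃ e ∈ F.two P, x * e * x⁻¹ = e⁻¹ ∧ e * F.z * e⁻¹ = w := by
  have hxN := F.not_mem_N hP hxP
  have hcard := H39.se_card_swap F.isSE F.base P
  set X := {i : G // orderOf i = 2 ∧ i • F.base = P}
  have hX : ∀ i : X, x * i.1 ∈ F.N := fun i => F.smul_base.1 (by
    rw [mul_smul, i.2.2, ← hxP, ← mul_smul, H65.mul_self_eq_one hx, one_smul])
  have hinv : ∀ i : X, x * (x * i.1) * x⁻¹ = (x * i.1)⁻¹ := fun i => by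
    rw [mul_inv_rev, H65.inv_eq_self i.2.1, ← mul_assoc x x, H65.mul_self_eq_one hx, one_mul]
  let f : X → {t : G // orderOf t = 2 ∧ t ∈ F.N} := fun i =>
    ⟨x * i.1 * F.z * (x * i.1)⁻¹, (H65.orderOf_conj' _ _).trans F.hz,
      F.M_le_N (F.conj_mem (hX i) F.z_mem)⟩
  have hinj : Function.Injective f := by
    intro i j hij
    have hij' : x * i.1 * F.z * (x * i.1)⁻¹ = x * j.1 * F.z * (x * j.1)⁻¹ :=
      congrArg Subtype.val hij
    have e1 : i.1 * j.1 = (x * i.1)⁻¹ * (x * j.1) := by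
      rw [mul_inv_rev, H65.inv_eq_self i.2.1, mul_assoc, inv_mul_cancel_left]
    have hk : i.1 * j.1 ∈ F.M := mem_C.2 (by
      show i.1 * j.1 * F.z = F.z * (i.1 * j.1)
      rw [e1]
      calc (x * i.1)⁻¹ * (x * j.1) * F.z
          = (x * i.1)⁻¹ * (x * j.1 * F.z * (x * j.1)⁻¹) * (x * j.1) := by group
        _ = (x * i.1)⁻¹ * (x * i.1 * F.z * (x * i.1)⁻¹) * (x * j.1) := by rw [hij']
        _ = _ := by group)
    by_contra hne
    have hk1 : i.1 * j.1 ≠ 1 := fun e => hne (Subtype.ext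
      ((eq_inv_of_mul_eq_one_left e).trans (H65.inv_eq_self j.2.1)))
    have hiN : i.1 ∈ F.N := F.mem_N_of_conj hk hk1 (by
      rw [show i.1 * (i.1 * j.1) * i.1⁻¹ = (i.1 * i.1) * j.1 * i.1⁻¹ by group,
        H65.mul_self_eq_one i.2.1, one_mul, H65.inv_eq_self i.2.1]
      have := inv_mem hk
      rwa [mul_inv_rev, H65.inv_eq_self i.2.1, H65.inv_eq_self j.2.1] at this)
    exact hP (i.2.2.symm.trans (F.smul_base.2 hiN))
  obtain ⟨i, hi⟩ := (hinj.bijective_of_nat_card_le hcard.ge).2 ⟨w, hw, F.M_le_N hwM⟩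
  refine ⟨x * i.1, F.mem_two.2 ⟨hX i, ?_⟩, hinv i, congrArg Subtype.val hi⟩
  rw [F.fix_iff hxP, H65.inv_eq_self hx,
    show x * (x * i.1) * x = x * (x * i.1) * x⁻¹ by rw [H65.inv_eq_self hx], hinv]
  exact F.N.inv_mem (hX i)

/-- A swapping involution inverts the two-point stabiliser. -/
theorem inverts {P : G ⧸ F.N} (hP : P ≠ F.base) {x : G} (hx : orderOf x = 2)
    (hxP : x • F.base = P) {d : G} (hd : d ∈ F.two P) : x * d * x⁻¹ = d⁻¹ := by
  obtain ⟨e, he, hinv, hez⟩ := F.exists_inverted hP hx hxP ((H65.orderOf_conj' d F.z).trans F.hz)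
    (F.conj_mem (F.mem_two.1 hd).1 F.z_mem)
  have h1 : e⁻¹ * d ∈ F.M := mem_C.2 (by
    show e⁻¹ * d * F.z = F.z * (e⁻¹ * d)
    calc e⁻¹ * d * F.z = e⁻¹ * (d * F.z * d⁻¹) * d := by group
      _ = e⁻¹ * (e * F.z * e⁻¹) * d := by rw [hez]
      _ = _ := by group)
  have h2 := F.eq_one_of_mem_two hP h1 ((F.two P).mul_mem ((F.two P).inv_mem he) hd)
  rwa [← inv_mul_eq_one.1 h2]

theorem comm_two {P : G ⧸ F.N} (hP : P ≠ F.base) {a b : G} (ha : a ∈ F.two P) (hb : b ∈ F.two P) :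
    Commute a b := by
  obtain ⟨x, hx, hxP, -⟩ := F.exists_swap (P := P)
  have h := F.inverts hP hx hxP ((F.two P).mul_mem ha hb)
  rw [show x * (a * b) * x⁻¹ = (x * a * x⁻¹) * (x * b * x⁻¹) by group, F.inverts hP hx hxP ha,
    F.inverts hP hx hxP hb, ← mul_inv_rev, inv_inj] at h
  exact h.symm

/-- The map from a two-point stabiliser to `N / M` is a bijection. -/
theorem two_toQuot_bijective {P : G ⧸ F.N} (hP : P ≠ F.base) :
    Function.Bijective fun d : ↥(F.two P) =>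
      ((⟨d, (F.mem_two.1 d.2).1⟩ : ↥F.N) : ↥F.N ⧸ F.M.subgroupOf F.N) := by
  refine ⟨fun d e h => ?_, fun q => ?_⟩
  · have h' := QuotientGroup.eq.1 h
    rw [Subgroup.mem_subgroupOf] at h'
    exact Subtype.ext (inv_mul_eq_one.1
      (F.eq_one_of_mem_two hP h' ((F.two P).mul_mem ((F.two P).inv_mem d.2) e.2)))
  · obtain ⟨⟨n, hn⟩, rfl⟩ := QuotientGroup.mk_surjective q
    obtain ⟨x, hx, hxP, -⟩ := F.exists_swap (P := P)
    obtain ⟨e, he, -, hez⟩ := F.exists_inverted hP hx hxP ((H65.orderOf_conj' n F.z).trans F.hz)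
      (F.conj_mem hn F.z_mem)
    refine ⟨⟨e, he⟩, QuotientGroup.eq.2 (Subgroup.mem_subgroupOf.2 (mem_C.2 ?_))⟩
    show e⁻¹ * n * F.z = F.z * (e⁻¹ * n)
    calc e⁻¹ * n * F.z = e⁻¹ * (n * F.z * n⁻¹) * n := by group
      _ = e⁻¹ * (e * F.z * e⁻¹) * n := by rw [hez]
      _ = _ := by group

theorem card_two {P : G ⧸ F.N} (hP : P ≠ F.base) : Nat.card ↥(F.two P) = F.m :=
  Nat.card_eq_of_bijective _ (F.two_toQuot_bijective hP)

/-- The three-point stabilisers are trivial. -/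
theorem eq_one_of_three {P Q : G ⧸ F.N} (hP : P ≠ F.base) (hQ : Q ≠ F.base) (hPQ : P ≠ Q)
    {e : G} (he : e ∈ F.two P) (heQ : e • Q = Q) : e = 1 := by
  have heN := (F.mem_two.1 he).1
  have heQ' : e ∈ F.two Q := F.mem_two.2 ⟨heN, heQ⟩
  obtain ⟨x, hx, hxP, hPx⟩ := F.exists_swap (P := P)
  obtain ⟨y, hy, hyQ, -⟩ := F.exists_swap (P := Q)
  set R := x • Q with hR
  have hRb : R ≠ F.base := fun h => hPQ (smul_left_cancel x (hPx.trans h.symm))
  have hix := F.inverts hP hx hxP he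
  have hiy := F.inverts hQ hy hyQ heQ'
  have heR : e ∈ F.two R := by
    refine F.mem_two.2 ⟨heN, ?_⟩
    have h1 : e = x * e⁻¹ * x⁻¹ := by rw [← conj_inv, hix, inv_inv]
    rw [h1, hR, mul_smul, mul_smul, inv_smul_smul, inv_smul_eq_iff.2 heQ.symm]
  obtain ⟨p, hp, hpR, hRp⟩ := F.exists_swap (P := R)
  have hip := F.inverts hRb hp hpR heR
  set n := p * x * y with hn
  have hnN : n ∈ F.N := F.smul_base.1 (by rw [hn, mul_smul, mul_smul, hyQ, ← hR, hRp])
  have hne : n * e * n⁻¹ = e⁻¹ := by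
    rw [show n * e * n⁻¹ = p * (x * (y * e * y⁻¹) * x⁻¹) * p⁻¹ by rw [hn]; group, hiy,
      ← conj_inv, hix, inv_inv, hip]
  -- `N / M` is abelian
  have hM : n * e * n⁻¹ * e⁻¹ ∈ F.M := by
    haveI : (F.M.subgroupOf F.N).Normal := Subgroup.normal_in_normalizer
    obtain ⟨a, ha⟩ := (F.two_toQuot_bijective hP).2 (QuotientGroup.mk (⟨n, hnN⟩ : ↥F.N))
    have hc : Commute (QuotientGroup.mk (⟨n, hnN⟩ : ↥F.N) : ↥F.N ⧸ F.M.subgroupOf F.N)
        (QuotientGroup.mk (⟨e, heN⟩ : ↥F.N)) := by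
      rw [← ha]
      show QuotientGroup.mk _ * QuotientGroup.mk _ = QuotientGroup.mk _ * QuotientGroup.mk _
      rw [← QuotientGroup.mk_mul, ← QuotientGroup.mk_mul]
      exact congrArg QuotientGroup.mk (Subtype.ext (F.comm_two hP a.2 he).eq)
    have h1 : (QuotientGroup.mk ((⟨n, hnN⟩ : ↥F.N) * ⟨e, heN⟩ * (⟨n, hnN⟩)⁻¹ * (⟨e, heN⟩)⁻¹) :
        ↥F.N ⧸ F.M.subgroupOf F.N) = 1 := by
      rw [QuotientGroup.mk_mul, QuotientGroup.mk_mul, QuotientGroup.mk_mul, QuotientGroup.mk_inv,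
        QuotientGroup.mk_inv, hc.eq]
      group
    exact Subgroup.mem_subgroupOf.1 ((QuotientGroup.eq_one_iff _).1 h1)
  rw [hne] at hM
  have h2 : e * e = 1 := F.eq_one_of_mem_two hP (by
    have := inv_mem hM
    rwa [mul_inv_rev, inv_inv] at this) ((F.two P).mul_mem he he)
  by_contra h1
  have hev := H26.orderOf_two_of_mul_self h2 h1
  exact Nat.not_even_iff_odd.2 (F.odd_two hP)
    (even_iff_two_dvd.2 (hev ▸ Subgroup.orderOf_dvd_natCard _ he))

theorem card_sub (K L : Subgroup G) (h : L ≤ K) :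
    Nat.card {x : G // x ∈ K ∧ x ∉ L} = Nat.card ↥K - Nat.card ↥L := by
  classical
  haveI := Fintype.ofFinite G
  rw [Nat.card_eq_fintype_card, Nat.card_eq_fintype_card, Nat.card_eq_fintype_card,
    Fintype.card_subtype, Fintype.card_subtype, Fintype.card_subtype,
    ← Finset.card_sdiff_of_subset (fun x hx => by
      rw [Finset.mem_filter] at hx ⊢
      exact ⟨hx.1, h hx.2⟩)]
  congr 1
  ext x
  simp

theorem exists_ne_base : ∃ P : G ⧸ F.N, P ≠ F.base := by
  by_contra h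
  push Not at h
  exact F.N_ne_top ((Subgroup.eq_top_iff' _).2 fun g => F.smul_base.1 (h _))

/-- `M` is regular off the base. -/
theorem regular :
    Nat.card {P : G ⧸ F.N // P ≠ F.base} = Nat.card ↥F.M ∧
    ∀ P Q : G ⧸ F.N, P ≠ F.base → Q ≠ F.base → ∃ a ∈ F.M, a • P = Q := by
  classical
  set Pt := {P : G ⧸ F.N // P ≠ F.base}
  let f : Pt → ↥F.M → Pt := fun P a => ⟨(a : G) • P.1, fun h => P.2 (by
    rw [← inv_smul_smul (a : G) P.1, h, F.smul_base]
    exact F.M_le_N (inv_mem a.2))⟩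
  have hf : ∀ P, Function.Injective (f P) := fun P a b h => by
    have h' : (a : G) • P.1 = (b : G) • P.1 := congrArg Subtype.val h
    refine Subtype.ext (inv_mul_eq_one.1 (F.eq_one_of_fix P.2 (mul_mem (inv_mem a.2) b.2) ?_))
    rw [mul_smul, ← h', inv_smul_smul]
  let D : Pt → Type u := fun P => {d : G // d ∈ F.two P.1 ∧ d ∉ (⊥ : Subgroup G)}
  have hD : ∀ P, Nat.card (D P) = F.m - 1 := fun P => by
    rw [show Nat.card (D P) = Nat.card {d : G // d ∈ F.two P.1 ∧ d ∉ (⊥ : Subgroup G)} from rfl,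
      card_sub _ _ bot_le, F.card_two P.2, Subgroup.card_bot]
  let Φ : (Σ P : Pt, D P) → {n : G // n ∈ F.N ∧ n ∉ F.M} := fun p =>
    ⟨p.2.1, (F.mem_two.1 p.2.2.1).1, fun h =>
      p.2.2.2 (Subgroup.mem_bot.2 (F.eq_one_of_mem_two p.1.2 h p.2.2.1))⟩
  have hΦ : Function.Injective Φ := by
    rintro ⟨P, d, hd, hd'⟩ ⟨Q, e, he, he'⟩ h
    obtain rfl : d = e := congrArg Subtype.val h
    have hPQ : P = Q := by
      by_contra hne
      exact hd' (Subgroup.mem_bot.2 (F.eq_one_of_three P.2 Q.2 (fun e => hne (Subtype.ext e)) hd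
        (F.mem_two.1 he).2))
    subst hPQ
    rfl
  have hcard := Nat.card_le_card_of_injective Φ hΦ
  haveI := Fintype.ofFinite Pt
  rw [Nat.card_sigma, Finset.sum_congr rfl (fun P _ => hD P), Finset.sum_const, Finset.card_univ,
    smul_eq_mul, ← Nat.card_eq_fintype_card, card_sub _ _ F.M_le_N, F.card_N,
    ← Nat.sub_one_mul, mul_comm (F.m - 1)] at hcard
  have hm := F.two_le_m
  have hle : Nat.card Pt ≤ Nat.card ↥F.M := Nat.le_of_mul_le_mul_right hcard (by omega)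
  obtain ⟨P₀, hP₀⟩ := F.exists_ne_base
  refine ⟨le_antisymm hle (Nat.card_le_card_of_injective _ (hf ⟨P₀, hP₀⟩)), fun P Q hP hQ => ?_⟩
  obtain ⟨a, ha⟩ := ((hf ⟨P, hP⟩).bijective_of_nat_card_le hle).2 ⟨Q, hQ⟩
  exact ⟨a, a.2, congrArg Subtype.val ha⟩

theorem card_points : Nat.card (G ⧸ F.N) = Nat.card ↥F.M + 1 := by
  classical
  haveI := Fintype.ofFinite (G ⧸ F.N)
  have h2 : 0 < Fintype.card (G ⧸ F.N) := Fintype.card_pos
  rw [← F.regular.1, Nat.card_eq_fintype_card, Nat.card_eq_fintype_card, Fintype.card_subtype_compl,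
    Fintype.card_subtype_eq]
  omega

theorem two_le_card_M : 2 ≤ Nat.card ↥F.M :=
  Nat.le_of_dvd Nat.card_pos (F.hz ▸ Subgroup.orderOf_dvd_natCard F.M F.z_mem)

/-- `G` is a Zassenhaus group with kernel `M`. -/
theorem zassenhaus : Cfsg.IsZassenhausGroup G (G ⧸ F.N) ∧ H28.Zass.IsKer F.base F.M := by
  classical
  have hker : H28.Zass.IsKer F.base F.M :=
    ⟨fun a ha => F.smul_base.2 (F.M_le_N ha), F.card_points.symm, fun a ha ha1 c hc => by
      by_contra h
      exact ha1 (F.eq_one_of_fix h ha hc)⟩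
  obtain ⟨P₀, hP₀⟩ := F.exists_ne_base
  have htr := F.regular.2
  have hpair : ∀ x y : G ⧸ F.N, x ≠ y → ∃ g : G, g • x = F.base ∧ g • y = P₀ := by
    intro x y hxy
    obtain ⟨g, hg⟩ := MulAction.exists_smul_eq G x F.base
    obtain ⟨a, ha, hay⟩ := htr (g • y) P₀
      (fun e => hxy (smul_left_cancel g (hg.trans e.symm))) hP₀
    exact ⟨a * g, by rw [mul_smul, hg]; exact F.smul_base.2 (F.M_le_N ha), by rw [mul_smul, hay]⟩
  refine ⟨⟨?_, ?_, ?_, ?_, ?_⟩, hker⟩
  · refine ⟨fun {g g'} h => inv_mul_eq_one.1 ?_⟩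
    have hall : ∀ R : G ⧸ F.N, (g⁻¹ * g') • R = R := fun R => by
      rw [mul_smul, inv_smul_eq_iff]; exact (h R).symm
    obtain ⟨Q, hQb, hQP⟩ : ∃ Q : G ⧸ F.N, Q ≠ F.base ∧ Q ≠ P₀ := by
      by_contra hcon
      push Not at hcon
      haveI : Subsingleton {P : G ⧸ F.N // P ≠ F.base} :=
        ⟨fun a b => Subtype.ext ((hcon a.1 a.2).trans (hcon b.1 b.2).symm)⟩
      have h1 : Nat.card {P : G ⧸ F.N // P ≠ F.base} ≤ 1 :=
        Finite.card_le_one_iff_subsingleton.2 inferInstance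
      rw [F.regular.1] at h1
      have := F.two_le_card_M
      omega
    exact F.eq_one_of_three hP₀ hQb hQP.symm (F.mem_two.2 ⟨F.smul_base.1 (hall _), hall _⟩) (hall _)
  · rw [MulAction.is_two_pretransitive_iff]
    intro x y x' y' hxy hxy'
    obtain ⟨g, hg1, hg2⟩ := hpair x y hxy
    obtain ⟨g', hg1', hg2'⟩ := hpair x' y' hxy'
    exact ⟨g'⁻¹ * g, by rw [mul_smul, hg1, ← hg1', inv_smul_smul],
      by rw [mul_smul, hg2, ← hg2', inv_smul_smul]⟩
  · intro g x y z hxy hyz hxz hgx hgy hgz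
    obtain ⟨f, hfx, hfy⟩ := hpair x y hxy
    have hfix : ∀ w : G ⧸ F.N, g • w = w → (f * g * f⁻¹) • f • w = f • w := fun w hw => by
      rw [← mul_smul, inv_mul_cancel_right, mul_smul, hw]
    have h1 : f * g * f⁻¹ ∈ F.two P₀ := F.mem_two.2
      ⟨F.smul_base.1 (by have := hfix x hgx; rwa [hfx] at this),
        by have := hfix y hgy; rwa [hfy] at this⟩
    have h2 := F.eq_one_of_three hP₀ (fun e => hxz (smul_left_cancel f (hfx.trans e.symm)))
      (fun e => hyz (smul_left_cancel f (hfy.trans e))) h1 (hfix z hgz)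
    exact conj_eq_one_iff.1 h2
  · obtain ⟨e, he, he1⟩ : ∃ e ∈ F.two P₀, e ≠ 1 := by
      by_contra hcon
      push Not at hcon
      have h := F.card_two hP₀
      rw [(Subgroup.eq_bot_iff_forall _).2 hcon, Subgroup.card_bot] at h
      have := F.two_le_m
      omega
    exact ⟨e, he1, F.base, P₀, hP₀.symm, F.smul_base.2 (F.mem_two.1 he).1, (F.mem_two.1 he).2⟩
  · intro K hK hKt
    refine ⟨F.base, fun hst => ?_⟩
    haveI := hK
    have hinv : ∀ s : G, orderOf s = 2 → s ∈ F.M → ∀ k : ↥K,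
        s * (k : G) * s⁻¹ = ((k⁻¹ : ↥K) : G) := by
      intro s hs hsM
      let φ : ↥K →* ↥K :=
        { toFun := fun k => ⟨s * k * s⁻¹, hK.conj_mem _ k.2 s⟩
          map_one' := Subtype.ext (by simp)
          map_mul' := fun a b => Subtype.ext (by simp [mul_assoc]) }
      have hfp : MonoidHom.FixedPointFree φ := by
        intro k hk
        have h1 : s * (k : G) * s⁻¹ = k := congrArg Subtype.val hk
        have h2 : s • (k • F.base) = k • F.base := by
          show s • (k : G) • F.base = (k : G) • F.base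
          rw [← mul_smul, mul_inv_eq_iff_eq_mul.1 h1, mul_smul,
            F.smul_base.2 (F.M_le_N hsM)]
        have h3 : k • F.base = F.base := by
          by_contra hne
          exact H65.ne_one_of_orderOf hs (F.eq_one_of_fix hne hsM h2)
        exact Subgroup.mem_bot.1 (hst ▸ (mem_stabilizer_iff.2 h3))
      have h4 := hfp.coe_eq_inv_of_involutive (φ := φ) fun k => Subtype.ext (by
        show s * (s * (k : G) * s⁻¹) * s⁻¹ = k
        rw [show s * (s * (k : G) * s⁻¹) * s⁻¹ = (s * s) * k * (s * s)⁻¹ by group,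
          H65.mul_self_eq_one hs]
        group)
      exact fun k => congrArg Subtype.val (congrFun h4 k)
    obtain ⟨w, hw, hwM, hwz⟩ : ∃ w, orderOf w = 2 ∧ w ∈ F.M ∧ w ≠ F.z := by
      by_contra hcon
      push Not at hcon
      haveI : Subsingleton {w : G // orderOf w = 2 ∧ w ∈ F.M} :=
        ⟨fun a b => Subtype.ext ((hcon a.1 a.2.1 a.2.2).trans (hcon b.1 b.2.1 b.2.2).symm)⟩
      have h1 : Nat.card {w : G // orderOf w = 2 ∧ w ∈ F.M} ≤ 1 :=
        Finite.card_le_one_iff_subsingleton.2 inferInstance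
      rw [F.card_invol] at h1
      have := F.two_le_m
      omega
    have hu : orderOf (F.z * w) = 2 :=
      H65.orderOf_mul_two F.hz hw (mem_C.1 hwM).symm fun e => hwz e.symm
    obtain ⟨k, hk⟩ := hKt.exists_smul_eq F.base P₀
    refine H65.ne_one_of_orderOf hu (F.eq_one_of_fix hP₀ (mul_mem F.z_mem hwM) ?_)
    have hc : F.z * w * (k : G) * (F.z * w)⁻¹ = k := by
      rw [show F.z * w * (k : G) * (F.z * w)⁻¹ = F.z * (w * k * w⁻¹) * F.z⁻¹ by group,
        hinv w hw hwM, hinv F.z F.hz F.z_mem, inv_inv]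
    rw [← hk]
    show (F.z * w) • (k : G) • F.base = (k : G) • F.base
    rw [← mul_smul, mul_inv_eq_iff_eq_mul.1 hc, mul_smul,
      F.smul_base.2 (F.M_le_N (mul_mem F.z_mem hwM))]

end Cfsg.Agent.H65.CIT.Frame
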