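import Cfsg.Agent.H65.CIT.Basic
import Cfsg.Agent.H65.CIT.Zass
import Mathlib.GroupTheory.FixedPointFree

/-!
# Groups with centralisers of involutions 2-groups and independent Sylow 2-subgroups: orders

If `O_2 = 1` and two distinct Sylow 2-subgroups meet trivially, then with `q` the largest order of an
elementary abelian subgroup of a Sylow 2-subgroup `S` and `r` the odd part of the order of the group,
`(|S| + 1)(q - 1) ≤ r`.
-/

set_option autoImplicit false
set_option linter.unusedSectionVars false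
set_option linter.style.haveILetI false
set_option linter.dupNamespace false

namespace Cfsg.Agent.H65.CIT

open Subgroup

universe u

variable {Q : Type u} [Group Q] [Finite Q]

/-- An involution inverts every element of a normal subgroup of odd order. -/
theorem CIT.inverts_of_odd (hC : CIT Q) {K : Subgroup Q} [K.Normal] (hK : Odd (Nat.card ↥K)) {a : Q}
    (ha : orderOf a = 2) {k : Q} (hk : k ∈ K) : a * k * a⁻¹ = k⁻¹ := by
  let φ : ↥K →* ↥K :=
    { toFun := fun k => ⟨a * k * a⁻¹, (inferInstance : K.Normal).conj_mem _ k.2 a⟩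
      map_one' := Subtype.ext (by simp)
      map_mul' := fun x y => Subtype.ext (by simp [mul_assoc]) }
  have hfp : MonoidHom.FixedPointFree φ := by
    intro x hx
    have h1 : a * (x : Q) * a⁻¹ = x := congrArg Subtype.val hx
    refine Subtype.ext (hC.eq_one_of_commute (H65.ne_one_of_orderOf ha) (k := 1)
      (by rw [pow_one, pow_two]; exact H65.mul_self_eq_one ha)
      (hK.of_dvd_nat (Subgroup.orderOf_dvd_natCard K x.2)) ?_)
    exact (mul_inv_eq_iff_eq_mul.1 h1).symm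
  have h4 := hfp.coe_eq_inv_of_involutive (φ := φ) fun x => Subtype.ext (by
    show a * (a * (x : Q) * a⁻¹) * a⁻¹ = x
    rw [show a * (a * (x : Q) * a⁻¹) * a⁻¹ = (a * a) * x * (a * a)⁻¹ by group,
      H65.mul_self_eq_one ha]
    group)
  exact congrArg Subtype.val (congrFun h4 ⟨k, hk⟩)

/-- The bound on elementary subgroups and the odd part of the order, when there is an odd core. -/
theorem numeric_of_oddCore (hC : CIT Q) (hK : Cfsg.oddCore Q ≠ ⊥) (S : Sylow 2 Q)
    (hS : (S : Subgroup Q) ≠ ⊥) :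
    Nat.card ↥(S : Subgroup Q) + 1 ≤ (S : Subgroup Q).index ∧
      (∀ E : Subgroup Q, E ≤ (S : Subgroup Q) → (∀ x ∈ E, x * x = 1) → Nat.card ↥E ≤ 2) ∧
      ∃ E : Subgroup Q, E ≤ (S : Subgroup Q) ∧ (∀ x ∈ E, x * x = 1) ∧ Nat.card ↥E = 2 := by
  classical
  haveI : (Cfsg.oddCore Q).Characteristic := Cores.pPrimeCore_characteristic
  set K := Cfsg.oddCore Q with hKdef
  have hKodd : Odd (Nat.card ↥K) := Cores.odd_card_oddCore
  obtain ⟨k, hk, hk1⟩ := K.bot_or_exists_ne_one.resolve_left hK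
  obtain ⟨a₀, ha₀S, ha₀⟩ := exists_invol S.2 hS
  refine ⟨?_, fun E hES hE => ?_, zpowers a₀, zpowers_le.2 ha₀S, ?_, ?_⟩
  · let act : MulAction ↥(S : Subgroup Q) {x : ↥K // x ≠ 1} :=
      { smul := fun s x => ⟨⟨(s : Q) * (x.1 : Q) * (s : Q)⁻¹,
            (inferInstance : K.Normal).conj_mem _ x.1.2 s⟩, fun h => x.2 (Subtype.ext
              (conj_eq_one_iff.1 (congrArg Subtype.val h :)))⟩
        one_smul := fun x => Subtype.ext (Subtype.ext (by
          show (1 : Q) * (x.1 : Q) * 1⁻¹ = (x.1 : Q)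
          group))
        mul_smul := fun d e x => Subtype.ext (Subtype.ext (by
          show ((d : Q) * e) * (x.1 : Q) * ((d : Q) * e)⁻¹ =
            (d : Q) * ((e : Q) * (x.1 : Q) * (e : Q)⁻¹) * (d : Q)⁻¹
          group)) }
    have hd := Frobenius.dvd_card_of_free ↥(S : Subgroup Q) (X := {x : ↥K // x ≠ 1}) fun s x hsx => by
      have h : (s : Q) * (x.1 : Q) * (s : Q)⁻¹ = (x.1 : Q) :=
        congrArg (fun y : {x : ↥K // x ≠ 1} => (y.1 : Q)) hsx
      by_contra hs
      obtain ⟨j, hj⟩ := pow_two_of_mem S.2 s.2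
      exact x.2 (Subtype.ext (hC.eq_one_of_commute (fun e => hs (Subtype.ext e)) hj
        (hKodd.of_dvd_nat (Subgroup.orderOf_dvd_natCard K x.1.2))
        (mul_inv_eq_iff_eq_mul.1 h).symm))
    haveI := Fintype.ofFinite ↥K
    rw [show Nat.card {x : ↥K // x ≠ 1} = Nat.card ↥K - 1 by
      rw [Nat.card_eq_fintype_card, Nat.card_eq_fintype_card, Fintype.card_subtype_compl,
        Fintype.card_subtype_eq]] at hd
    have h2 : 2 ≤ Nat.card ↥K := (Finite.one_lt_card_iff_nontrivial.2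
      ((Subgroup.nontrivial_iff_ne_bot K).2 hK))
    have hle := Nat.le_of_dvd (by omega) hd
    have hcop : (Nat.card ↥K).Coprime (Nat.card ↥(S : Subgroup Q)) := by
      haveI : Fact (Nat.Prime 2) := ⟨Nat.prime_two⟩
      obtain ⟨j, hj⟩ := IsPGroup.iff_card.1 S.2
      rw [hj]
      exact (Nat.coprime_two_right.2 hKodd).pow_right j
    have hdvd : Nat.card ↥K ∣ (S : Subgroup Q).index := hcop.dvd_of_dvd_mul_left (by
      rw [Subgroup.card_mul_index]; exact K.card_subgroup_dvd_card)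
    have := Nat.le_of_dvd (Nat.pos_of_ne_zero Subgroup.index_ne_zero_of_finite) hdvd
    omega
  · by_contra hlt
    haveI := Fintype.ofFinite ↥E
    rw [Nat.card_eq_fintype_card, not_le, Fintype.two_lt_card_iff] at hlt
    obtain ⟨a, b, c, hab, hac, hbc⟩ := hlt
    -- two distinct involutions of `E`
    obtain ⟨u, v, hu, hv, huv⟩ : ∃ u v : ↥E, u ≠ 1 ∧ v ≠ 1 ∧ u ≠ v := by
      by_cases ha : a = 1
      · exact ⟨b, c, ha ▸ hab.symm, ha ▸ hac.symm, hbc⟩
      · by_cases hb : b = 1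
        · exact ⟨a, c, ha, hb ▸ hbc.symm, hac⟩
        · exact ⟨a, b, ha, hb, hab⟩
    have ho : ∀ w : ↥E, w ≠ 1 → orderOf (w : Q) = 2 := fun w hw =>
      H26.orderOf_two_of_mul_self (hE w w.2) fun h => hw (Subtype.ext h)
    have h1 := hC.inverts_of_odd hKodd (ho u hu) hk
    have h2 := hC.inverts_of_odd hKodd (ho v hv) hk
    have huv1 : (u : Q) * v ≠ 1 := fun h => huv (Subtype.ext
      ((eq_inv_of_mul_eq_one_left h).trans (H65.inv_eq_self (ho v hv))))
    refine hk1 (hC.eq_one_of_commute huv1 (k := 1) ?_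
      (hKodd.of_dvd_nat (Subgroup.orderOf_dvd_natCard K hk)) ?_)
    · rw [pow_one, pow_two]; exact hE _ (mul_mem u.2 v.2)
    · have h3 : ((u : Q) * v) * k * ((u : Q) * v)⁻¹ = k := by
        rw [show ((u : Q) * v) * k * ((u : Q) * v)⁻¹ = (u : Q) * ((v : Q) * k * (v : Q)⁻¹) * (u : Q)⁻¹
          by group, h2, ← conj_inv, h1, inv_inv]
      exact (mul_inv_eq_iff_eq_mul.1 h3).symm
  · intro x hx
    obtain ⟨i, rfl⟩ := mem_zpowers_iff.1 hx
    rw [← (Commute.refl a₀).mul_zpow, H65.mul_self_eq_one ha₀, one_zpow]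
  · rw [Nat.card_zpowers, ha₀]

/-- The frame of a group with independent Sylow 2-subgroups and no odd core. -/
theorem exists_frame (hC : CIT Q) (hK : Cfsg.oddCore Q = ⊥)
    (hTI : ∀ S T : Sylow 2 Q, S ≠ T → (S : Subgroup Q) ⊓ (T : Subgroup Q) = ⊥)
    (S T : Sylow 2 Q) (hne : S ≠ T) :
    ∃ F : Frame Q, F.M = (S : Subgroup Q) := by
  haveI : Fact (Nat.Prime 2) := ⟨Nat.prime_two⟩
  have hS : (S : Subgroup Q) ≠ ⊥ := fun h => hne (by
    obtain ⟨g, rfl⟩ := MulAction.exists_smul_eq Q S T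
    apply Sylow.ext
    rw [show ((g • S : Sylow 2 Q) : Subgroup Q) = (S : Subgroup Q).map (MulAut.conj g).toMonoidHom
      from rfl, h, Subgroup.map_bot])
  haveI : Nontrivial ↥(S : Subgroup Q) := (Subgroup.nontrivial_iff_ne_bot _).2 hS
  haveI := IsPGroup.center_nontrivial S.2
  obtain ⟨c, hc, hc1⟩ := (center ↥(S : Subgroup Q)).bot_or_exists_ne_one.resolve_left
    ((Subgroup.nontrivial_iff_ne_bot _).1 inferInstance)
  obtain ⟨n, hn⟩ := exists_invol_mem S.2 c.2 fun h => hc1 (Subtype.ext h)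
  set z := (c : Q) ^ n with hz
  have hzS : z ∈ (S : Subgroup Q) := pow_mem c.2 n
  have hCz : centralizer ({z} : Set Q) = (S : Subgroup Q) := by
    refine (S.3 (hC z hn) fun s hs => mem_cent.2 ?_)
    exact Commute.pow_right (congrArg Subtype.val ((mem_center_iff.1 hc) ⟨s, hs⟩)) n
  have heq : ∀ {R : Sylow 2 Q} {x : Q}, x ∈ (S : Subgroup Q) → x ∈ (R : Subgroup Q) → x ≠ 1 →
      R = S := by
    intro R x hxS hxR hx1
    by_contra hR
    exact hx1 (Subgroup.mem_bot.1 (hTI R S hR ▸ ⟨hxR, hxS⟩))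
  refine ⟨⟨z, hn, ⟨S, hCz.ge⟩, ?_, ?_, ?_, ?_, ?_⟩, hCz⟩
  · rw [hCz]
    intro x hx hx1
    obtain ⟨k, hk⟩ := pow_two_of_mem S.2 hx
    obtain ⟨R, hR⟩ := (hC.isPGroup_centralizer hx1 hk).exists_le_sylow
    rw [heq hx (hR (mem_cent.2 (Commute.refl x))) hx1] at hR
    exact hR
  · rw [hCz]
    intro x hx hx1 g hg
    refine Sylow.smul_eq_iff_mem_normalizer.1 (heq hg ?_ fun h => hx1 (conj_eq_one_iff.1 h))
    rw [show ((g • S : Sylow 2 Q) : Subgroup Q) = (S : Subgroup Q).map (MulAut.conj g).toMonoidHom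
      from rfl]
    exact ⟨x, hx, rfl⟩
  · rw [hCz]
    intro h
    obtain ⟨g, rfl⟩ := MulAction.exists_smul_eq Q S T
    exact hne (Sylow.smul_eq_iff_mem_normalizer.2 (h ▸ mem_top g)).symm
  · rw [hCz]
    intro u hu huN
    have hp : IsPGroup 2 ↥(zpowers u) :=
      IsPGroup.of_card (n := 1) (by rw [Nat.card_zpowers, hu, pow_one])
    exact (hp.inf_normalizer_sylow S ▸ (Subgroup.mem_inf.2 ⟨mem_zpowers u, huN⟩) :
      u ∈ zpowers u ⊓ (S : Subgroup Q)).2
  · intro K hKn hKodd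
    haveI := hKn
    exact le_bot_iff.1 (hK ▸ Cores.le_oddCore hKodd)

/-- The bound on elementary subgroups and the odd part of the order. -/
theorem numeric (hC : CIT Q)
    (hTI : ∀ S T : Sylow 2 Q, S ≠ T → (S : Subgroup Q) ⊓ (T : Subgroup Q) = ⊥)
    (S T : Sylow 2 Q) (hne : S ≠ T) :
    ∃ q : ℕ, 2 ≤ q ∧ (Nat.card ↥(S : Subgroup Q) + 1) * (q - 1) ≤ (S : Subgroup Q).index ∧
      (∀ E : Subgroup Q, E ≤ (S : Subgroup Q) → (∀ x ∈ E, x * x = 1) → Nat.card ↥E ≤ q) ∧
      ∃ E : Subgroup Q, E ≤ (S : Subgroup Q) ∧ (∀ x ∈ E, x * x = 1) ∧ Nat.card ↥E = q := by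
  classical
  by_cases hK : Cfsg.oddCore Q = ⊥
  swap
  · have hS : (S : Subgroup Q) ≠ ⊥ := fun h => hne (by
      haveI : Fact (Nat.Prime 2) := ⟨Nat.prime_two⟩
      obtain ⟨g, rfl⟩ := MulAction.exists_smul_eq Q S T
      apply Sylow.ext
      rw [show ((g • S : Sylow 2 Q) : Subgroup Q) = (S : Subgroup Q).map (MulAut.conj g).toMonoidHom
        from rfl, h, Subgroup.map_bot])
    obtain ⟨h1, h2, h3⟩ := numeric_of_oddCore hC hK S hS
    exact ⟨2, le_rfl, by simpa using h1, h2, h3⟩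
  obtain ⟨F, hF⟩ := exists_frame hC hK hTI S T hne
  have hm := F.two_le_m
  have hidx : (S : Subgroup Q).index = (Nat.card ↥(S : Subgroup Q) + 1) * F.m := by
    have h1 := (S : Subgroup Q).card_mul_index
    have h2 := F.N.card_mul_index
    rw [F.card_N, Subgroup.index_eq_card, F.card_points, hF, ← h1] at h2
    refine Nat.eq_of_mul_eq_mul_left (Nat.card_pos (α := ↥(S : Subgroup Q))) ?_
    rw [← h2]
    ring
  let W : Subgroup Q :=
    { carrier := {x | x ∈ F.M ∧ x * x = 1}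
      one_mem' := ⟨one_mem _, one_mul 1⟩
      mul_mem' := fun {a b} ha hb => ⟨mul_mem ha.1 hb.1, by
        have hc : Commute a b := by
          by_cases h : b = 1
          · subst h; exact Commute.one_right a
          · exact (F.mem_M_iff_commute (H26.orderOf_two_of_mul_self hb.2 h) hb.1).1 ha.1
        rw [show a * b * (a * b) = (a * b) ^ 2 by rw [pow_two], hc.mul_pow, pow_two, pow_two,
          ha.2, hb.2, one_mul]⟩
      inv_mem' := fun {a} ha => by rw [inv_eq_of_mul_eq_one_right ha.2]; exact ha }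
  have hW : Nat.card ↥W = F.m + 1 := by
    haveI := Fintype.ofFinite Q
    rw [← F.card_invol]
    have e : {x : ↥W // x ≠ 1} ≃ {w : Q // orderOf w = 2 ∧ w ∈ F.M} :=
      { toFun := fun x => ⟨(x.1 : Q),
          H26.orderOf_two_of_mul_self x.1.2.2 fun h => x.2 (Subtype.ext h), x.1.2.1⟩
        invFun := fun w => ⟨⟨w.1, w.2.2, H65.mul_self_eq_one w.2.1⟩,
          fun h => H65.ne_one_of_orderOf w.2.1 (congrArg Subtype.val h)⟩
        left_inv := fun x => rfl
        right_inv := fun w => rfl }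
    haveI := Fintype.ofFinite ↥W
    have := Nat.card_congr e
    rw [← this, Nat.card_eq_fintype_card, Nat.card_eq_fintype_card, Fintype.card_subtype_compl,
      Fintype.card_subtype_eq]
    have : 0 < Fintype.card ↥W := Fintype.card_pos
    omega
  refine ⟨F.m + 1, by omega, by rw [hidx, Nat.add_sub_cancel], fun E hES hE => ?_,
    W, hF ▸ fun x hx => hx.1, fun x hx => hx.2, hW⟩
  rw [← hW]
  exact Subgroup.card_le_of_le fun x hx => ⟨hF.symm ▸ hES hx, hE x hx⟩

end Cfsg.Agent.H65.CIT
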