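import Cfsg.Agent.H65.CIT.Pair

/-!
An involution outside a normal subgroup whose centraliser meets the subgroup in a group with one involution.
-/

set_option autoImplicit false
set_option linter.unusedSectionVars false
set_option linter.style.haveILetI false
set_option linter.dupNamespace false

namespace Cfsg.Agent.H65.CIT

open Subgroup

universe u

variable {G : Type u} [Group G] [Finite G]

omit [Finite G] in
/-- A commuting product of an involution with a different one. -/
theorem invol_mul_comm {b c : G} (hb : b * b = 1) (hc : c * c = 1) (h : Commute b c) :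
    (b * c) * (b * c) = 1 := by
  calc (b * c) * (b * c) = b * (c * b) * c := by group
    _ = b * (b * c) * c := by rw [h.symm.eq]
    _ = (b * b) * (c * c) := by group
    _ = 1 := by rw [hb, hc, one_mul]

/-- An involution `b` outside the normal subgroup `K` cannot exist when `c` is the only involution of `K`
centralised by `b`, and also the only one centralised by `b c`. -/
theorem no_outside (hC : CIT G) (hO : Cfsg.pCore 2 G = ⊥) {K : Subgroup G} [K.Normal] {b c : G}
    (hb : b * b = 1) (hbK : b ∉ K) (hcK : c ∈ K) (hc : c * c = 1) (hc1 : c ≠ 1) (hbc : Commute b c)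
    (hu : ∀ x ∈ K, x * x = 1 → Commute x b → x = 1 ∨ x = c)
    (hu' : ∀ x ∈ K, x * x = 1 → Commute x (b * c) → x = 1 ∨ x = c) : False := by
  classical
  haveI : Fact (Nat.Prime 2) := ⟨Nat.prime_two⟩
  -- every involution of `K` commutes with `c`
  have hall : ∀ a ∈ K, a * a = 1 → Commute a c := by
    intro a ha ha2
    set r := a * b with hr
    have hbi : b⁻¹ = b := inv_eq_of_mul_eq_one_left hb
    have hai : a⁻¹ = a := inv_eq_of_mul_eq_one_left ha2
    have hbr : b * r * b⁻¹ = r⁻¹ := by
      rw [hr, mul_inv_rev, hbi, hai]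
      calc b * (a * b) * b = b * a * (b * b) := by group
        _ = b * a := by rw [hb, mul_one]
    have har : a * r * a⁻¹ = r⁻¹ := by
      rw [hr, mul_inv_rev, hbi, hai]
      calc a * (a * b) * a = (a * a) * b * a := by group
        _ = b * a := by rw [ha2, one_mul]
    -- the order of `r` is even
    have hmk : ((r : G) : G ⧸ K) = (b : G ⧸ K) := by
      rw [hr, QuotientGroup.mk_mul, (QuotientGroup.eq_one_iff a).2 ha, one_mul]
    have hqb : orderOf (b : G ⧸ K) = 2 := orderOf_eq_prime
      (by rw [pow_two, ← QuotientGroup.mk_mul, hb, QuotientGroup.mk_one])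
      (fun e => hbK ((QuotientGroup.eq_one_iff b).1 e))
    have heven : 2 ∣ orderOf r := by
      rw [← hqb, ← hmk]
      exact orderOf_map_dvd (QuotientGroup.mk' K) r
    obtain ⟨m, hm⟩ := heven
    set x := r ^ m with hx
    have hm0 : 0 < m := by have := orderOf_pos r; omega
    have hx1 : x ≠ 1 := pow_ne_one_of_lt_orderOf hm0.ne' (by omega)
    have hx2 : x * x = 1 := by
      rw [hx, ← pow_add, ← two_mul, ← hm, pow_orderOf_eq_one]
    have hxi : x⁻¹ = x := inv_eq_of_mul_eq_one_left hx2
    have hxb : Commute x b := by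
      have h1 : b * x * b⁻¹ = x := by
        rw [hx, ← conj_pow, hbr, inv_pow, ← hx, hxi]
      exact (mul_inv_eq_iff_eq_mul.1 h1).symm
    have hxa : Commute x a := by
      have h1 : a * x * a⁻¹ = x := by
        rw [hx, ← conj_pow, har, inv_pow, ← hx, hxi]
      exact (mul_inv_eq_iff_eq_mul.1 h1).symm
    rcases Nat.even_or_odd m with ⟨l, hl⟩ | ⟨l, hl⟩
    · have hxK : x ∈ K := by
        rw [← QuotientGroup.eq_one_iff, hx, QuotientGroup.mk_pow, hmk, hl, ← two_mul, pow_mul, pow_two,
          ← QuotientGroup.mk_mul, hb, QuotientGroup.mk_one, one_pow]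
      rcases hu x hxK hx2 hxb with h | h
      · exact absurd h hx1
      · exact h ▸ hxa.symm
    · have hxK : b * x ∈ K := by
        rw [← QuotientGroup.eq_one_iff, QuotientGroup.mk_mul, hx, QuotientGroup.mk_pow, hmk, hl, pow_succ,
          pow_mul, pow_two, ← QuotientGroup.mk_mul, hb, QuotientGroup.mk_one, one_pow, one_mul,
          ← QuotientGroup.mk_mul, hb, QuotientGroup.mk_one]
      rcases hu _ hxK (invol_mul_comm hb hx2 hxb.symm) ((Commute.refl b).mul_left hxb) with h | h
      · have hxb' : x = b := ((eq_inv_of_mul_eq_one_right h).trans hbi)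
        rw [hxb'] at hxa
        rcases hu a ha ha2 hxa.symm with h' | h'
        · exact h' ▸ Commute.one_left c
        · exact h' ▸ Commute.refl c
      · have hxc : x = b * c := by rw [← h, ← mul_assoc, hb, one_mul]
        rw [hxc] at hxa
        rcases hu' a ha ha2 hxa.symm with h' | h'
        · exact h' ▸ Commute.one_left c
        · exact h' ▸ Commute.refl c
  -- so they generate a normal 2-subgroup
  set D : Set G := {a | a ∈ K ∧ a * a = 1} with hD
  haveI hN : (closure D).Normal := by
    refine ⟨fun y hy g => ?_⟩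
    have h1 : (closure D).map (MulAut.conj g).toMonoidHom ≤ closure D := by
      rw [MonoidHom.map_closure]
      refine closure_mono ?_
      rintro _ ⟨a, ⟨ha, ha2⟩, rfl⟩
      refine ⟨(inferInstance : K.Normal).conj_mem a ha g, ?_⟩
      show g * a * g⁻¹ * (g * a * g⁻¹) = 1
      rw [show g * a * g⁻¹ * (g * a * g⁻¹) = g * (a * a) * g⁻¹ by group, ha2, mul_one, mul_inv_cancel]
    exact h1 ⟨y, hy, rfl⟩
  have hle : closure D ≤ centralizer ({c} : Set G) :=
    (closure_le _).2 fun a ha => mem_cent.2 (hall a ha.1 ha.2)
  have hc2 : orderOf c = 2 := orderOf_eq_prime (by rw [pow_two]; exact hc) hc1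
  have h1 := Cores.le_pCore (p := 2) (N := closure D) ((hC c hc2).to_le hle)
  rw [hO, le_bot_iff] at h1
  have h2 := subset_closure (k := D) ⟨hcK, hc⟩
  rw [h1] at h2
  exact hc1 h2

end Cfsg.Agent.H65.CIT
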