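import Cfsg.Agent.H65.CIT.Parabolic
import Cfsg.Agent.PGroups.Basic

/-!
# The pair of parabolics

Two parabolics with different cores and a common Sylow 2-subgroup `T` have elementary abelian cores of order `q ^ 2`
meeting in a subgroup of order `q`, and `|T| = q ^ 3`.
-/

set_option autoImplicit false
set_option linter.unusedSectionVars false
set_option linter.style.haveILetI false
set_option linter.dupNamespace false

namespace Cfsg.Agent.H65.CIT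

open Subgroup

universe u

variable {G : Type u} [Group G] [Finite G]

/-- Exponent two. -/
def Ex2 (E : Subgroup G) : Prop := ∀ x ∈ E, x * x = 1

omit [Finite G] in
theorem Ex2.commute {E : Subgroup G} (hE : Ex2 E) {a b : G} (ha : a ∈ E) (hb : b ∈ E) : Commute a b := by
  have h := hE _ (E.mul_mem ha hb)
  have h1 : a⁻¹ = a := inv_eq_of_mul_eq_one_right (hE a ha)
  have h2 : b⁻¹ = b := inv_eq_of_mul_eq_one_right (hE b hb)
  calc a * b = (a * b)⁻¹ := (inv_eq_of_mul_eq_one_right h).symm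
    _ = b * a := by rw [mul_inv_rev, h1, h2]

omit [Finite G] in
theorem Ex2.inv {E : Subgroup G} (hE : Ex2 E) {a : G} (ha : a ∈ E) : a⁻¹ = a :=
  inv_eq_of_mul_eq_one_right (hE a ha)

omit [Finite G] in
theorem Ex2.mono {E F : Subgroup G} (hE : Ex2 E) (h : F ≤ E) : Ex2 F := fun x hx => hE x (h hx)

omit [Finite G] in
theorem Ex2.isPGroup {E : Subgroup G} (hE : Ex2 E) : IsPGroup 2 ↥E :=
  fun x => ⟨1, Subtype.ext (by rw [pow_one, pow_two]; exact hE x x.2)⟩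

omit [Finite G] in
theorem Ex2.map {E : Subgroup G} (hE : Ex2 E) (g : G) : Ex2 (cj g E) := by
  rintro _ ⟨y, hy, rfl⟩
  rw [← map_mul, hE y hy, map_one]

omit [Finite G] in
/-- Commuting subgroups of exponent two generate one. -/
theorem Ex2.sup {E F : Subgroup G} (hE : Ex2 E) (hF : Ex2 F)
    (h : ∀ a ∈ E, ∀ b ∈ F, Commute a b) : Ex2 (E ⊔ F) := by
  intro x hx
  have hle : E ≤ normalizer (F : Set G) := fun a ha => by
    rw [mem_normalizer_iff]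
    intro y
    constructor
    · intro hy
      rwa [(h a ha y hy).eq, mul_inv_cancel_right]
    · intro hy
      have := (h a⁻¹ (E.inv_mem ha) _ hy).eq
      rw [show y = a⁻¹ * (a * y * a⁻¹) * a by group, this, mul_assoc, inv_mul_cancel, mul_one]
      exact hy
  rw [← SetLike.mem_coe, Subgroup.coe_mul_of_left_le_normalizer_right E F hle] at hx
  obtain ⟨a, ha, b, hb, rfl⟩ := hx
  show a * b * (a * b) = 1
  rw [mul_assoc, ← mul_assoc b, ← (h a ha b hb).eq, mul_assoc a b, hF b hb, mul_one, hE a ha]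

omit [Finite G] in
/-- The product formula. -/
theorem card_sup_mul (H K : Subgroup G) (h : H ≤ normalizer (K : Set G)) [Finite G] :
    Nat.card ↥(H ⊔ K) * Nat.card ↥(H ⊓ K) = Nat.card ↥H * Nat.card ↥K := by
  have hN : (K.subgroupOf (H ⊔ K)).Normal :=
    normal_subgroupOf_of_le_normalizer (sup_le h le_normalizer)
  let f := QuotientGroup.mk' (K.subgroupOf (H ⊔ K))
  have h1 := card_eq_map_mul_inf_ker f (H.subgroupOf (H ⊔ K))
  have h2 := card_eq_map_mul_inf_ker f (⊤ : Subgroup ↥(H ⊔ K))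
  have hmap : (H.subgroupOf (H ⊔ K)).map f = (⊤ : Subgroup ↥(H ⊔ K)).map f := by
    refine le_antisymm (Subgroup.map_mono le_top) ?_
    rintro _ ⟨⟨x, hx⟩, -, rfl⟩
    have hx' := hx
    rw [← SetLike.mem_coe, Subgroup.coe_mul_of_left_le_normalizer_right H K h] at hx'
    obtain ⟨a, ha, b, hb, rfl⟩ := hx'
    refine ⟨⟨a, mem_sup_left ha⟩, ha, ?_⟩
    rw [QuotientGroup.mk'_apply, QuotientGroup.mk'_apply, QuotientGroup.eq]
    show (⟨a, _⟩ : ↥(H ⊔ K))⁻¹ * ⟨a * b, hx⟩ ∈ K.subgroupOf (H ⊔ K)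
    rw [mem_subgroupOf]
    simpa using hb
  rw [hmap, QuotientGroup.ker_mk', show H.subgroupOf (H ⊔ K) ⊓ K.subgroupOf (H ⊔ K) =
      (H ⊓ K).subgroupOf (H ⊔ K) from (Subgroup.comap_inf H K _).symm,
    Nat.card_congr (subgroupOfEquivOfLe (inf_le_left.trans le_sup_left)).toEquiv,
    Nat.card_congr (subgroupOfEquivOfLe (le_sup_left : H ≤ H ⊔ K)).toEquiv] at h1
  rw [QuotientGroup.ker_mk', top_inf_eq, Subgroup.card_top,
    Nat.card_congr (subgroupOfEquivOfLe (le_sup_right : K ≤ H ⊔ K)).toEquiv] at h2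
  rw [h1, h2]
  ring

/-- An involution outside `O_2` inverts a nontrivial element of odd order. -/
theorem exists_inverted_odd_of_not_mem {X : Subgroup G} {t : G} (htX : t ∈ X) (ht : orderOf t = 2)
    (htO : t ∉ O2 X) : ∃ g ∈ X, g ≠ 1 ∧ Odd (orderOf g) ∧ t * g * t⁻¹ = g⁻¹ := by
  haveI : Fact (Nat.Prime 2) := ⟨Nat.prime_two⟩
  by_contra hcon
  set t₀ : ↥X := ⟨t, htX⟩
  have ht2 : t₀ * t₀ = 1 := Subtype.ext (H65.mul_self_eq_one ht)
  obtain ⟨N, hN, hNp, htN⟩ := Thompson.baer_suzuki (p := 2) (x := t₀) fun g => by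
    have hg2 : (g * t₀ * g⁻¹) * (g * t₀ * g⁻¹) = 1 := by
      rw [show g * t₀ * g⁻¹ * (g * t₀ * g⁻¹) = g * (t₀ * t₀) * g⁻¹ by group, ht2]
      group
    obtain ⟨a, m, hm, hnm⟩ :=
      Nat.exists_eq_two_pow_mul_odd (orderOf_pos (t₀ * (g * t₀ * g⁻¹))).ne'
    refine H26.isPGroup_closure_pair ht2 hg2 (a := a) ?_
    by_contra hd
    refine hcon ⟨_, ((t₀ * (g * t₀ * g⁻¹)) ^ 2 ^ a).2, fun h => hd (Subtype.ext h), ?_, ?_⟩
    · rw [Subgroup.orderOf_coe]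
      refine hm.of_dvd_nat (orderOf_dvd_of_pow_eq_one ?_)
      rw [← pow_mul, ← hnm, pow_orderOf_eq_one]
    · have := H26.conj_zpow_mul ht2 hg2 ((2 : ℕ) ^ a : ℕ)
      rw [zpow_neg, zpow_natCast] at this
      have h' := congrArg (Subtype.val : ↥X → G) this
      rw [H65.inv_eq_self ht]
      exact h'
  exact htO ⟨t₀, Cores.le_pCore (p := 2) (N := N) hNp htN, rfl⟩

/-- `Ω_1(Z(P))`. -/
def omegaZ (P : Subgroup G) : Subgroup G where
  carrier := {x | x ∈ P ∧ x * x = 1 ∧ ∀ y ∈ P, Commute x y}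
  one_mem' := ⟨P.one_mem, one_mul 1, fun y _ => Commute.one_left y⟩
  mul_mem' := by
    rintro a b ⟨ha, ha2, hac⟩ ⟨hb, hb2, hbc⟩
    refine ⟨P.mul_mem ha hb, ?_, fun y hy => (hac y hy).mul_left (hbc y hy)⟩
    rw [mul_assoc, ← mul_assoc b, ← (hac b hb).eq, mul_assoc a b, hb2, mul_one, ha2]
  inv_mem' := by
    rintro a ⟨ha, ha2, hac⟩
    rw [inv_eq_of_mul_eq_one_right ha2]
    exact ⟨ha, ha2, hac⟩

omit [Finite G] in
theorem omegaZ_le (P : Subgroup G) : omegaZ P ≤ P := fun _ hx => hx.1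

omit [Finite G] in
theorem ex2_omegaZ (P : Subgroup G) : Ex2 (omegaZ P) := fun _ hx => hx.2.1

omit [Finite G] in
theorem commute_omegaZ {P : Subgroup G} {x y : G} (hx : x ∈ omegaZ P) (hy : y ∈ P) : Commute x y :=
  hx.2.2 y hy

omit [Finite G] in
theorem le_normalizer_omegaZ {X P : Subgroup G} (hX : X ≤ normalizer (P : Set G)) :
    X ≤ normalizer ((omegaZ P : Subgroup G) : Set G) := by
  have key : ∀ g ∈ normalizer (P : Set G), ∀ x ∈ omegaZ P, g * x * g⁻¹ ∈ omegaZ P := by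
    intro g hg x hx
    refine ⟨inv_mem_of_conj_mem hg hx.1, ?_, fun y hy => ?_⟩
    · rw [show g * x * g⁻¹ * (g * x * g⁻¹) = g * (x * x) * g⁻¹ by group, hx.2.1]
      group
    · have hy' : g⁻¹ * y * g ∈ P := by
        have := inv_mem_of_conj_mem (inv_mem hg) hy
        rwa [inv_inv] at this
      calc g * x * g⁻¹ * y = g * (x * (g⁻¹ * y * g)) * g⁻¹ := by group
        _ = g * ((g⁻¹ * y * g) * x) * g⁻¹ := by rw [(hx.2.2 _ hy').eq]
        _ = y * (g * x * g⁻¹) := by group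
  intro g hg
  rw [mem_normalizer_iff]
  refine fun x => ⟨key g (hX hg) x, fun h => ?_⟩
  have := key g⁻¹ (inv_mem (hX hg)) _ h
  simpa [mul_assoc] using this

theorem omegaZ_ne_bot {P : Subgroup G} (hP : IsPGroup 2 ↥P) (hne : P ≠ ⊥) : omegaZ P ≠ ⊥ := by
  haveI : Fact (Nat.Prime 2) := ⟨Nat.prime_two⟩
  haveI : Nontrivial ↥P := (Subgroup.nontrivial_iff_ne_bot _).2 hne
  obtain ⟨c, -, hcc, hc⟩ := PGroups.exists_mem_center_orderOf_eq hP (⊤ : Subgroup ↥P) top_ne_bot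
  intro h
  have hc' : orderOf (c : G) = 2 := by rw [Subgroup.orderOf_coe, hc]
  refine H65.ne_one_of_orderOf hc' (Subgroup.mem_bot.1 (h ▸ ⟨c.2, H65.mul_self_eq_one hc', fun y hy =>
    (congrArg Subtype.val (mem_center_iff.1 hcc ⟨y, hy⟩)).symm⟩))

/-- The join of the elementary abelian subgroups of largest order. -/
def jof (T : Subgroup G) : Subgroup G :=
  ⨆ A : {A : Subgroup G // A ≤ T ∧ Ex2 A ∧ ∀ B : Subgroup G, B ≤ T → Ex2 B → Nat.card ↥B ≤ Nat.card ↥A},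
    A.1

omit [Finite G] in
theorem jof_le (T : Subgroup G) : jof T ≤ T := iSup_le fun A => A.2.1

theorem exists_jmax (T : Subgroup G) :
    ∃ A : Subgroup G, A ≤ T ∧ Ex2 A ∧ ∀ B : Subgroup G, B ≤ T → Ex2 B → Nat.card ↥B ≤ Nat.card ↥A := by
  classical
  haveI : Finite (Subgroup G) := inferInstance
  haveI := Fintype.ofFinite (Subgroup G)
  obtain ⟨A, hA, hmax⟩ := (Finset.univ.filter fun A : Subgroup G => A ≤ T ∧ Ex2 A).exists_max_image
    (fun A => Nat.card ↥A) ⟨⊥, Finset.mem_filter.2 ⟨Finset.mem_univ _, bot_le, fun x hx => by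
      rw [Subgroup.mem_bot.1 hx, one_mul]⟩⟩
  simp only [Finset.mem_filter, Finset.mem_univ, true_and] at hA hmax
  exact ⟨A, hA.1, hA.2, fun B h1 h2 => hmax B ⟨h1, h2⟩⟩

namespace Loc

variable (hL : Loc G)

include hL in
theorem cent_inf_le {X P R : Subgroup G} (h : IsPar X P) (hR : R ≠ ⊥) (hR2 : IsPGroup 2 ↥R)
    (hXR : X ≤ normalizer (R : Set G)) : X ⊓ centralizer (R : Set G) ≤ P := by
  refine h.core ▸ le_O2 inf_le_left ((hL.cit.isPGroup_centralizer_set hR2 hR).to_le inf_le_right) ?_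
  intro x hx
  refine mem_normalizer_of_cj (Subgroup.eq_of_le_of_card_ge ?_ (card_cj x _).ge)
  rintro _ ⟨y, hy, rfl⟩
  refine ⟨X.mul_mem (X.mul_mem hx hy.1) (X.inv_mem hx), ?_⟩
  show x * y * x⁻¹ ∈ centralizer (R : Set G)
  rw [mem_centralizer_iff]
  intro r hr
  have hr' : x⁻¹ * r * x ∈ R := by
    have := inv_mem_of_conj_mem (inv_mem (hXR hx)) hr
    rwa [inv_inv] at this
  calc r * (x * y * x⁻¹) = x * ((x⁻¹ * r * x) * y) * x⁻¹ := by group
    _ = x * (y * (x⁻¹ * r * x)) * x⁻¹ := by rw [mem_centralizer_iff.1 hy.2 _ hr']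
    _ = _ := by group

include hL in
theorem cent_le {X P : Subgroup G} (h : IsPar X P) {x : G} (hx : ∀ p ∈ P, Commute x p) : x ∈ P :=
  hL.cent_inf_le h h.ne h.two h.le_norm ⟨h.norm ▸ (mem_normalizer_iff.2 fun y => by
      constructor
      · intro hy
        rwa [(hx y hy).eq, mul_inv_cancel_right]
      · intro hy
        have h1 : Commute x⁻¹ (x * y * x⁻¹) := (hx _ hy).inv_left
        rw [show y = x⁻¹ * (x * y * x⁻¹) * x by group, h1.eq, inv_mul_cancel_right]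
        exact hy),
    mem_centralizer_iff.2 fun p hp => (hx p hp).eq.symm⟩

include hL in
theorem inf_syl {X P T T' : Subgroup G} (h : IsPar X P) (hT : IsSyl X T) (hT' : IsSyl X T')
    (hne : T ≠ T') : T ⊓ T' ≤ P :=
  h.core ▸ hL.ti X (h.core.symm ▸ h.ne) T T' hT hT' hne

include hL in
/-- A non-trivial element centralised by a Sylow subgroup is centralised by no other one. -/
theorem eq_one_of_two_syl {X T T' : Subgroup G} (hT : IsSyl X T) (hT' : IsSyl X T') (hne : T ≠ T')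
    {x : G} {k : ℕ} (hk : x ^ (2 ^ k) = 1) (h : ∀ t ∈ T, Commute t x) (h' : ∀ t ∈ T', Commute t x) :
    x = 1 := by
  by_contra hx
  exact hne (hT.eq_of_le hT' (hL.cit.isPGroup_centralizer hx hk) (fun t ht => mem_cent.2 (h t ht))
    fun t ht => mem_cent.2 (h' t ht))

include hL in
/-- An element of `T ∖ P` of order two modulo `P` centralises at most the square root of a subgroup of
`Ω_1(Z(P))` normal in `X`. -/
theorem card_cent_sq_le {X P T : Subgroup G} (h : IsPar X P) (hT : IsSyl X T) {t : G} (ht : t ∈ T)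
    (htP : t ∉ P) (ht2 : t * t ∈ P) :
    Nat.card ↥(omegaZ P ⊓ centralizer ({t} : Set G)) ^ 2 ≤ Nat.card ↥(omegaZ P) := by
  obtain ⟨n, hn, g, hg, hg1, hgo, -, hinv⟩ := hL.cit.exists_inverts h.core (hT.1 ht) htP ht2
  have he : omegaZ P ⊓ centralizer ({t} : Set G) = omegaZ P ⊓ centralizer ({n * t} : Set G) := by
    ext x
    simp only [Subgroup.mem_inf, mem_cent, and_congr_right_iff]
    intro hx
    have hc := commute_omegaZ hx hn
    constructor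
    · exact fun h => hc.mul_right h
    · intro h
      have := hc.inv_right.mul_right h
      rwa [inv_mul_cancel_left] at this
  rw [he]
  exact card_centralizer_sq_le (le_normalizer_omegaZ h.le_norm hg) hgo hinv fun x hx hc =>
    hL.cit.eq_one_of_commute_mem h.two hx.1 hgo hg1 hc

include hL in
/-- An involution outside `P` centralises at most the square root of `P`. -/
theorem card_cent_sq_le' {X P T : Subgroup G} (h : IsPar X P) (hT : IsSyl X T) {t : G} (ht : t ∈ T)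
    (htP : t ∉ P) (ht2 : orderOf t = 2) :
    Nat.card ↥(P ⊓ centralizer ({t} : Set G)) ^ 2 ≤ Nat.card ↥P := by
  obtain ⟨g, hg, hg1, hgo, hinv⟩ := exists_inverted_odd_of_not_mem (hT.1 ht) ht2 (h.core.symm ▸ htP)
  exact card_centralizer_sq_le (h.le_norm hg) hgo hinv fun x hx hc =>
    hL.cit.eq_one_of_commute_mem h.two hx hgo hg1 hc

include hL in
/-- The join of the largest elementary abelian subgroups is not in both cores. -/
theorem exists_max_not_le {X P T : Subgroup G} (h : IsPar X P) (hT : IsSyl X T)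
    (hne : normalizer ((jof T : Subgroup G) : Set G) ≠ X) :
    ∃ A : Subgroup G, A ≤ T ∧ Ex2 A ∧ (∀ B : Subgroup G, B ≤ T → Ex2 B → Nat.card ↥B ≤ Nat.card ↥A) ∧
      ¬ A ≤ P := by
  by_contra hcon
  push Not at hcon
  obtain ⟨A₀, hA₀T, hA₀, hA₀max⟩ := exists_jmax T
  have hjP : jof T ≤ P := iSup_le fun A => hcon A.1 A.2.1 A.2.2.1 A.2.2.2
  have hne1 : jof T ≠ ⊥ := by
    intro hb
    have hA0 : A₀ = ⊥ := le_bot_iff.1 (hb ▸ le_iSup (fun A : {A : Subgroup G // A ≤ T ∧ Ex2 A ∧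
      ∀ B : Subgroup G, B ≤ T → Ex2 B → Nat.card ↥B ≤ Nat.card ↥A} => A.1) ⟨A₀, hA₀T, hA₀, hA₀max⟩)
    have h1 := hA₀max (omegaZ P) ((omegaZ_le P).trans (h.le_syl hT)) (ex2_omegaZ P)
    rw [hA0, Subgroup.card_bot] at h1
    exact omegaZ_ne_bot h.two h.ne (Subgroup.card_eq_one.1 (le_antisymm h1 Nat.card_pos))
  refine hne (hL.norm_eq h hne1 (h.two.to_le hjP) fun x hx => ?_)
  refine mem_normalizer_of_cj (Subgroup.eq_of_le_of_card_ge ?_ (card_cj x _).ge)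
  rw [cj, jof, Subgroup.map_iSup]
  refine iSup_le fun A => ?_
  have hAP : cj x A.1 ≤ P := (cj_le (hcon A.1 A.2.1 A.2.2.1 A.2.2.2)).trans
    (cj_eq_of_mem (h.le_norm hx)).le
  exact le_iSup (fun A : {A : Subgroup G // A ≤ T ∧ Ex2 A ∧
      ∀ B : Subgroup G, B ≤ T → Ex2 B → Nat.card ↥B ≤ Nat.card ↥A} => A.1)
    ⟨cj x A.1, hAP.trans (h.le_syl hT), A.2.2.1.map x, fun B hB hB' => by
      rw [card_cj]; exact A.2.2.2 B hB hB'⟩

end Loc

/-- What is known about a parabolic outside whose core some largest elementary abelian subgroup of `T` lies. -/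
structure Natural (X P T : Subgroup G) (q : ℕ) : Prop where
  two_le : 2 ≤ q
  cardX : Nat.card ↥X = Nat.card ↥T * (q ^ 2 - 1)
  cardT : Nat.card ↥T = Nat.card ↥P * q
  sq : ∀ x ∈ T, x * x ∈ P
  cardV : Nat.card ↥(omegaZ P) = q ^ 2
  cardZ : Nat.card ↥(omegaZ P ⊓ centralizer (T : Set G)) = q
  cent : ∀ t ∈ T, t ∉ P →
    omegaZ P ⊓ centralizer ({t} : Set G) = omegaZ P ⊓ centralizer (T : Set G)

namespace Loc

variable (hL : Loc G)

include hL in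
theorem natural {X P T A : Subgroup G} (h : IsPar X P) (hT : IsSyl X T) (hAT : A ≤ T) (hA : Ex2 A)
    (hmax : ∀ B : Subgroup G, B ≤ T → Ex2 B → Nat.card ↥B ≤ Nat.card ↥A) (hAP : ¬ A ≤ P) :
    ∃ q, Natural X P T q := by
  obtain ⟨q, r, b, hq, hr, hX, hTb, hbr, hE, W, hPW, hWT, hW2, hWc⟩ := hL.numeric h hT
  set V := omegaZ P with hV
  have hVp : V ≤ P := omegaZ_le P
  have hcommAV : ∀ a ∈ A ⊓ P, ∀ v ∈ V, Commute a v := fun a ha v hv =>
    (commute_omegaZ hv ha.2).symm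
  have hnorm : A ⊓ P ≤ normalizer (V : Set G) := fun a ha =>
    le_normalizer_omegaZ (le_normalizer (H := P)) ha.2
  have hB := hmax ((A ⊓ P) ⊔ V) (sup_le (inf_le_left.trans hAT) (hVp.trans (h.le_syl hT)))
    ((hA.mono inf_le_left).sup (ex2_omegaZ P) hcommAV)
  have hprod := card_sup_mul (A ⊓ P) V hnorm
  rw [show A ⊓ P ⊓ V = A ⊓ V by rw [inf_assoc, inf_eq_right.2 hVp]] at hprod
  obtain ⟨a, haA, haP⟩ := SetLike.not_le_iff_exists.1 hAP
  have hAV : A ⊓ V ≤ V ⊓ centralizer ({a} : Set G) :=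
    fun x hx => ⟨hx.2, mem_cent.2 (hA.commute hx.1 haA)⟩
  have hsq := hL.card_cent_sq_le h hT (hAT haA) haP (hA a haA ▸ P.one_mem)
  have hAVpos : 0 < Nat.card ↥(A ⊓ V) := Nat.card_pos
  have hAE := hE A hAT hA
  have hpos : 0 < Nat.card ↥(A ⊓ P) := Nat.card_pos
  have hVle : Nat.card ↥V ≤ q * Nat.card ↥(A ⊓ V) := by
    refine Nat.le_of_mul_le_mul_left ?_ hpos
    calc Nat.card ↥(A ⊓ P) * Nat.card ↥V
        = Nat.card ↥((A ⊓ P) ⊔ V) * Nat.card ↥(A ⊓ V) := hprod.symm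
      _ ≤ (q * Nat.card ↥(A ⊓ P)) * Nat.card ↥(A ⊓ V) :=
          Nat.mul_le_mul_right _ (hB.trans hAE)
      _ = _ := by ring
  have hcV : Nat.card ↥(A ⊓ V) ^ 2 ≤ Nat.card ↥V :=
    (Nat.pow_le_pow_left (Subgroup.card_le_of_le hAV) 2).trans hsq
  have hAVq : Nat.card ↥(A ⊓ V) ≤ q := by
    refine Nat.le_of_mul_le_mul_right ?_ hAVpos
    rw [← pow_two]
    exact hcV.trans hVle
  have hV2 : Nat.card ↥V ≤ q ^ 2 := hVle.trans (by rw [pow_two]; exact Nat.mul_le_mul_left q hAVq)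
  have hV1 : 1 < Nat.card ↥V := Finite.one_lt_card_iff_nontrivial.2
    ((Subgroup.nontrivial_iff_ne_bot _).2 (omegaZ_ne_bot h.two h.ne))
  have hrV : r ≤ Nat.card ↥V - 1 := Nat.le_of_dvd (by omega)
    (hL.cit.dvd_sub_one (h.two.to_le hVp) (le_normalizer_omegaZ h.le_norm) hr ⟨Nat.card ↥T, by
      rw [hX, mul_comm]⟩)
  have hqb : q ≤ b := by
    refine Nat.le_of_mul_le_mul_left ?_ (Nat.card_pos (α := ↥P))
    rw [← hWc, ← hTb]
    exact Subgroup.card_le_of_le hWT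
  obtain ⟨c, rfl⟩ : ∃ c, q = c + 1 := ⟨q - 1, by omega⟩
  rw [Nat.add_sub_cancel] at hbr
  have hc2 : (c + 1) ^ 2 - 1 = (c + 2) * c := by
    rw [show (c + 1) ^ 2 = (c + 2) * c + 1 by ring, Nat.add_sub_cancel]
  have hb : b + 1 ≤ c + 2 := by
    refine Nat.le_of_mul_le_mul_right ?_ (show 0 < c by omega)
    have : Nat.card ↥V - 1 ≤ (c + 1) ^ 2 - 1 := Nat.sub_le_sub_right hV2 1
    omega
  have hbq : b = c + 1 := by omega
  subst hbq
  rw [show c + 1 + 1 = c + 2 from rfl] at hbr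
  have hrq : r = (c + 1) ^ 2 - 1 := by
    have : Nat.card ↥V - 1 ≤ (c + 1) ^ 2 - 1 := Nat.sub_le_sub_right hV2 1
    omega
  have hVeq : Nat.card ↥V = (c + 1) ^ 2 := by omega
  have hWT' : W = T := Subgroup.eq_of_le_of_card_ge hWT (by rw [hWc, hTb])
  have hsqT : ∀ x ∈ T, x * x ∈ P := fun x hx => hW2 x (hWT' ▸ hx)
  have hAVeq : Nat.card ↥(A ⊓ V) = c + 1 := by
    refine le_antisymm hAVq (Nat.le_of_mul_le_mul_left ?_ (show 0 < c + 1 by omega))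
    rw [← pow_two, ← hVeq]
    exact hVle
  -- `A` covers `T / P`
  have hAP' : T ≤ A ⊔ P := by
    refine (Subgroup.eq_of_le_of_card_ge (sup_le hAT (h.le_syl hT)) ?_).ge
    have h1 := card_sup_mul A P (hAT.trans (hT.1.trans h.le_norm))
    refine Nat.le_of_mul_le_mul_right ?_ hpos
    rw [h1, hTb]
    have h2 : (c + 1) * Nat.card ↥(A ⊓ P) ≤ Nat.card ↥A := by
      refine le_trans (le_of_eq ?_) hB
      refine Nat.eq_of_mul_eq_mul_right hAVpos ?_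
      rw [hprod, hVeq, hAVeq]
      ring
    calc Nat.card ↥P * (c + 1) * Nat.card ↥(A ⊓ P)
        = Nat.card ↥P * ((c + 1) * Nat.card ↥(A ⊓ P)) := by ring
      _ ≤ Nat.card ↥P * Nat.card ↥A := Nat.mul_le_mul_left _ h2
      _ = _ := by ring
  have hZT : A ⊓ V ≤ V ⊓ centralizer (T : Set G) := by
    intro x hx
    refine ⟨hx.2, mem_centralizer_iff.2 fun t ht => ?_⟩
    have hle : A ⊔ P ≤ centralizer ({x} : Set G) := sup_le
      (fun y hy => mem_cent.2 (hA.commute hy hx.1)) fun y hy =>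
        mem_cent.2 (commute_omegaZ hx.2 hy).symm
    exact (mem_cent.1 (hle (hAP' ht))).eq
  have key : ∀ t ∈ T, t ∉ P → V ⊓ centralizer ({t} : Set G) = A ⊓ V ∧
      V ⊓ centralizer (T : Set G) = A ⊓ V := by
    intro t ht htP
    have h1 : Nat.card ↥(V ⊓ centralizer ({t} : Set G)) ≤ c + 1 := (Nat.pow_le_pow_iff_left two_ne_zero).1
      (hVeq ▸ hL.card_cent_sq_le h hT ht htP (hsqT t ht))
    have h2 : V ⊓ centralizer (T : Set G) ≤ V ⊓ centralizer ({t} : Set G) :=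
      inf_le_inf_left _ (centralizer_le (Set.singleton_subset_iff.2 ht))
    have h3 := (Subgroup.eq_of_le_of_card_ge (hZT.trans h2) (hAVeq.symm ▸ h1)).symm
    exact ⟨h3, le_antisymm (h2.trans h3.le) hZT⟩
  obtain ⟨hk1, hk2⟩ := key a (hAT haA) haP
  exact ⟨c + 1, ⟨hq, by rw [hX, hrq], hTb, hsqT, hVeq, by rw [hk2, hAVeq],
    fun t ht htP => by rw [(key t ht htP).1, hk2]⟩⟩

include hL in
/-- An element of order three of a natural parabolic outside the normaliser of `T`. -/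
theorem exists_three {X P T : Subgroup G} {q : ℕ} (h : IsPar X P) (hT : IsSyl X T)
    (hN : Natural X P T q) : ∃ g ∈ X, orderOf g = 3 ∧ cj g T ≠ T := by
  haveI : Fact (Nat.Prime 2) := ⟨Nat.prime_two⟩
  haveI : Fact (Nat.Prime 3) := ⟨Nat.prime_three⟩
  have hq2 := hN.two_le
  obtain ⟨k, hk⟩ := IsPGroup.iff_card.1 hT.2.1
  have h3 : 3 ∣ q ^ 2 - 1 := by
    have hq3 : ¬ 3 ∣ q := fun hd => by
      have h3T : 3 ∣ 2 ^ k := hk ▸ hd.trans (hN.cardT ▸ dvd_mul_left q _)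
      exact absurd ((Nat.prime_dvd_prime_iff_eq Nat.prime_three Nat.prime_two).1
        (Nat.prime_three.dvd_of_dvd_pow h3T)) (by norm_num)
    obtain ⟨j, hj⟩ : ∃ j, q = 3 * j + 1 ∨ q = 3 * j + 2 := ⟨q / 3, by omega⟩
    rcases hj with rfl | rfl
    · exact ⟨3 * j ^ 2 + 2 * j, by rw [show (3 * j + 1) ^ 2 = 3 * (3 * j ^ 2 + 2 * j) + 1 by ring,
        Nat.add_sub_cancel]⟩
    · exact ⟨3 * j ^ 2 + 4 * j + 1, by
        rw [show (3 * j + 2) ^ 2 = 3 * (3 * j ^ 2 + 4 * j + 1) + 1 by ring, Nat.add_sub_cancel]⟩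
  obtain ⟨g₀, hg₀⟩ := exists_prime_orderOf_dvd_card' (G := ↥X) 3
    (hN.cardX ▸ dvd_mul_of_dvd_right h3 _)
  by_contra hcon
  push Not at hcon
  obtain ⟨T', hT', hne⟩ := h.exists_other hT
  obtain ⟨x, hx, rfl⟩ := hT.exists_conj hT'
  have hall : ∀ g ∈ X, orderOf g = 3 → g ∈ normalizer (T : Set G) :=
    fun g hg h3' => mem_normalizer_of_cj (hcon g hg h3')
  have hg3 : orderOf (g₀ : G) = 3 := by rw [Subgroup.orderOf_coe, hg₀]
  have h1 : (g₀ : G) ∈ normalizer (T : Set G) := hall _ g₀.2 hg3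
  have h2 : (g₀ : G) ∈ normalizer ((cj x T : Subgroup G) : Set G) := by
    rw [← cj_normalizer, mem_cj]
    refine hall _ (X.mul_mem (X.mul_mem (X.inv_mem hx) g₀.2) hx) ?_
    have := H65.orderOf_conj' x⁻¹ (g₀ : G)
    rw [inv_inv] at this
    rw [this, hg3]
  -- modulo `P` the element centralises `T`
  obtain ⟨t, ht, htP⟩ : ∃ t ∈ T, t ∉ P := by
    by_contra hh
    push Not at hh
    have hTP : T = P := le_antisymm hh (h.le_syl hT)
    exact hne (hT.2.2 _ hT'.1 hT'.2.1 (le_of_eq_of_le hTP (h.le_syl hT')))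
  set N := Subgroup.closure {g : G | g ∈ X ∧ orderOf g = 3} with hNdef
  have hNX : N ≤ X := (Subgroup.closure_le _).2 fun g hg => hg.1
  have hNT : N ≤ normalizer (T : Set G) := (Subgroup.closure_le _).2 fun g hg => hall g hg.1 hg.2
  have hXN : ∀ y ∈ X, ∀ g ∈ N, y * g * y⁻¹ ∈ N := by
    intro y hy g hg
    have hle : cj y N ≤ N := by
      rw [cj, hNdef, MonoidHom.map_closure]
      refine Subgroup.closure_mono ?_
      rintro _ ⟨z, ⟨hz, hz3⟩, rfl⟩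
      exact ⟨X.mul_mem (X.mul_mem hy hz) (X.inv_mem hy), (H65.orderOf_conj' y z).trans hz3⟩
    exact hle (conj_mem_cj hg)
  have hNP : N ⊓ T ≤ P := by
    refine le_trans (le_inf inf_le_right ?_) (hL.inf_syl h hT hT' (Ne.symm hne))
    intro y hy
    have hy' : x⁻¹ * y * x ∈ normalizer (T : Set G) := by
      have := hNT (hXN x⁻¹ (X.inv_mem hx) y hy.1)
      rwa [inv_inv] at this
    obtain ⟨j, hj⟩ := pow_two_of_mem hT.2.1 hy.2
    refine mem_cj.2 (hT.mem_of_normalizes (X.mul_mem (X.mul_mem (X.inv_mem hx) (hT.1 hy.2)) hx) hy'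
      (k := j) ?_)
    have := conj_pow (a := x⁻¹) (b := y) (i := 2 ^ j)
    rw [inv_inv] at this
    rw [this, hj]
    group
  have hgN : (g₀ : G) ∈ N := subset_closure ⟨g₀.2, hg3⟩
  have hmem : (g₀ : G) * t * (g₀ : G)⁻¹ * t⁻¹ ∈ P := hNP ⟨by
    have := N.mul_mem hgN (hXN t (hT.1 ht) _ (N.inv_mem hgN))
    simpa [mul_assoc] using this, T.mul_mem (inv_mem_of_conj_mem h1 ht) (T.inv_mem ht)⟩
  have hg1 := hL.cit.eq_one_of_commute_mod h.two (h.le_norm (hT.1 ht)) (h.le_norm g₀.2) (k := 1)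
    (by rw [pow_one, pow_two]; exact hN.sq t ht) htP (hg3.symm ▸ by decide) hmem
  rw [hg1, orderOf_one] at hg3
  omega

end Loc

/-- Two parabolics with elementary abelian cores of order `q ^ 2` meeting in the subgroup `Z` of order `q`. -/
structure Amalgam (G : Type u) [Group G] where
  T : Subgroup G
  X₁ : Subgroup G
  P₁ : Subgroup G
  X₂ : Subgroup G
  P₂ : Subgroup G
  q : ℕ
  two_le : 2 ≤ q
  h₁ : IsPar X₁ P₁
  h₂ : IsPar X₂ P₂
  hT₁ : IsSyl X₁ T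
  hT₂ : IsSyl X₂ T
  ex₁ : Ex2 P₁
  ex₂ : Ex2 P₂
  cardP₁ : Nat.card ↥P₁ = q ^ 2
  cardP₂ : Nat.card ↥P₂ = q ^ 2
  cardZ : Nat.card ↥(P₁ ⊓ P₂) = q
  cardT : Nat.card ↥T = q ^ 3
  cardX₁ : Nat.card ↥X₁ = q ^ 3 * (q ^ 2 - 1)
  cardX₂ : Nat.card ↥X₂ = q ^ 3 * (q ^ 2 - 1)
  sq₁ : ∀ x ∈ T, x * x ∈ P₁
  sq₂ : ∀ x ∈ T, x * x ∈ P₂
  cent₁ : ∀ t ∈ T, t ∉ P₁ → P₁ ⊓ centralizer ({t} : Set G) = P₁ ⊓ P₂
  cent₂ : ∀ t ∈ T, t ∉ P₂ → P₂ ⊓ centralizer ({t} : Set G) = P₁ ⊓ P₂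
  three₁ : ∃ g ∈ X₁, orderOf g = 3 ∧ cj g T ≠ T
  three₂ : ∃ g ∈ X₂, orderOf g = 3 ∧ cj g T ≠ T

omit [Finite G] in
/-- Elements of order three acting without fixed points: `x · x^g · x^{g^2} = 1`. -/
theorem mul_conj_conj_eq_one (hC : CIT G) {P : Subgroup G} (hP : IsPGroup 2 ↥P) {g x : G}
    (hg : orderOf g = 3) (hgP : g ∈ normalizer (P : Set G)) (hx : x ∈ P)
    (h1 : Commute x (g * x * g⁻¹)) (h2 : Commute x (g * (g * x * g⁻¹) * g⁻¹)) :
    x * (g * x * g⁻¹) * (g * (g * x * g⁻¹) * g⁻¹) = 1 := by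
  set b := g * x * g⁻¹ with hb
  set c := g * b * g⁻¹ with hc
  have hg3 : g * g * g = 1 := by
    have := pow_orderOf_eq_one g
    rwa [hg, pow_succ, pow_two] at this
  have hgc : g * c * g⁻¹ = x := by
    rw [hc, hb, show g * (g * (g * x * g⁻¹) * g⁻¹) * g⁻¹ = (g * g * g) * x * (g * g * g)⁻¹ by group,
      hg3, one_mul, inv_one, mul_one]
  refine hC.eq_one_of_commute_mem hP (P.mul_mem (P.mul_mem hx (inv_mem_of_conj_mem hgP hx))
    (inv_mem_of_conj_mem hgP (inv_mem_of_conj_mem hgP hx))) (by rw [hg]; decide)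
    (fun h => by rw [h, orderOf_one] at hg; omega) ?_
  have h4 : g * (x * b * c) * g⁻¹ = x * b * c := by
    rw [show g * (x * b * c) * g⁻¹ = (g * x * g⁻¹) * (g * b * g⁻¹) * (g * c * g⁻¹) by group, hgc,
      ← hb, ← hc, ← (h1.mul_right h2).eq, ← mul_assoc]
  exact mul_inv_eq_iff_eq_mul.1 h4

namespace Loc

variable (hL : Loc G)

include hL in
/-- The second core does not centralise the first module: the commutator argument with an element of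
order three. -/
theorem not_le_core {X₁ P₁ X₂ P₂ T : Subgroup G} {q : ℕ} (h₁ : IsPar X₁ P₁) (h₂ : IsPar X₂ P₂)
    (hT₁ : IsSyl X₁ T) (hT₂ : IsSyl X₂ T) (hN : Natural X₁ P₁ T q) (hP : ¬ P₂ ≤ P₁) :
    ¬ omegaZ P₂ ≤ P₁ := by
  intro hle
  set V₁ := omegaZ P₁ with hV₁
  set V₂ := omegaZ P₂ with hV₂
  set Z₁ := V₁ ⊓ centralizer (T : Set G) with hZ₁
  obtain ⟨y, hy, hyP⟩ := SetLike.not_le_iff_exists.1 hP
  have hyT : y ∈ T := h₂.le_syl hT₂ hy
  have hint : ∀ w ∈ V₁, w ∈ V₂ → w ∈ Z₁ := fun w hw hw' => by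
    rw [hZ₁, ← hN.cent y hyT hyP]
    exact ⟨hw, mem_cent.2 (commute_omegaZ hw' hy)⟩
  have hnot : ¬ V₂ ≤ V₁ := by
    intro hVV
    obtain ⟨T', hT', hne⟩ := h₂.exists_other hT₂
    have hTP : T ≤ P₂ := by
      refine le_trans (le_inf hT₂.1 fun t ht => ?_) (hL.cent_inf_le h₂ (omegaZ_ne_bot h₂.two h₂.ne)
        (ex2_omegaZ P₂).isPGroup (le_normalizer_omegaZ h₂.le_norm))
      exact mem_centralizer_iff.2 fun w hw =>
        (mem_centralizer_iff.1 (hint w (hVV hw) hw).2 t ht).symm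
    exact hne (hT₂.2.2 T' hT'.1 hT'.2.1 (hTP.trans (h₂.le_syl hT')))
  -- an element central modulo `V₁`
  obtain ⟨a, ha, haV, hac⟩ : ∃ a ∈ V₂, a ∉ V₁ ∧ ∀ t ∈ T, a * t * a⁻¹ * t⁻¹ ∈ V₁ := by
    haveI : Fact (Nat.Prime 2) := ⟨Nat.prime_two⟩
    have hTV : T ≤ normalizer (V₁ : Set G) := hT₁.1.trans (le_normalizer_omegaZ h₁.le_norm)
    haveI hn1 : (V₁.subgroupOf T).Normal := normal_subgroupOf_of_le_normalizer hTV
    have hn2 : (V₂.subgroupOf T).Normal :=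
      normal_subgroupOf_of_le_normalizer (hT₂.1.trans (le_normalizer_omegaZ h₂.le_norm))
    have hV₂T : V₂ ≤ T := (omegaZ_le P₂).trans (h₂.le_syl hT₂)
    haveI := hn2.map (QuotientGroup.mk' (V₁.subgroupOf T)) (QuotientGroup.mk'_surjective _)
    have hne : (V₂.subgroupOf T).map (QuotientGroup.mk' (V₁.subgroupOf T)) ≠ ⊥ := by
      intro hb
      refine hnot fun w hw => ?_
      have h0 : QuotientGroup.mk' (V₁.subgroupOf T) ⟨w, hV₂T hw⟩ = 1 :=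
        Subgroup.mem_bot.1 (hb ▸ mem_map_of_mem _ (mem_subgroupOf.2 hw))
      exact mem_subgroupOf.1 ((QuotientGroup.eq_one_iff _).1 h0)
    obtain ⟨c, hc, hc1⟩ := (Subgroup.bot_or_exists_ne_one _).resolve_left
      (PGroups.inf_center_ne_bot (hT₁.2.1.to_quotient (V₁.subgroupOf T)) _ hne)
    obtain ⟨⟨a, haT⟩, ha, rfl⟩ := hc.1
    refine ⟨a, mem_subgroupOf.1 ha, fun h => hc1 ((QuotientGroup.eq_one_iff _).2 h), fun t ht => ?_⟩
    have hcom := mem_center_iff.1 hc.2 (QuotientGroup.mk' (V₁.subgroupOf T) ⟨t, ht⟩)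
    have : QuotientGroup.mk' (V₁.subgroupOf T)
        (⟨a, haT⟩ * ⟨t, ht⟩ * (⟨a, haT⟩)⁻¹ * (⟨t, ht⟩)⁻¹) = 1 := by
      simp only [map_mul, map_inv]
      rw [← hcom]
      group
    exact mem_subgroupOf.1 ((QuotientGroup.eq_one_iff _).1 this)
  have haP : a ∈ P₁ := hle ha
  obtain ⟨g, hg, hg3, hgT⟩ := hL.exists_three h₁ hT₁ hN
  have hgP : g ∈ normalizer (P₁ : Set G) := h₁.le_norm hg
  have hgV : g ∈ normalizer (V₁ : Set G) := le_normalizer_omegaZ h₁.le_norm hg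
  have hg3' : g * g * g = 1 := by
    have := pow_orderOf_eq_one g
    rwa [hg3, pow_succ, pow_two] at this
  -- `Z₁` meets its conjugate trivially
  have hdisj : ∀ w ∈ Z₁, ∀ w' ∈ Z₁, w = g * w' * g⁻¹ → w = 1 := by
    intro w hw w' hw' he
    refine hL.eq_one_of_two_syl hT₁ ((cj_eq_of_mem (le_normalizer hg)) ▸ hT₁.map g) (Ne.symm hgT)
      (k := 1) ?_ (fun t ht => (mem_centralizer_iff.1 hw.2 t ht)) ?_
    · rw [pow_one, pow_two]; exact hw.1.2.1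
    · rintro _ ⟨t, ht, rfl⟩
      show g * t * g⁻¹ * w = w * (g * t * g⁻¹)
      rw [he, show g * t * g⁻¹ * (g * w' * g⁻¹) = g * (t * w') * g⁻¹ by group,
        mem_centralizer_iff.1 hw'.2 t ht]
      group
  -- the commutator map with `a`
  set f : G → G := fun d => a * d * a⁻¹ * d⁻¹ with hf
  have hfZ : ∀ d ∈ P₁, f d ∈ Z₁ := by
    intro d hd
    have hdT : d ∈ T := h₁.le_syl hT₁ hd
    refine hint _ (hac d hdT) ?_
    show a * d * a⁻¹ * d⁻¹ ∈ V₂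
    rw [show a * d * a⁻¹ * d⁻¹ = a * (d * a⁻¹ * d⁻¹) by group]
    exact V₂.mul_mem ha (inv_mem_of_conj_mem (le_normalizer_omegaZ h₂.le_norm (hT₂.1 hdT))
      (V₂.inv_mem ha))
  have hfc : ∀ d ∈ P₁, ∀ p ∈ P₁, Commute (f d) p := fun d hd p hp =>
    commute_omegaZ (hfZ d hd).1 hp
  set b := g * a * g⁻¹ with hb
  set c := g * b * g⁻¹ with hc
  have hbP : b ∈ P₁ := inv_mem_of_conj_mem hgP haP
  have hcP : c ∈ P₁ := inv_mem_of_conj_mem hgP hbP
  have hgi : ∀ d ∈ P₁, g⁻¹ * d * g ∈ P₁ := fun d hd => by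
    have := inv_mem_of_conj_mem (inv_mem hgP) hd
    rwa [inv_inv] at this
  have hβ : ∀ d, b * d * b⁻¹ * d⁻¹ = g * f (g⁻¹ * d * g) * g⁻¹ := fun d => by rw [hb, hf]; group
  have hγ : ∀ d, c * d * c⁻¹ * d⁻¹ = g * (g * f (g⁻¹ * (g⁻¹ * d * g) * g) * g⁻¹) * g⁻¹ := fun d => by
    simp [hc, hb, hf, mul_assoc]
  have hcab : Commute a b := by
    have he : f b = g * f (g⁻¹ * a * g) * g⁻¹ := by
      have h1 : f b = (b * a * b⁻¹ * a⁻¹)⁻¹ := by rw [hf]; group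
      rw [h1, hβ, inv_eq_of_mul_eq_one_right]
      rw [show g * f (g⁻¹ * a * g) * g⁻¹ * (g * f (g⁻¹ * a * g) * g⁻¹) =
        g * (f (g⁻¹ * a * g) * f (g⁻¹ * a * g)) * g⁻¹ by group, (hfZ _ (hgi a haP)).1.2.1]
      group
    exact mul_inv_eq_iff_eq_mul.1 (mul_inv_eq_one.1 (hdisj _ (hfZ b hbP) _ (hfZ _ (hgi a haP)) he))
  have hcbc : Commute b c := by
    have := hcab.map (MulAut.conj g).toMonoidHom
    exact this
  have hgc : g * c * g⁻¹ = a := by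
    rw [hc, hb, show g * (g * (g * a * g⁻¹) * g⁻¹) * g⁻¹ = (g * g * g) * a * (g * g * g)⁻¹ by group,
      hg3', one_mul, inv_one, mul_one]
  have hcac : Commute a c := by
    have := hcbc.map (MulAut.conj g).toMonoidHom
    rw [show (MulAut.conj g).toMonoidHom c = a from hgc] at this
    exact this.symm
  have habc : a * b * c = 1 := mul_conj_conj_eq_one hL.cit h₁.two hg3 hgP haP hcab hcac
  -- so the map is invariant under `g`
  have hinv : ∀ d ∈ P₁, f (g⁻¹ * d * g) = f d := by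
    intro d hd
    set α := f d with hα
    set β₀ := f (g⁻¹ * d * g) with hβ₀
    set γ₀ := f (g⁻¹ * (g⁻¹ * d * g) * g) with hγ₀
    have hαZ := hfZ d hd
    have hβZ := hfZ _ (hgi d hd)
    have hγZ := hfZ _ (hgi _ (hgi d hd))
    have hB : g * β₀ * g⁻¹ ∈ V₁ := inv_mem_of_conj_mem hgV hβZ.1
    have hC : g * γ₀ * g⁻¹ ∈ V₁ := inv_mem_of_conj_mem hgV hγZ.1
    have hC2 : g * (g * γ₀ * g⁻¹) * g⁻¹ ∈ V₁ := inv_mem_of_conj_mem hgV hC
    have hab : ∀ u ∈ V₁, ∀ p ∈ P₁, p * u * p⁻¹ = u := fun u hu p hp => by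
      rw [← (commute_omegaZ hu hp).eq, mul_inv_cancel_right]
    have hsum : (g * (g * γ₀ * g⁻¹) * g⁻¹) * (g * β₀ * g⁻¹) * α = 1 := by
      have h1 : a * b * c * d * (a * b * c)⁻¹ * d⁻¹ = 1 := by rw [habc]; group
      rw [show a * b * c * d * (a * b * c)⁻¹ * d⁻¹ =
        (a * (b * (c * d * c⁻¹ * d⁻¹) * b⁻¹) * a⁻¹) * (a * (b * d * b⁻¹ * d⁻¹) * a⁻¹) *
          (a * d * a⁻¹ * d⁻¹) by group, hγ, hβ, ← hγ₀, ← hβ₀, hab _ hC2 b hbP, hab _ hC2 a haP,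
        hab _ hB a haP] at h1
      exact h1
    have hfix := mul_conj_conj_eq_one hL.cit h₁.two hg3 hgP hγZ.1.1
      (commute_omegaZ hγZ.1 hC.1) (commute_omegaZ hγZ.1 hC2.1)
    have hC2eq : g * (g * γ₀ * g⁻¹) * g⁻¹ = γ₀ * (g * γ₀ * g⁻¹) := by
      rw [← (ex2_omegaZ P₁).inv (V₁.mul_mem hγZ.1 hC)]
      exact (inv_eq_of_mul_eq_one_right hfix).symm
    rw [hC2eq] at hsum
    have hsum' : (γ₀ * α) * (g * (γ₀ * β₀) * g⁻¹) = 1 := by
      rw [show g * (γ₀ * β₀) * g⁻¹ = (g * γ₀ * g⁻¹) * (g * β₀ * g⁻¹) by group, mul_assoc γ₀ α,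
        (commute_omegaZ hαZ.1 (P₁.mul_mem hC.1 hB.1)).eq, ← mul_assoc, ← mul_assoc γ₀]
      exact hsum
    have hw : γ₀ * α = g * (γ₀ * β₀) * g⁻¹ := by
      rw [eq_inv_of_mul_eq_one_left hsum', (ex2_omegaZ P₁).inv (inv_mem_of_conj_mem hgV
        (V₁.mul_mem hγZ.1 hβZ.1))]
    have h0 := hdisj _ (Z₁.mul_mem hγZ hαZ) _ (Z₁.mul_mem hγZ hβZ) hw
    rw [h0] at hw
    have h0' : γ₀ * β₀ = 1 := conj_eq_one_iff.1 hw.symm
    exact mul_left_cancel (h0'.trans h0.symm)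
  have hhom : ∀ d ∈ P₁, ∀ e ∈ P₁, f (d * e) = f d * f e := fun d hd e he => by
    show a * (d * e) * a⁻¹ * (d * e)⁻¹ = (a * d * a⁻¹ * d⁻¹) * (a * e * a⁻¹ * e⁻¹)
    rw [show a * (d * e) * a⁻¹ * (d * e)⁻¹ =
      (a * d * a⁻¹ * d⁻¹) * (d * (a * e * a⁻¹ * e⁻¹) * d⁻¹) by group]
    congr 1
    rw [← (hfc e he d hd).eq, mul_inv_cancel_right]
  let φ : ↥P₁ → ↥P₁ := fun d =>
    ⟨(d : G)⁻¹ * (g⁻¹ * (d : G) * g), P₁.mul_mem (P₁.inv_mem d.2) (hgi _ d.2)⟩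
  have hφ : Function.Injective φ := by
    intro d e hde
    have h1 : (d : G)⁻¹ * (g⁻¹ * (d : G) * g) = (e : G)⁻¹ * (g⁻¹ * (e : G) * g) :=
      congrArg Subtype.val hde
    have h2 : Commute g ((e : G) * (d : G)⁻¹) := by
      rw [commute_iff_eq]
      calc g * ((e : G) * (d : G)⁻¹)
          = g * ((e : G) * ((d : G)⁻¹ * (g⁻¹ * (d : G) * g)) * g⁻¹ * (d : G)⁻¹ * g) * 1 := by group
        _ = g * ((e : G) * ((e : G)⁻¹ * (g⁻¹ * (e : G) * g)) * g⁻¹ * (d : G)⁻¹ * g) * 1 := by rw [h1]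
        _ = _ := by group
    exact Subtype.ext (mul_inv_eq_one.1 (hL.cit.eq_one_of_commute_mem h₁.two
      (P₁.mul_mem e.2 (P₁.inv_mem d.2)) (hg3.symm ▸ by decide)
      (fun h => by rw [h, orderOf_one] at hg3; omega) h2)).symm
  have hcentral : ∀ e ∈ P₁, Commute a e := by
    intro e he
    obtain ⟨d, hd⟩ := (Finite.injective_iff_surjective.1 hφ) ⟨e, he⟩
    have hd' : (d : G)⁻¹ * (g⁻¹ * (d : G) * g) = e := congrArg Subtype.val hd
    have h1 : f ((d : G)⁻¹) * f (d : G) = 1 := by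
      rw [← hhom _ (P₁.inv_mem d.2) _ d.2, inv_mul_cancel, hf]
      group
    have h2 : f e = 1 := by
      rw [← hd', hhom _ (P₁.inv_mem d.2) _ (hgi _ d.2), hinv _ d.2, h1]
    exact mul_inv_eq_iff_eq_mul.1 (mul_inv_eq_one.1 h2)
  exact haV ⟨haP, ha.2.1, hcentral⟩

include hL in
/-- The structure of the pair. -/
theorem exists_amalgam (hn : ∃ S T : Sylow 2 G, S ≠ T ∧ (S : Subgroup G) ⊓ (T : Subgroup G) ≠ ⊥) :
    Nonempty (Amalgam G) := by
  obtain ⟨T, X₁, P₁, X₂, P₂, h₁, h₂, hT₁, hT₂, hne⟩ := hL.exists_pair hn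
  wlog hA : ∃ A : Subgroup G, A ≤ T ∧ Ex2 A ∧
      (∀ B : Subgroup G, B ≤ T → Ex2 B → Nat.card ↥B ≤ Nat.card ↥A) ∧ ¬ A ≤ P₁ with H
  · refine H hL hn T X₂ P₂ X₁ P₁ h₂ h₁ hT₂ hT₁ hne.symm ?_
    refine hL.exists_max_not_le h₂ hT₂ fun e => hA (hL.exists_max_not_le h₁ hT₁ fun e' => hne ?_)
    rw [← h₁.core, ← h₂.core, ← e', e]
  obtain ⟨A, hAT, hAex, hAmax, hAP⟩ := hA
  obtain ⟨q, hN⟩ := hL.natural h₁ hT₁ hAT hAex hAmax hAP
  have hq := hN.two_le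
  set V₁ := omegaZ P₁ with hV₁
  set Z₁ := V₁ ⊓ centralizer (T : Set G) with hZ₁
  obtain ⟨t₁, ht₁, ht₁P⟩ := SetLike.not_le_iff_exists.1 hAP
  have hP₂ : ¬ P₂ ≤ P₁ := by
    intro hle
    obtain ⟨q', hN'⟩ := hL.natural h₂ hT₂ hAT hAex hAmax fun h => hAP (h.trans hle)
    have hV₁P₂ : ∀ v ∈ V₁, v ∈ P₂ := fun v hv =>
      hL.cent_le h₂ fun p hp => commute_omegaZ hv (hle hp)
    obtain ⟨t, ht, htP⟩ := SetLike.not_le_iff_exists.1 fun h => hne (le_antisymm h hle)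
    have hVZ : V₁ ≤ Z₁ := fun v hv => by
      have hv2 : v ∈ omegaZ P₂ := ⟨hV₁P₂ v hv, hv.2.1, fun p hp => commute_omegaZ hv (hle hp)⟩
      have h2 : v ∈ omegaZ P₂ ⊓ centralizer (T : Set G) := by
        rw [← hN'.cent t (h₁.le_syl hT₁ ht) htP]
        exact ⟨hv2, mem_cent.2 (commute_omegaZ hv ht)⟩
      exact ⟨hv, h2.2⟩
    have := Subgroup.card_le_of_le hVZ
    rw [hN.cardV, hZ₁, hN.cardZ] at this
    nlinarith
  have hV₂ := hL.not_le_core h₁ h₂ hT₁ hT₂ hN hP₂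
  have hV₁P₂ : ¬ V₁ ≤ P₂ := fun hle => hV₂ fun w hw => by
    refine hL.cent_inf_le h₁ (omegaZ_ne_bot h₁.two h₁.ne) (ex2_omegaZ P₁).isPGroup
      (le_normalizer_omegaZ h₁.le_norm) ⟨hT₁.1 (h₂.le_syl hT₂ hw.1), mem_centralizer_iff.2 fun v hv =>
        (commute_omegaZ hw (hle hv)).eq.symm⟩
  obtain ⟨y, hy, hyP⟩ := SetLike.not_le_iff_exists.1 hV₂
  obtain ⟨x, hx, hxP⟩ := SetLike.not_le_iff_exists.1 hV₁P₂
  set D := P₁ ⊓ P₂ with hD
  have ho : ∀ {P : Subgroup G} {w : G}, w ∈ omegaZ P → w ≠ 1 → orderOf w = 2 := fun hw h1 =>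
    H26.orderOf_two_of_mul_self hw.2.1 h1
  have hD1 : Nat.card ↥D ^ 2 ≤ Nat.card ↥P₁ :=
    (Nat.pow_le_pow_left (Subgroup.card_le_of_le fun w hw =>
      ⟨hw.1, mem_cent.2 (commute_omegaZ hy hw.2).symm⟩ :
        Nat.card ↥D ≤ Nat.card ↥(P₁ ⊓ centralizer ({y} : Set G))) 2).trans
    (hL.card_cent_sq_le' h₁ hT₁ (h₂.le_syl hT₂ hy.1) hyP
      (ho hy fun e => hyP (e ▸ P₁.one_mem)))
  have hD2 : Nat.card ↥D ^ 2 ≤ Nat.card ↥P₂ :=
    (Nat.pow_le_pow_left (Subgroup.card_le_of_le fun w hw =>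
      ⟨hw.2, mem_cent.2 (commute_omegaZ hx hw.1).symm⟩ :
        Nat.card ↥D ≤ Nat.card ↥(P₂ ⊓ centralizer ({x} : Set G))) 2).trans
    (hL.card_cent_sq_le' h₂ hT₂ (h₁.le_syl hT₁ hx.1) hxP
      (ho hx fun e => hxP (e ▸ P₂.one_mem)))
  have hP₂le : Nat.card ↥P₂ ≤ q * Nat.card ↥D := by
    have h1 := card_sup_mul P₂ P₁ ((h₂.le_syl hT₂).trans (hT₁.1.trans h₁.le_norm))
    rw [inf_comm] at h1
    refine Nat.le_of_mul_le_mul_right ?_ (Nat.card_pos (α := ↥P₁))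
    rw [← h1]
    calc Nat.card ↥(P₂ ⊔ P₁) * Nat.card ↥(P₁ ⊓ P₂) ≤ Nat.card ↥T * Nat.card ↥D :=
          Nat.mul_le_mul_right _ (Subgroup.card_le_of_le (sup_le (h₂.le_syl hT₂) (h₁.le_syl hT₁)))
      _ = _ := by rw [hN.cardT]; ring
  have hDpos : 0 < Nat.card ↥D := Nat.card_pos
  have hDq : Nat.card ↥D ≤ q := by
    refine Nat.le_of_mul_le_mul_right ?_ hDpos
    rw [← pow_two]
    exact hD2.trans hP₂le
  have hP₂q : Nat.card ↥P₂ ≤ q ^ 2 :=
    hP₂le.trans (by rw [pow_two]; exact Nat.mul_le_mul_left q hDq)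
  have hZD : Z₁ ≤ D := fun w hw => ⟨hw.1.1, hL.cent_le h₂ fun p hp =>
    (mem_centralizer_iff.1 hw.2 p (h₂.le_syl hT₂ hp)).symm⟩
  have hZDeq : Z₁ = D := Subgroup.eq_of_le_of_card_ge hZD (by rw [hZ₁, hN.cardZ]; exact hDq)
  have hDc : Nat.card ↥D = q := by rw [← hZDeq, hZ₁, hN.cardZ]
  obtain ⟨q', r, b, hq', hr, hX₂, hTb, hbr, hE, W, hPW, hWT, hW2, hWc⟩ := hL.numeric h₂ hT₂
  have hqq' : q ≤ q' := by
    have h1 := hE V₁ ((omegaZ_le P₁).trans (h₁.le_syl hT₁)) (ex2_omegaZ P₁)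
    rw [hN.cardV] at h1
    have h2 : Nat.card ↥(V₁ ⊓ P₂) ≤ q :=
      (Subgroup.card_le_of_le (show V₁ ⊓ P₂ ≤ D from fun w hw => ⟨hw.1.1, hw.2⟩)).trans hDq
    refine Nat.le_of_mul_le_mul_right ?_ (show 0 < q by omega)
    rw [← pow_two]
    exact h1.trans (Nat.mul_le_mul_left _ h2)
  set V₂ := omegaZ P₂ with hV₂def
  have hV2c : 1 < Nat.card ↥V₂ := Finite.one_lt_card_iff_nontrivial.2
    ((Subgroup.nontrivial_iff_ne_bot _).2 (omegaZ_ne_bot h₂.two h₂.ne))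
  have hrV : r ≤ Nat.card ↥V₂ - 1 := Nat.le_of_dvd (by omega)
    (hL.cit.dvd_sub_one (h₂.two.to_le (omegaZ_le P₂)) (le_normalizer_omegaZ h₂.le_norm) hr
      ⟨Nat.card ↥T, by rw [hX₂, mul_comm]⟩)
  have hqb : q' ≤ b := by
    refine Nat.le_of_mul_le_mul_left ?_ (Nat.card_pos (α := ↥P₂))
    rw [← hWc, ← hTb]
    exact Subgroup.card_le_of_le hWT
  have hV2le : Nat.card ↥V₂ ≤ Nat.card ↥P₂ := Subgroup.card_le_of_le (omegaZ_le P₂)
  obtain ⟨c, rfl⟩ : ∃ c, q' = c + 1 := ⟨q' - 1, by omega⟩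
  rw [Nat.add_sub_cancel] at hbr
  have hsq' : q ^ 2 ≤ (c + 1) ^ 2 := Nat.pow_le_pow_left hqq' 2
  have hc2 : (c + 1) ^ 2 = (c + 2) * c + 1 := by ring
  have hbc : b + 1 ≤ c + 2 := Nat.le_of_mul_le_mul_right (by omega) (show 0 < c by omega)
  have hb : b = c + 1 := by omega
  subst hb
  rw [show c + 1 + 1 = c + 2 from rfl] at hbr
  have hqeq : c + 1 = q := le_antisymm ((Nat.pow_le_pow_iff_left two_ne_zero).1 (by omega)) hqq'
  subst hqeq
  have hP₂c : Nat.card ↥P₂ = (c + 1) ^ 2 := by omega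
  have hV₂c : Nat.card ↥V₂ = Nat.card ↥P₂ := by omega
  have hP₁c : Nat.card ↥P₁ = (c + 1) ^ 2 := by
    have h1 := hN.cardT
    rw [hTb, hP₂c] at h1
    exact (Nat.eq_of_mul_eq_mul_right (show 0 < c + 1 by omega) h1).symm
  have hTc : Nat.card ↥T = (c + 1) ^ 3 := by rw [hTb, hP₂c]; ring
  have hV₁P : V₁ = P₁ := Subgroup.eq_of_le_of_card_ge (omegaZ_le P₁) (by rw [hP₁c, hN.cardV])
  have hV₂P : V₂ = P₂ := Subgroup.eq_of_le_of_card_ge (omegaZ_le P₂) hV₂c.ge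
  have hWT' : W = T := Subgroup.eq_of_le_of_card_ge hWT (by rw [hWc, hTb])
  have hsq₂ : ∀ w ∈ T, w * w ∈ P₂ := fun w hw => hW2 w (hWT' ▸ hw)
  have hN₂ : Natural X₂ P₂ T (c + 1) := by
    have key : ∀ t ∈ T, t ∉ P₂ → V₂ ⊓ centralizer ({t} : Set G) = D ∧
        V₂ ⊓ centralizer (T : Set G) = D := by
      intro t ht htP
      have h1 : Nat.card ↥(V₂ ⊓ centralizer ({t} : Set G)) ≤ c + 1 :=
        (Nat.pow_le_pow_iff_left two_ne_zero).1
          ((hL.card_cent_sq_le h₂ hT₂ ht htP (hsq₂ t ht)).trans_eq (hV₂c.trans hP₂c))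
      have h2 : D ≤ V₂ ⊓ centralizer (T : Set G) :=
        fun w hw => ⟨hV₂P.symm ▸ hw.2, (hZDeq.symm ▸ hw : w ∈ Z₁).2⟩
      have h3 : V₂ ⊓ centralizer (T : Set G) ≤ V₂ ⊓ centralizer ({t} : Set G) :=
        inf_le_inf_left _ (centralizer_le (Set.singleton_subset_iff.2 ht))
      have h4 := Subgroup.eq_of_le_of_card_ge (h2.trans h3) (hDc.symm ▸ h1)
      exact ⟨h4.symm, le_antisymm (h3.trans h4.ge) h2⟩
    obtain ⟨k1, k2⟩ := key x ((omegaZ_le P₁).trans (h₁.le_syl hT₁) hx) hxP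
    exact ⟨hq, by rw [hX₂]; congr 1; omega, hTb, hsq₂, hV₂c.trans hP₂c, by rw [k2, hDc],
      fun t ht htP => by rw [(key t ht htP).1, k2]⟩
  refine ⟨⟨T, X₁, P₁, X₂, P₂, c + 1, hq, h₁, h₂, hT₁, hT₂, hV₁P ▸ ex2_omegaZ P₁, hV₂P ▸ ex2_omegaZ P₂,
    hP₁c, hP₂c, hDc, hTc, by rw [hN.cardX, hTc], by rw [hN₂.cardX, hTc], hN.sq, hsq₂, ?_, ?_,
    hL.exists_three h₁ hT₁ hN, hL.exists_three h₂ hT₂ hN₂⟩⟩
  · intro t ht htP
    have := hN.cent t ht htP
    rw [← hV₁, ← hZ₁, hV₁P, hZDeq] at this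
    exact this
  · intro t ht htP
    have h1 := hN₂.cent t ht htP
    have h2 : V₂ ⊓ centralizer (T : Set G) = D := by
      refine (Subgroup.eq_of_le_of_card_ge ?_ (by rw [hN₂.cardZ, hDc])).symm
      exact fun w hw => ⟨hV₂P.symm ▸ hw.2, (hZDeq.symm ▸ hw : w ∈ Z₁).2⟩
    rw [← hV₂def, h2, hV₂P] at h1
    exact h1

end Loc

end Cfsg.Agent.H65.CIT
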