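import Cfsg.Agent.H65.CIT.Local
import Cfsg.Agent.H65.CIT.Numeric
import Cfsg.Agent.H39.StronglyEmbedded

/-!
# Parabolic 2-local subgroups

A parabolic is the normaliser of its 2-core `P ≠ 1` and has more than one Sylow 2-subgroup. When `O_2(G) = 1`, the
Sylow 2-subgroups are not independent and the 2-locals have independent Sylow 2-subgroups modulo their cores, there
are two parabolics with different cores and a common Sylow 2-subgroup.
-/

set_option autoImplicit false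
set_option linter.unusedSectionVars false
set_option linter.style.haveILetI false
set_option linter.dupNamespace false

namespace Cfsg.Agent.H65.CIT

open Subgroup

universe u

variable {G : Type u} [Group G] [Finite G]

/-- The standing hypothesis: centralisers of involutions are 2-groups, `O_2(G) = 1`, and in every 2-local the
Sylow 2-subgroups are independent modulo the 2-core. -/
structure Loc (G : Type u) [Group G] : Prop where
  cit : CIT G
  core : Cfsg.pCore 2 G = ⊥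
  ti : ∀ X : Subgroup G, O2 X ≠ ⊥ → ∀ T T', IsSyl X T → IsSyl X T' → T ≠ T' → T ⊓ T' ≤ O2 X

/-- `X` is a parabolic with core `P`. -/
structure IsPar (X P : Subgroup G) : Prop where
  ne : P ≠ ⊥
  norm : normalizer (P : Set G) = X
  core : O2 X = P
  nn : NonNormal X

namespace IsPar

variable {X P : Subgroup G} (h : IsPar X P)

include h in
theorem two : IsPGroup 2 ↥P := h.core ▸ isPGroup_O2 X

include h in
theorem le : P ≤ X := h.norm ▸ le_normalizer

include h in
theorem le_norm : X ≤ normalizer (P : Set G) := h.norm.ge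

include h in
theorem le_syl {T : Subgroup G} (hT : IsSyl X T) : P ≤ T := h.core ▸ IsSyl.O2_le hT

include h in
theorem exists_other {T : Subgroup G} (hT : IsSyl X T) : ∃ T', IsSyl X T' ∧ T' ≠ T := by
  obtain ⟨A, B, hA, hB, hne⟩ := h.nn
  by_cases hAT : A = T
  · exact ⟨B, hB, fun hBT => hne (hAT.trans hBT.symm)⟩
  · exact ⟨A, hA, hAT⟩

include h in
theorem map (g : G) : IsPar (cj g X) (cj g P) := by
  have hN : normalizer ((cj g P : Subgroup G) : Set G) = cj g X := by rw [← cj_normalizer, h.norm]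
  refine ⟨fun hb => h.ne (by rw [← cj_inv g P, hb]; exact Subgroup.map_bot _), hN, ?_, h.nn.map g⟩
  refine le_antisymm ?_ (le_O2 (cj_le h.le) (h.two.map _) hN.ge)
  rw [← cj_inv' g (O2 (cj g X))]
  refine cj_le (h.core ▸ le_O2 ?_ ((isPGroup_O2 _).map _) ?_)
  · simpa [cj_inv] using cj_le (g := g⁻¹) (O2_le (cj g X))
  · intro x hx
    have := cj_le (g := g⁻¹) (le_normalizer_O2 (cj g X))
    rw [cj_normalizer, cj_inv] at this
    exact this hx

end IsPar

/-- The order of a subgroup is the order of its image times that of its intersection with the kernel. -/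
theorem card_eq_map_mul_inf_ker {A B : Type*} [Group A] [Group B] (f : A →* B) (H : Subgroup A) :
    Nat.card ↥H = Nat.card ↥(H.map f) * Nat.card ↥(H ⊓ f.ker) := by
  rw [Subgroup.card_eq_card_quotient_mul_card_subgroup (f.comp H.subtype).ker,
    Nat.card_congr (QuotientGroup.quotientKerEquivRange (f.comp H.subtype)).toEquiv]
  congr 1
  · rw [MonoidHom.range_comp, Subgroup.range_subtype]
  · rw [← Subgroup.card_map_of_injective H.subtype_injective]
    congr 2
    ext x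
    constructor
    · rintro ⟨y, hy, rfl⟩
      exact ⟨y.2, hy⟩
    · rintro ⟨hx, hx'⟩
      exact ⟨⟨x, hx⟩, hx', rfl⟩

/-- An element of order two modulo the core of `X` has an involution in its coset inverting an odd element. -/
theorem CIT.exists_inverts (hC : CIT G) {X P : Subgroup G} (hP : O2 X = P) {t : G} (htX : t ∈ X)
    (ht : t ∉ P) (ht2 : t * t ∈ P) :
    ∃ n ∈ P, ∃ g ∈ X, g ≠ 1 ∧ Odd (orderOf g) ∧ orderOf (n * t) = 2 ∧
      (n * t) * g * (n * t)⁻¹ = g⁻¹ := by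
  subst hP
  set f := QuotientGroup.mk' (Cfsg.pCore 2 ↥X) with hf
  have hmem : ∀ x : ↥X, f x = 1 ↔ (x : G) ∈ O2 X := by
    intro x
    rw [hf, QuotientGroup.mk'_apply, QuotientGroup.eq_one_iff]
    exact ⟨fun h => ⟨x, h, rfl⟩, fun ⟨y, hy, hyx⟩ => Subtype.ext (hyx : (y : G) = x) ▸ hy⟩
  set t₀ : ↥X := ⟨t, htX⟩
  have hto : orderOf (f t₀) = 2 := H26.orderOf_two_of_mul_self
    (by rw [← map_mul]; exact (hmem _).2 ht2) fun h => ht ((hmem t₀).1 h)
  obtain ⟨y, hy1, hyo, hyi⟩ := exists_inverted_odd Cores.pCore_quotient_pCore hto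
  obtain ⟨y₀, rfl⟩ := QuotientGroup.mk'_surjective _ y
  obtain ⟨g, hg, hgy⟩ := exists_odd_preimage f hyo
  have hg1 : (g : G) ≠ 1 := fun h => hy1 (by
    rw [← hgy, show g = 1 from Subtype.ext h, map_one])
  have hgo : Odd (orderOf (g : G)) := by rwa [Subgroup.orderOf_coe]
  obtain ⟨n, hn, h1, h2⟩ := hC.exists_invol_inverts (isPGroup_O2 X) (le_normalizer_O2 X htX)
    (le_normalizer_O2 X g.2) ht2 ht hgo hg1 ((hmem (t₀ * g * t₀⁻¹ * g)).1 (by
      rw [map_mul, map_mul, map_mul, map_inv, hgy, hyi, inv_mul_cancel]))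
  exact ⟨n, hn, g, g.2, hg1, hgo, h1, h2⟩

/-- The odd part of a group acting on a 2-group `V ≠ 1` divides `|V| - 1`. -/
theorem CIT.dvd_sub_one (hC : CIT G) {X V : Subgroup G} (hV : IsPGroup 2 ↥V)
    (hXV : X ≤ normalizer (V : Set G)) {r : ℕ} (hr : Odd r) (hdvd : r ∣ Nat.card ↥X) :
    r ∣ Nat.card ↥V - 1 := by
  classical
  rw [Nat.dvd_iff_prime_pow_dvd_dvd]
  intro p k hp hpk
  haveI := Fact.mk hp
  rcases Nat.eq_zero_or_pos k with rfl | hk
  · simp
  have hpodd : Odd p := hr.of_dvd_nat ((dvd_pow_self p hk.ne').trans hpk)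
  obtain ⟨R, hR⟩ := Sylow.exists_subgroup_card_pow_prime (G := ↥X) p (hpk.trans hdvd)
  let act : MulAction ↥R {x : ↥V // x ≠ 1} :=
    { smul := fun s x => ⟨⟨((s : ↥X) : G) * (x.1 : G) * ((s : ↥X) : G)⁻¹,
          inv_mem_of_conj_mem (hXV (s : ↥X).2) x.1.2⟩, fun h => x.2 (Subtype.ext
            (conj_eq_one_iff.1 (congrArg Subtype.val h :)))⟩
      one_smul := fun x => Subtype.ext (Subtype.ext (by
        show (1 : G) * (x.1 : G) * 1⁻¹ = (x.1 : G)
        group))
      mul_smul := fun d e x => Subtype.ext (Subtype.ext (by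
        show (((d : ↥X) : G) * (e : ↥X)) * (x.1 : G) * (((d : ↥X) : G) * (e : ↥X))⁻¹ =
          ((d : ↥X) : G) * (((e : ↥X) : G) * (x.1 : G) * ((e : ↥X) : G)⁻¹) * ((d : ↥X) : G)⁻¹
        group)) }
  have hd := Frobenius.dvd_card_of_free ↥R (X := {x : ↥V // x ≠ 1}) fun s x hsx => by
    have h : ((s : ↥X) : G) * (x.1 : G) * ((s : ↥X) : G)⁻¹ = (x.1 : G) :=
      congrArg (fun y : {x : ↥V // x ≠ 1} => (y.1 : G)) hsx
    by_contra hs
    refine x.2 (Subtype.ext (hC.eq_one_of_commute_mem hV x.1.2 ?_ ?_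
      (mul_inv_eq_iff_eq_mul.1 h)))
    · rw [Subgroup.orderOf_coe, Subgroup.orderOf_coe]
      exact (hR ▸ hpodd.pow : Odd (Nat.card ↥R)).of_dvd_nat (orderOf_dvd_natCard s)
    · exact fun e => hs (Subtype.ext (Subtype.ext e))
  haveI := Fintype.ofFinite ↥V
  rw [hR, show Nat.card {x : ↥V // x ≠ 1} = Nat.card ↥V - 1 by
    rw [Nat.card_eq_fintype_card, Nat.card_eq_fintype_card, Fintype.card_subtype_compl,
      Fintype.card_subtype_eq]] at hd
  exact hd

namespace Loc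

variable (hL : Loc G)

include hL in
/-- A parabolic is the normaliser of each of its normal 2-subgroups. -/
theorem norm_eq {X P : Subgroup G} (h : IsPar X P) {R : Subgroup G} (hR : R ≠ ⊥)
    (hR2 : IsPGroup 2 ↥R) (hXR : X ≤ normalizer (R : Set G)) :
    normalizer (R : Set G) = X := by
  haveI : Fact (Nat.Prime 2) := ⟨Nat.prime_two⟩
  set Y := normalizer (R : Set G) with hY
  set R' := O2 Y with hR'
  have hRR' : R ≤ R' := le_O2 le_normalizer hR2 le_rfl
  have hR'P : R' ≤ P := by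
    have hsup : IsPGroup 2 ↥(R' ⊔ P) :=
      (isPGroup_O2 Y).to_sup_of_normal_left' h.two (h.le.trans (hXR.trans (le_normalizer_O2 Y)))
    have hint : R' ⊓ X ≤ P := by
      refine h.core ▸ le_O2 inf_le_right ((isPGroup_O2 Y).to_le inf_le_left) fun x hx => ?_
      refine mem_normalizer_of_cj (Subgroup.eq_of_le_of_card_ge ?_ (card_cj x _).ge)
      rintro _ ⟨y, hy, rfl⟩
      exact ⟨inv_mem_of_conj_mem (le_normalizer_O2 Y (hXR hx)) hy.1,
        X.mul_mem (X.mul_mem hx hy.2) (X.inv_mem hx)⟩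
    by_contra hle
    have hlt : P < R' ⊔ P := lt_of_le_of_ne le_sup_right fun e => hle (e ▸ le_sup_left)
    obtain ⟨x, hx, hxP, hxN⟩ := H39.exists_mem_normalizer_not_mem hsup hlt
    rw [h.norm] at hxN
    rw [← SetLike.mem_coe, Subgroup.coe_mul_of_right_le_normalizer_left R' P
      (h.le.trans (hXR.trans (le_normalizer_O2 Y)))] at hx
    obtain ⟨r, hr, p, hp, rfl⟩ := hx
    refine hxP (P.mul_mem (hint ⟨hr, ?_⟩) hp)
    have := X.mul_mem hxN (X.inv_mem (h.le hp))
    simpa using this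
  refine le_antisymm ?_ hXR
  rcases eq_or_lt_of_le hR'P with he | hlt
  · rw [← h.norm, ← he]
    exact le_normalizer_O2 Y
  · exfalso
    obtain ⟨T, T', hT, hT', hne⟩ := h.nn
    obtain ⟨U, hU, hTU⟩ := exists_syl_ge (hT.1.trans hXR) hT.2.1
    obtain ⟨U', hU', hTU'⟩ := exists_syl_ge (hT'.1.trans hXR) hT'.2.1
    by_cases hUU : U = U'
    · exact hne (hT.eq_of_le hT' hU.2.1 hTU (hUU ▸ hTU'))
    · have hRY : R' ≠ ⊥ := fun e => hR (le_bot_iff.1 (e ▸ hRR'))
      exact hlt.not_ge ((le_inf ((h.le_syl hT).trans hTU) ((h.le_syl hT').trans hTU')).trans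
        (hL.ti Y hRY U U' hU hU' hUU))

end Loc

/-- A subgroup with a 2-core and more than one Sylow 2-subgroup lies in a parabolic. -/
theorem exists_par_ge (X : Subgroup G) (hX : NonNormal X) (hO : O2 X ≠ ⊥) :
    ∃ Y P, IsPar Y P ∧ X ≤ Y := by
  obtain ⟨n, hn⟩ : ∃ n, n = Nat.card G - Nat.card ↥X := ⟨_, rfl⟩
  induction n using Nat.strong_induction_on generalizing X with
  | _ n ih =>
    set Y := normalizer ((O2 X : Subgroup G) : Set G) with hY
    have hXY : X ≤ Y := le_normalizer_O2 X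
    have hOY : O2 X ≤ O2 Y := le_O2 le_normalizer (isPGroup_O2 X) le_rfl
    by_cases he : O2 Y = O2 X
    · exact ⟨Y, O2 X, ⟨hO, rfl, he, hX.mono hXY⟩, hXY⟩
    · have hlt : Nat.card ↥X < Nat.card ↥Y := lt_of_le_of_ne (Subgroup.card_le_of_le hXY)
        fun e => he (by rw [← Subgroup.eq_of_le_of_card_ge hXY e.ge])
      have hYG : Nat.card ↥Y ≤ Nat.card G := Subgroup.card_le_card_group Y
      obtain ⟨Z, P, hP, hYZ⟩ := ih (Nat.card G - Nat.card ↥Y) (by omega) Y (hX.mono hXY)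
        (fun e => hO (le_bot_iff.1 (e ▸ hOY))) rfl
      exact ⟨Z, P, hP, hXY.trans hYZ⟩

/-- The normaliser step used along chains of intersections. -/
theorem exists_gt_in_normalizer {S I : Subgroup G} (hS : IsPGroup 2 ↥S) (hIS : I ≤ S) (hne : I ≠ S) :
    I < S ⊓ normalizer (I : Set G) := by
  haveI : Fact (Nat.Prime 2) := ⟨Nat.prime_two⟩
  obtain ⟨x, hx, hxI, hxN⟩ := H39.exists_mem_normalizer_not_mem hS (lt_of_le_of_ne hIS hne)
  exact lt_of_le_of_ne (le_inf hIS le_normalizer) fun e => hxI (e.symm ▸ ⟨hx, hxN⟩)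

/-- If the Sylow 2-subgroups are not independent then some parabolic exists. -/
theorem exists_par (hn : ∃ S T : Sylow 2 G, S ≠ T ∧ (S : Subgroup G) ⊓ (T : Subgroup G) ≠ ⊥) :
    ∃ X P : Subgroup G, IsPar X P := by
  classical
  haveI : Fact (Nat.Prime 2) := ⟨Nat.prime_two⟩
  haveI := Fintype.ofFinite (Sylow 2 G)
  set A : Finset (Sylow 2 G × Sylow 2 G) := Finset.univ.filter fun p =>
    p.1 ≠ p.2 ∧ (p.1 : Subgroup G) ⊓ (p.2 : Subgroup G) ≠ ⊥ with hA
  obtain ⟨S₀, T₀, h₀⟩ := hn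
  obtain ⟨⟨S, T⟩, hp, hmax⟩ := A.exists_max_image
    (fun p => Nat.card ↥((p.1 : Subgroup G) ⊓ (p.2 : Subgroup G))) ⟨(S₀, T₀), by simp [hA, h₀]⟩
  simp only [hA, Finset.mem_filter, Finset.mem_univ, true_and] at hp hmax
  obtain ⟨hne, hI⟩ := hp
  set I := (S : Subgroup G) ⊓ (T : Subgroup G) with hIdef
  have hlt1 := exists_gt_in_normalizer S.2 inf_le_left fun e =>
    hne (Sylow.ext (S.3 T.2 (inf_eq_left.1 e)).symm)
  have hlt2 := exists_gt_in_normalizer T.2 inf_le_right fun e =>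
    hne (Sylow.ext (T.3 S.2 (inf_eq_right.1 e)))
  set X := normalizer (I : Set G)
  have hnn : NonNormal X := by
    by_contra hcon
    obtain ⟨U, hU, hU1⟩ := exists_syl_ge (X := X) inf_le_right (S.2.to_le inf_le_left)
    obtain ⟨U', hU', hU2⟩ := exists_syl_ge (X := X) inf_le_right (T.2.to_le inf_le_left)
    obtain rfl : U = U' := by
      by_contra h
      exact hcon ⟨U, U', hU, hU', h⟩
    obtain ⟨R, hR⟩ := hU.2.1.exists_le_sylow
    have key : ∀ W : Sylow 2 G, I < (W : Subgroup G) ⊓ X → (W : Subgroup G) ⊓ X ≤ R → W = R := by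
      intro W hlt hle
      by_contra hW
      have h1 : (W : Subgroup G) ⊓ X ≤ (W : Subgroup G) ⊓ (R : Subgroup G) := le_inf inf_le_left hle
      have h2 := hmax (W, R) ⟨hW, fun e => (bot_le.trans_lt (hlt.trans_le h1)).ne' e⟩
      have h3 := Set.ncard_lt_ncard (SetLike.coe_ssubset_coe.2 (hlt.trans_le h1)) (Set.toFinite _)
      rw [← Nat.card_coe_set_eq, ← Nat.card_coe_set_eq] at h3
      exact absurd h2 (not_le.2 h3)
    exact hne ((key S hlt1 (hU1.trans hR)).trans (key T hlt2 (hU2.trans hR)).symm)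
  have hO : O2 X ≠ ⊥ := fun e => hI (le_bot_iff.1
    (e ▸ le_O2 le_normalizer (S.2.to_le inf_le_left) le_rfl))
  obtain ⟨Y, P, hP, -⟩ := exists_par_ge X hnn hO
  exact ⟨Y, P, hP⟩

namespace Loc

variable (hL : Loc G)

include hL in
/-- If every parabolic contains a Sylow 2-subgroup of `G`, some Sylow 2-subgroup lies in two of them. -/
theorem exists_two_of_full (hn : ∃ S T : Sylow 2 G, S ≠ T ∧ (S : Subgroup G) ⊓ (T : Subgroup G) ≠ ⊥)
    (hfull : ∀ X P T, IsPar X P → IsSyl X T → ∃ S : Sylow 2 G, (S : Subgroup G) = T)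
    (hun : ∀ (S : Sylow 2 G) X P X' P', IsPar X P → IsPar X' P' → (S : Subgroup G) ≤ X →
      (S : Subgroup G) ≤ X' → P = P') : False := by
  haveI : Fact (Nat.Prime 2) := ⟨Nat.prime_two⟩
  obtain ⟨H, P, hP⟩ := exists_par hn
  have heq : ∀ {X Q : Subgroup G} (S : Sylow 2 G), IsPar X Q → (S : Subgroup G) ≤ X →
      (S : Subgroup G) ≤ H → X = H := fun {X Q} S hX hSX hSH => by
    rw [← hX.norm, ← hP.norm, hun S X Q H P hX hP hSX hSH]
  have hclaim : ∀ S S' : Sylow 2 G, (S : Subgroup G) ≤ H →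
      (S : Subgroup G) ⊓ (S' : Subgroup G) ≠ ⊥ → (S' : Subgroup G) ≤ H := by
    intro S S'
    obtain ⟨n, hn⟩ :
        ∃ n, n = Nat.card G - Nat.card ↥((S : Subgroup G) ⊓ (S' : Subgroup G)) := ⟨_, rfl⟩
    induction n using Nat.strong_induction_on generalizing S S' with
    | _ n ih =>
      intro hSH hI
      set I := (S : Subgroup G) ⊓ (S' : Subgroup G) with hIdef
      have step : ∀ A B : Sylow 2 G, (A : Subgroup G) ≤ H →
          I < (A : Subgroup G) ⊓ (B : Subgroup G) → (B : Subgroup G) ≤ H := by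
        intro A B hA hlt
        have h3 := Set.ncard_lt_ncard (SetLike.coe_ssubset_coe.2 hlt) (Set.toFinite _)
        rw [← Nat.card_coe_set_eq, ← Nat.card_coe_set_eq] at h3
        have h4 := Subgroup.card_le_card_group ((A : Subgroup G) ⊓ (B : Subgroup G))
        exact ih _ (by simp only [SetLike.coe_sort_coe] at h3; omega) A B rfl hA
          (bot_le.trans_lt hlt).ne'
      by_cases hSS : S = S'
      · exact hSS ▸ hSH
      have hlt1 := exists_gt_in_normalizer S.2 inf_le_left fun e =>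
        hSS (Sylow.ext (S.3 S'.2 (inf_eq_left.1 e)).symm)
      have hlt2 := exists_gt_in_normalizer S'.2 inf_le_right fun e =>
        hSS (Sylow.ext (S'.3 S.2 (inf_eq_right.1 e)))
      set X := normalizer (I : Set G)
      obtain ⟨U, hU, hU1⟩ := exists_syl_ge (X := X) inf_le_right (S.2.to_le inf_le_left)
      by_cases hX : NonNormal X
      · obtain ⟨Y, Q, hQ, hXY⟩ := exists_par_ge X hX (fun e => hI (le_bot_iff.1
          (e ▸ le_O2 le_normalizer (S.2.to_le inf_le_left) le_rfl)))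
        obtain ⟨U₁, hU₁, hUU₁⟩ := exists_syl_ge (hU.1.trans hXY) hU.2.1
        obtain ⟨S₁, rfl⟩ := hfull Y Q U₁ hQ hU₁
        have hS₁ : (S₁ : Subgroup G) ≤ H :=
          step S S₁ hSH (hlt1.trans_le (le_inf inf_le_left (hU1.trans hUU₁)))
        obtain rfl : Y = H := heq S₁ hQ hU₁.1 hS₁
        obtain ⟨V, hV, hVle⟩ := exists_syl_ge (X := Y) (inf_le_right.trans hXY)
          (S'.2.to_le inf_le_left)
        obtain ⟨S₃, rfl⟩ := hfull Y Q V hQ hV
        exact step S₃ S' hV.1 (hlt2.trans_le (le_inf hVle inf_le_left))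
      · obtain ⟨U', hU', hU2⟩ := exists_syl_ge (X := X) inf_le_right (S'.2.to_le inf_le_left)
        obtain rfl : U = U' := by
          by_contra h
          exact hX ⟨U, U', hU, hU', h⟩
        obtain ⟨R, hR⟩ := hU.2.1.exists_le_sylow
        have hRH : (R : Subgroup G) ≤ H :=
          step S R hSH (hlt1.trans_le (le_inf inf_le_left (hU1.trans hR)))
        exact step R S' hRH (hlt2.trans_le (le_inf (hU2.trans hR) inf_le_left))
  have hne : H ≠ ⊤ := by
    intro e
    haveI : P.Normal := Subgroup.normalizer_eq_top_iff.1 (hP.norm.trans e)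
    exact hP.ne (le_bot_iff.1 (hL.core ▸ Cores.le_pCore hP.two))
  obtain ⟨z, hzP, hz⟩ := exists_invol hP.two hP.ne
  have hSE : Cfsg.IsStronglyEmbedded H := by
    refine ⟨hne, even_iff_two_dvd.2 (hz ▸ Subgroup.orderOf_dvd_natCard H (hP.le hzP)), fun g hg => ?_⟩
    rw [← Nat.not_even_iff_odd]
    intro he
    obtain ⟨⟨w, hw1, hw2⟩, hw⟩ := exists_prime_orderOf_dvd_card' 2 (even_iff_two_dvd.1 he)
    rw [← Subgroup.orderOf_coe] at hw
    have hwp : IsPGroup 2 ↥(zpowers w) :=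
      IsPGroup.of_card (n := 1) (by rw [Nat.card_zpowers, hw, pow_one])
    obtain ⟨T₁, hT₁, hw₁⟩ := exists_syl_ge (zpowers_le.2 hw1) hwp
    obtain ⟨T₂, hT₂, hw₂⟩ := exists_syl_ge (X := cj g H) (zpowers_le.2 hw2) hwp
    obtain ⟨S₁, rfl⟩ := hfull H P T₁ hP hT₁
    obtain ⟨S₂, rfl⟩ := hfull _ _ T₂ (hP.map g) hT₂
    have hS₂ := hclaim S₁ S₂ hT₁.1 fun e => H65.ne_one_of_orderOf hw (Subgroup.mem_bot.1
      (e ▸ ⟨hw₁ (mem_zpowers w), hw₂ (mem_zpowers w)⟩))
    have := hun S₂ _ _ H P (hP.map g) hP hT₂.1 hS₂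
    exact hg (hP.norm ▸ mem_normalizer_of_cj this)
  obtain ⟨T, T', hT, hT', hTT'⟩ := hP.nn
  obtain ⟨x, hxT, hxP⟩ : ∃ x ∈ T, x ∉ P := by
    by_contra h
    push Not at h
    have hTP : T = P := le_antisymm h (hP.le_syl hT)
    exact hTT' (hT.2.2 T' hT'.1 hT'.2.1 (hTP ▸ hP.le_syl hT')).symm
  obtain ⟨k, hk⟩ := pow_two_of_mem hT.2.1 hxT
  have hex : ∃ j, x ^ (2 ^ j) ∈ P := ⟨k, hk ▸ P.one_mem⟩
  classical
  have hj := Nat.find_spec hex
  have hj0 : Nat.find hex ≠ 0 := fun e => hxP (by simpa [e] using hj)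
  obtain ⟨i, hi⟩ : ∃ i, Nat.find hex = i + 1 := ⟨Nat.find hex - 1, by omega⟩
  rw [hi, pow_succ, pow_mul, pow_two] at hj
  have htP : x ^ (2 ^ i) ∉ P := Nat.find_min hex (by omega)
  obtain ⟨m, hm, -, -, -, -, hu, -⟩ := hL.cit.exists_inverts hP.core
    (pow_mem (hT.1 hxT) _) htP hj
  obtain ⟨g, hg⟩ := isConj_iff.1 (H39.se_involutions_conj hSE hz hu)
  have hgH : g ∈ H := H39.se_mem_of_conj hSE hz (hP.le hzP)
    (hg ▸ H.mul_mem (hP.le hm) (pow_mem (hT.1 hxT) _))
  have hgz : g * z * g⁻¹ ∈ P := inv_mem_of_conj_mem (hP.le_norm hgH) hzP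
  rw [hg] at hgz
  exact htP (by simpa using P.mul_mem (P.inv_mem hm) hgz)

include hL in
/-- Two parabolics with different cores and a common Sylow 2-subgroup. -/
theorem exists_pair (hn : ∃ S T : Sylow 2 G, S ≠ T ∧ (S : Subgroup G) ⊓ (T : Subgroup G) ≠ ⊥) :
    ∃ T X₁ P₁ X₂ P₂ : Subgroup G, IsPar X₁ P₁ ∧ IsPar X₂ P₂ ∧ IsSyl X₁ T ∧ IsSyl X₂ T ∧ P₁ ≠ P₂ := by
  haveI : Fact (Nat.Prime 2) := ⟨Nat.prime_two⟩
  by_contra hcon
  push Not at hcon
  refine hL.exists_two_of_full hn (fun X P T hX hT => ?_) fun S X P X' P' hX hX' hS hS' => ?_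
  · obtain ⟨S, hS⟩ := hT.2.1.exists_le_sylow
    by_contra hne
    obtain ⟨s, hs, hsT, hsN⟩ := H39.exists_mem_normalizer_not_mem S.2
      (lt_of_le_of_ne hS fun e => hne ⟨S, e.symm⟩)
    have hT' : IsSyl (cj s X) T := cj_eq_of_mem hsN ▸ hT.map s
    have hPP := hcon T X P (cj s X) (cj s P) hX (hX.map s) hT hT'
    have hsX : s ∈ X := hX.norm ▸ mem_normalizer_of_cj hPP.symm
    obtain ⟨k, hk⟩ := pow_two_of_mem S.2 hs
    exact hsT (hT.mem_of_normalizes hsX hsN hk)
  · exact hcon S X P X' P' hX hX' ⟨hS, S.2, fun U _ hU hle => S.3 hU hle⟩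
      ⟨hS', S.2, fun U _ hU hle => S.3 hU hle⟩

include hL in
/-- The bound on elementary subgroups and the odd part of the order of a parabolic. -/
theorem numeric {X P T : Subgroup G} (h : IsPar X P) (hT : IsSyl X T) :
    ∃ q r b : ℕ, 2 ≤ q ∧ Odd r ∧ Nat.card ↥X = Nat.card ↥T * r ∧ Nat.card ↥T = Nat.card ↥P * b ∧
      (b + 1) * (q - 1) ≤ r ∧
      (∀ E : Subgroup G, E ≤ T → (∀ x ∈ E, x * x = 1) → Nat.card ↥E ≤ q * Nat.card ↥(E ⊓ P)) ∧
      ∃ W : Subgroup G, P ≤ W ∧ W ≤ T ∧ (∀ x ∈ W, x * x ∈ P) ∧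
        Nat.card ↥W = Nat.card ↥P * q := by
  classical
  haveI : Fact (Nat.Prime 2) := ⟨Nat.prime_two⟩
  obtain ⟨T', hT', hne⟩ := h.exists_other hT
  set N := Cfsg.pCore 2 ↥X with hNdef
  set f := QuotientGroup.mk' N with hf
  have hN : P.subgroupOf X = N := by
    rw [← h.core]
    exact Subgroup.comap_map_eq_self_of_injective X.subtype_injective N
  have hker : f.ker = P.subgroupOf X := by rw [hN, hf, QuotientGroup.ker_mk']
  obtain ⟨A, hA⟩ := hT.exists_sylow
  obtain ⟨B, hB⟩ := hT'.exists_sylow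
  let A' : Sylow 2 (↥X ⧸ N) := A.mapSurjective (QuotientGroup.mk'_surjective N)
  let B' : Sylow 2 (↥X ⧸ N) := B.mapSurjective (QuotientGroup.mk'_surjective N)
  have hAN : N ≤ (A : Subgroup ↥X) := Cores.pCore_le_sylow A
  have hcomap : ∀ C : Sylow 2 ↥X, ((C : Subgroup ↥X).map f).comap f = (C : Subgroup ↥X) := fun C => by
    rw [Subgroup.comap_map_eq, hf, QuotientGroup.ker_mk', sup_eq_left.2 (Cores.pCore_le_sylow C)]
  have hAB : A' ≠ B' := by
    intro e
    have e' : (A : Subgroup ↥X).map f = (B : Subgroup ↥X).map f := congrArg Sylow.toSubgroup e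
    refine hne ?_
    rw [← hB, ← hcomap B, ← e', hcomap A, hA]
  have hTI : ∀ S S' : Sylow 2 (↥X ⧸ N), S ≠ S' → (S : Subgroup (↥X ⧸ N)) ⊓ S' = ⊥ := by
    intro S S' hSS
    obtain ⟨C, rfl⟩ := Sylow.mapSurjective_surjective (QuotientGroup.mk'_surjective N) 2 S
    obtain ⟨D, rfl⟩ := Sylow.mapSurjective_surjective (QuotientGroup.mk'_surjective N) 2 S'
    rw [eq_bot_iff]
    intro y hy
    obtain ⟨y₀, rfl⟩ := QuotientGroup.mk'_surjective N y
    obtain ⟨h1, h2⟩ := Subgroup.mem_inf.1 hy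
    have hc : y₀ ∈ (C : Subgroup ↥X) := hcomap C ▸ h1
    have hd : y₀ ∈ (D : Subgroup ↥X) := hcomap D ▸ h2
    have := hL.ti X (h.core.symm ▸ h.ne) _ _ (isSyl_map C) (isSyl_map D) (fun e => hSS (by
      rw [show C = D from Sylow.ext (Subgroup.map_injective X.subtype_injective e)]))
      ⟨⟨y₀, hc, rfl⟩, ⟨y₀, hd, rfl⟩⟩
    rw [h.core] at this
    exact Subgroup.mem_bot.2 (MonoidHom.mem_ker.1 (hker ▸ mem_subgroupOf.2 this : y₀ ∈ f.ker))
  obtain ⟨q, hq, hr, hE, W, hW, hW2, hWc⟩ :=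
    CIT.numeric ((hL.cit.subgroup X).quotient N Cores.pCore_isPGroup) hTI A' B' hAB
  have hAc : Nat.card ↥T = Nat.card ↥(A : Subgroup ↥X) := by
    rw [← hA, Subgroup.card_map_of_injective X.subtype_injective]
  have hsub : ∀ {E : Subgroup G}, E ≤ X → Nat.card ↥(E.subgroupOf X) = Nat.card ↥E :=
    fun hEX => Nat.card_congr (Subgroup.subgroupOfEquivOfLe hEX).toEquiv
  have hidx : (A' : Subgroup (↥X ⧸ N)).index = (A : Subgroup ↥X).index := by
    show ((A : Subgroup ↥X).map f).index = _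
    rw [Subgroup.index_map_eq _ (QuotientGroup.mk'_surjective N)]
    rw [QuotientGroup.ker_mk']; exact hAN
  refine ⟨q, (A : Subgroup ↥X).index, Nat.card ↥(A' : Subgroup (↥X ⧸ N)), hq,
    Nat.not_even_iff_odd.1 fun he => A.not_dvd_index (even_iff_two_dvd.1 he),
    by rw [hAc, Subgroup.card_mul_index], ?_, hidx ▸ hr, fun E hET hE2 => ?_, ?_⟩
  · have hNc : Nat.card ↥P = Nat.card ↥N := (hsub h.le).symm.trans (by rw [hN])
    rw [hAc, card_eq_map_mul_inf_ker f (A : Subgroup ↥X), hf, QuotientGroup.ker_mk',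
      inf_eq_right.2 hAN, mul_comm, hNc]
    rfl
  · have hEX : E ≤ X := hET.trans hT.1
    have h1 := card_eq_map_mul_inf_ker f (E.subgroupOf X)
    rw [hsub hEX, hker, show E.subgroupOf X ⊓ P.subgroupOf X = (E ⊓ P).subgroupOf X from
      (Subgroup.comap_inf E P X.subtype).symm, hsub (inf_le_left.trans hEX)] at h1
    rw [h1]
    refine Nat.mul_le_mul_right _ (hE _ ?_ ?_)
    · rintro _ ⟨e, he, rfl⟩
      refine ⟨e, ?_, rfl⟩
      have : (e : G) ∈ (A : Subgroup ↥X).map X.subtype := hA ▸ hET (mem_subgroupOf.1 he)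
      obtain ⟨a, ha, hae⟩ := this
      exact Subtype.ext (hae : (a : G) = e) ▸ ha
    · rintro _ ⟨e, he, rfl⟩
      rw [← map_mul, show e * e = 1 from Subtype.ext (hE2 _ (mem_subgroupOf.1 he)), map_one]
  · refine ⟨(W.comap f).map X.subtype, ?_, ?_, ?_, ?_⟩
    · intro x hx
      refine ⟨⟨x, h.le hx⟩, ?_, rfl⟩
      have : (⟨x, h.le hx⟩ : ↥X) ∈ f.ker := hker ▸ mem_subgroupOf.2 hx
      exact Subgroup.mem_comap.2 (MonoidHom.mem_ker.1 this ▸ W.one_mem)
    · rw [← hA]
      exact Subgroup.map_mono ((Subgroup.comap_mono hW).trans (hcomap A).le)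
    · rintro _ ⟨y, hy, rfl⟩
      have : y * y ∈ f.ker := MonoidHom.mem_ker.2 (by rw [map_mul]; exact hW2 _ hy)
      rw [hker] at this
      exact mem_subgroupOf.1 this
    · rw [Subgroup.card_map_of_injective X.subtype_injective, card_eq_map_mul_inf_ker f (W.comap f),
        map_comap_eq_self_of_surjective (QuotientGroup.mk'_surjective N), hWc,
        inf_eq_right.2 (MonoidHom.ker_le_comap f W), hker, hsub h.le, mul_comm]

end Loc

end Cfsg.Agent.H65.CIT
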