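import Cfsg.Agent.H65.CIT.Base
import Cfsg.Agent.H65.CIT.Outside
import Cfsg.Agent.S0111

/-!
# For `q = 4` the group `T` is a Sylow 2-subgroup of a simple group

An element normalising `T` and exchanging the two sides can be taken to be an involution `n` normalising a part of
odd order; then `T⟨n⟩` is a Sylow 2-subgroup and Thompson transfer gives a contradiction.
-/

set_option autoImplicit false
set_option linter.unusedSectionVars false
set_option linter.style.haveILetI false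
set_option linter.dupNamespace false

namespace Cfsg.Agent.H65.CIT

open Subgroup

universe u

variable {G : Type u} [Group G] [Finite G]

omit [Finite G] in
/-- Elementary subgroups of order at least nine of a group `T⟨x⟩`, `x` exchanging the sides, lie in `T`. -/
theorem Amalgam.elem_le (A : Amalgam G) {n : G} (hn : cj n A.P₁ = A.P₂) (hn' : cj n A.P₂ = A.P₁)
    {E : Subgroup G} (hE : Ex2 E) (hES : ∀ e ∈ E, e ∈ A.T ∨ ∃ t ∈ A.T, e = t * n)
    (hc : 2 * A.q < Nat.card ↥E) [Finite G] : E ≤ A.T := by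
  classical
  by_contra hcon
  obtain ⟨x, hx, hxT⟩ := SetLike.not_le_iff_exists.1 hcon
  obtain ⟨t, ht, hxt⟩ := (hES x hx).resolve_left hxT
  have hswap : ∀ e, (e ∈ A.P₁ → x * e * x⁻¹ ∈ A.P₂) ∧ (e ∈ A.P₂ → x * e * x⁻¹ ∈ A.P₁) := by
    intro e
    have h1 : x * e * x⁻¹ = t * (n * e * n⁻¹) * t⁻¹ := by rw [hxt]; group
    rw [h1]
    constructor
    · exact fun he => inv_mem_of_conj_mem (A.h₂.le_norm (A.hT₂.1 ht)) (hn ▸ conj_mem_cj he)
    · exact fun he => inv_mem_of_conj_mem (A.h₁.le_norm (A.hT₁.1 ht)) (hn' ▸ conj_mem_cj he)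
  have hsub : E ⊓ A.T ≤ A.P₁ ⊓ A.P₂ := by
    rintro e ⟨he, heT⟩
    have h1 : x * e * x⁻¹ = e := by rw [(hE.commute hx he).eq, mul_inv_cancel_right]
    rcases A.invol_mem heT (hE e he) with h | h
    · exact ⟨h, h1 ▸ (hswap e).1 h⟩
    · exact ⟨h1 ▸ (hswap e).2 h, h⟩
  have h4 : Nat.card ↥(E ⊓ A.T) ≤ A.q := A.cardZ ▸ Subgroup.card_le_of_le hsub
  let f : ↥E → ↥(E ⊓ A.T) ⊕ ↥(E ⊓ A.T) := fun e =>
    if h : (e : G) ∈ A.T then Sum.inl ⟨e, e.2, h⟩ else Sum.inr ⟨x * e, E.mul_mem hx e.2, by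
      obtain ⟨s, hs, he⟩ := (hES e e.2).resolve_left h
      have h1 : x * e = x * (e : G)⁻¹ := by rw [hE.inv e.2]
      rw [h1, he, hxt, show t * n * (s * n)⁻¹ = t * s⁻¹ by group]
      exact A.T.mul_mem ht (A.T.inv_mem hs)⟩
  have hf : Function.Injective f := by
    intro a b hab
    have hv : ∀ e : ↥E, Sum.elim (fun y : ↥(E ⊓ A.T) => ((y : G), true)) (fun y : ↥(E ⊓ A.T) => ((y : G), false)) (f e) =
        if (e : G) ∈ A.T then ((e : G), true) else (x * (e : G), false) := by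
      intro e
      by_cases h : (e : G) ∈ A.T
      · simp [f, h]
      · simp [f, h]
    have h := (hv a).symm.trans ((congrArg _ hab).trans (hv b))
    split_ifs at h with h1 h2
    · exact Subtype.ext (congrArg Prod.fst h)
    · simp at h
    · simp at h
    · exact Subtype.ext (mul_left_cancel (congrArg Prod.fst h))
  have h8 := Nat.card_le_card_of_injective f hf
  rw [Nat.card_sum] at h8
  omega

namespace Amalgam

variable (hL : Loc G) (A : Amalgam G)

include hL in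
/-- An element normalising `T` and exchanging the sides can be improved to an involution normalising a subgroup of
odd order that moves `Z`. -/
theorem exists_swap_invol (hq : A.q = 4) {s : G} (hsT : s ∈ normalizer (A.T : Set G))
    (hs : s ∉ A.X₁) :
    ∃ n : G, orderOf n = 2 ∧ n ∈ normalizer (A.T : Set G) ∧ n ∉ A.X₁ ∧
      ∃ z ∈ A.P₁ ⊓ A.P₂, n * z * n⁻¹ ≠ z := by
  classical
  set B := A.X₁ ⊓ normalizer (A.T : Set G) with hB
  set Z := A.P₁ ⊓ A.P₂ with hZ
  -- an element of `B` of odd order moving `Z`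
  obtain ⟨k, hkB, hko, z, hz, hkz⟩ : ∃ k ∈ B, Odd (orderOf k) ∧ ∃ z ∈ Z, k * z * k⁻¹ ≠ z := by
    obtain ⟨w, hwX, -, -, hwi, hdec, -, -, hbr⟩ := A.side₁.torus hL
    obtain ⟨z, hz, hz1⟩ := A.exists_Z_invol.elim fun z hz =>
      (⟨z, hz.1, H65.ne_one_of_orderOf hz.2⟩ : ∃ z ∈ Z, z ≠ 1)
    set y := w * z * w⁻¹ with hy
    have hyP : y ∈ A.P₁ := inv_mem_of_conj_mem (A.h₁.le_norm hwX) hz.1
    by_contra hcon
    push Not at hcon
    have hall : ∀ t ∈ A.T, t ∉ A.P₁ → t * y * t⁻¹ * y = z := by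
      intro t ht htP
      obtain ⟨m, hm, hmT, -, hmz⟩ := hbr t ht htP
      rw [hmz z hz]
      obtain ⟨a, j, hj, hnj⟩ := Nat.exists_eq_two_pow_mul_odd (orderOf_pos m).ne'
      obtain ⟨c, d, hcd⟩ : IsCoprime ((2 ^ a : ℕ) : ℤ) (j : ℤ) :=
        Nat.isCoprime_iff_coprime.2 ((Nat.coprime_two_left.2 hj).pow_left a)
      set o := (m ^ (2 ^ a)) ^ c with ho
      set r := (m ^ j) ^ d with hr
      have hoj : o ^ j = 1 := by
        rw [ho, ← zpow_natCast, ← zpow_mul, mul_comm, zpow_mul, zpow_natCast, ← pow_mul, ← hnj,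
          pow_orderOf_eq_one, one_zpow]
      have hr1 : r ^ (2 ^ a) = 1 := by
        rw [hr, ← zpow_natCast, ← zpow_mul, mul_comm, zpow_mul, zpow_natCast, ← pow_mul, mul_comm,
          ← hnj, pow_orderOf_eq_one, one_zpow]
      have hrT : r ∈ A.T := A.hT₁.mem_of_normalizes (zpow_mem (pow_mem hm _) _)
        (zpow_mem (pow_mem hmT _) _) hr1
      have hmor : m = o * r := by
        rw [ho, hr, ← zpow_natCast m (2 ^ a), ← zpow_natCast m j, ← zpow_mul, ← zpow_mul, ← zpow_add,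
          mul_comm ((2 ^ a : ℕ) : ℤ), mul_comm (j : ℤ), hcd, zpow_one]
      have hoB : o ∈ B := ⟨zpow_mem (pow_mem hm _) _, zpow_mem (pow_mem hmT _) _⟩
      calc m * z * m⁻¹ = o * (r * z * r⁻¹) * o⁻¹ := by rw [hmor]; group
        _ = o * z * o⁻¹ := by rw [(A.commute_Z hz hrT).eq, mul_inv_cancel_right]
        _ = z := hcon o hoB (hj.of_dvd_nat (orderOf_dvd_of_pow_eq_one hoj)) z hz
    -- so the commutator map takes at most two values, but it is onto `Z`
    obtain ⟨v, hv, hv1, hvz⟩ : ∃ v ∈ Z, v ≠ 1 ∧ v ≠ z := by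
      by_contra hcon'
      push Not at hcon'
      have hsub : (Z : Set G) ⊆ {1, z} := fun v hv => by
        by_cases h : v = 1
        · exact Or.inl h
        · exact Or.inr (hcon' v hv h)
      have h := (Set.ncard_le_ncard hsub).trans (Set.ncard_insert_le _ _)
      rw [Set.ncard_singleton, ← Nat.card_coe_set_eq] at h
      have hcard : Nat.card ↥Z = 4 := A.cardZ.trans hq
      simp only [SetLike.coe_sort_coe] at h
      omega
    have hvy : v * y ∈ A.P₁ := A.P₁.mul_mem hv.1 hyP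
    obtain ⟨h, hh, hhZ⟩ := A.exists_conj_Z hL hvy
    -- the orbit of `y` under `T`
    let f : ↥A.T → ↥Z := fun t => ⟨t * y * (t : G)⁻¹ * y, A.side₁.comm_mem t.2 hyP⟩
    have hne : ∀ t, f t ≠ ⟨v, hv⟩ := by
      intro t e
      have e' : (t : G) * y * (t : G)⁻¹ * y = v := congrArg Subtype.val e
      by_cases htP : (t : G) ∈ A.P₁
      · rw [(A.ex₁.commute htP hyP).eq, mul_inv_cancel_right, A.ex₁ y hyP] at e'
        exact hv1 e'.symm
      · exact hvz (e'.symm.trans (hall t t.2 htP))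
    have hsurj : ∀ c : ↥Z, ∃ t, f t = c := by
      intro c
      let g : ↥A.T →* ↥Z :=
        { toFun := f
          map_one' := Subtype.ext (by simpa [f] using A.ex₁ y hyP)
          map_mul' := fun s t => by
            refine Subtype.ext ?_
            show (s : G) * t * y * ((s : G) * t)⁻¹ * y =
              (s * y * (s : G)⁻¹ * y) * (t * y * (t : G)⁻¹ * y)
            have hc := A.side₁.comm_mem t.2 hyP
            rw [← ((A.ex₁.commute (A.side₁.comm_mem s.2 hyP).1 hc.1)).symm.eq,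
              show (s : G) * t * y * ((s : G) * t)⁻¹ * y =
                (s * (t * y * (t : G)⁻¹ * y) * (s : G)⁻¹) * (s * y⁻¹ * (s : G)⁻¹ * y) by group,
              A.ex₁.inv hyP, (A.commute_Z hc s.2).eq, mul_inv_cancel_right] }
      have hker : g.ker ≤ A.P₁.subgroupOf A.T := by
        intro t ht
        refine mem_subgroupOf.2 ?_
        by_contra htP
        have h1 : (t : G) * y * (t : G)⁻¹ * y = 1 := congrArg Subtype.val (MonoidHom.mem_ker.1 ht)
        exact hz1 ((hall t t.2 htP).symm.trans h1)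
      have h1 := g.ker.card_mul_index
      rw [Subgroup.index_ker, A.cardT] at h1
      have h2 : Nat.card ↥g.ker ≤ A.q ^ 2 := by
        refine (Nat.card_le_card_of_injective _ (Subgroup.inclusion_injective hker)).trans ?_
        rw [Nat.card_congr (subgroupOfEquivOfLe A.le₁).toEquiv, A.cardP₁]
      have htop : g.range = ⊤ := by
        refine Subgroup.eq_top_of_le_card _ ?_
        rw [A.cardZ]
        have hq' : 0 < A.q ^ 2 := by have := A.two_le; positivity
        refine Nat.le_of_mul_le_mul_left ?_ hq'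
        rw [← pow_succ, ← h1]
        exact Nat.mul_le_mul_right _ h2
      exact htop.ge (mem_top c)
    obtain ⟨t, ht⟩ := hsurj ⟨v, hv⟩
    exact hne t ht
  -- Frattini
  have hk1 : k ≠ 1 := fun e => hkz (by rw [e, one_mul, inv_one, mul_one])
  obtain ⟨p, hp, hpk⟩ : ∃ p, p.Prime ∧ p ∣ orderOf k :=
    Nat.exists_prime_and_dvd fun e => hk1 (orderOf_eq_one_iff.1 e)
  haveI : Fact p.Prime := ⟨hp⟩
  have hp2 : Odd p := hko.of_dvd_nat hpk
  have hBn : normalizer (A.T : Set G) ≤ normalizer (B : Set G) := by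
    intro g hg
    refine mem_normalizer_of_cj (Subgroup.eq_of_le_of_card_ge ?_ (card_cj g B).ge)
    rintro _ ⟨b, ⟨hb, hbT⟩, rfl⟩
    show g * b * g⁻¹ ∈ B
    refine Subgroup.mem_inf.2 ⟨?_, mul_mem (mul_mem hg hbT) (inv_mem hg)⟩
    rw [← A.h₁.norm]
    refine mem_normalizer_of_cj ?_
    rcases A.norm_cases hg with h | h
    · exact cj_eq_of_mem (A.h₁.le_norm (A.X₁.mul_mem (A.X₁.mul_mem h hb) (A.X₁.inv_mem h)))
    · rcases A.norm_cases (inv_mem hg) with h' | h'
      · exact cj_eq_of_mem (A.h₁.le_norm (A.X₁.mul_mem (A.X₁.mul_mem (inv_mem_iff.1 h') hb) h'))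
      · have hb2 : cj b A.P₂ = A.P₂ := cj_eq_of_mem (A.h₂.le_norm (A.norm₂ hbT hb))
        have h3 : cj g A.P₂ = A.P₁ := by rw [← h', cj_inv']
        calc cj (g * b * g⁻¹) A.P₁ = cj g (cj b (cj g⁻¹ A.P₁)) := by
              simp only [cj, Subgroup.map_map]; congr 1; ext x; simp [mul_assoc]
          _ = A.P₁ := by rw [h', hb2, h3]
  set H := normalizer (A.T : Set G) with hH
  haveI : (B.subgroupOf H).Normal := normal_subgroupOf_of_le_normalizer hBn
  obtain ⟨P⟩ : Nonempty (Sylow p ↥(B.subgroupOf H)) := inferInstance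
  have htop := Sylow.normalizer_sup_eq_top P
  obtain ⟨a, ha, b, hb, hab⟩ := Subgroup.mem_sup_of_normal_right.1 (htop ▸ mem_top (⟨s, hsT⟩ : ↥H))
  have haX : (a : G) ∉ A.X₁ := fun h => hs (by
    have := A.X₁.mul_mem h (mem_subgroupOf.1 hb).1
    rwa [show (a : G) * b = s from congrArg Subtype.val hab] at this)
  set P' : Subgroup G := ((P : Subgroup ↥(B.subgroupOf H)).map (B.subgroupOf H).subtype).map H.subtype
    with hP'
  have hP'B : P' ≤ B := by
    rintro _ ⟨_, ⟨y, -, rfl⟩, rfl⟩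
    exact mem_subgroupOf.1 y.2
  have hP'odd : ∀ y ∈ P', Odd (orderOf y) := by
    intro y hy
    obtain ⟨i, hi⟩ := ((P.2.map _).map _) ⟨y, hy⟩
    exact (hp2.pow (n := i)).of_dvd_nat (orderOf_dvd_of_pow_eq_one (congrArg Subtype.val hi))
  have hP'ne : P' ≠ ⊥ := by
    intro e
    rw [hP', Subgroup.map_eq_bot_iff_of_injective _ H.subtype_injective,
      Subgroup.map_eq_bot_iff_of_injective _ (B.subgroupOf H).subtype_injective] at e
    refine P.ne_bot_of_dvd_card ?_ e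
    rw [Nat.card_congr (subgroupOfEquivOfLe (inf_le_right : B ≤ H)).toEquiv]
    exact hpk.trans (Subgroup.orderOf_dvd_natCard B hkB)
  have haP' : (a : G) ∈ normalizer (P' : Set G) := by
    refine mem_normalizer_of_cj (Subgroup.eq_of_le_of_card_ge ?_ (card_cj _ _).ge)
    rintro _ ⟨_, ⟨y, hy, rfl⟩, rfl⟩
    exact ⟨a * y * a⁻¹, inv_mem_of_conj_mem ha hy, rfl⟩
  -- the 2-part
  obtain ⟨i, j, hj, hnj⟩ := Nat.exists_eq_two_pow_mul_odd (orderOf_pos (a : G)).ne'
  set n := (a : G) ^ j with hn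
  have hnT : n ∈ normalizer (A.T : Set G) := pow_mem a.2 j
  have hn2k : n ^ (2 ^ i) = 1 := by rw [hn, ← pow_mul, mul_comm, ← hnj, pow_orderOf_eq_one]
  have haa : (a : G) * a ∈ A.X₁ := by
    rcases A.norm_cases (mul_mem a.2 a.2 : (a : G) * a ∈ H) with h | h
    · exact h
    · exfalso
      have h1 := (A.norm_cases a.2).resolve_left haX
      have h2 : cj ((a : G) * a) A.P₁ = cj (a : G) A.P₂ := by
        rw [← h1]; simp only [cj, Subgroup.map_map]; congr 1; ext x; simp [mul_assoc]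
      exact A.ne (Subgroup.map_injective (MulAut.conj (a : G)).injective (h1.trans (h.symm.trans h2)))
  have hnX : n ∉ A.X₁ := by
    intro h
    obtain ⟨l, rfl⟩ := hj
    refine haX ?_
    have h1 : ((a : G) * a) ^ l ∈ A.X₁ := pow_mem haa l
    rw [hn, pow_succ, pow_mul, pow_two] at h
    exact (Subgroup.mul_mem_cancel_left _ h1).1 h
  have hnP' : n ∈ normalizer (P' : Set G) := pow_mem haP' j
  have hnn : n * n ∈ A.T := by
    refine A.hT₁.mem_of_normalizes ?_ (mul_mem hnT hnT) (k := i) ?_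
    · rw [hn, ← (Commute.refl (a : G)).mul_pow]
      exact pow_mem haa j
    · rw [← pow_two, ← pow_mul, mul_comm, pow_mul, hn2k, one_pow]
  obtain ⟨y, hy, hy1⟩ := P'.bot_or_exists_ne_one.resolve_left hP'ne
  have hyT : ∀ y ∈ P', ∀ t ∈ normalizer (A.T : Set G), t ∈ normalizer (P' : Set G) → t ∈ A.T →
      Commute y t := by
    intro y hy t htT htP ht
    have h1 : y * t * y⁻¹ * t⁻¹ ∈ A.T := A.T.mul_mem (inv_mem_of_conj_mem (hP'B hy).2 ht) (A.T.inv_mem ht)
    have h2 : y * (t * y⁻¹ * t⁻¹) ∈ P' := P'.mul_mem hy (inv_mem_of_conj_mem htP (P'.inv_mem hy))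
    rw [show y * (t * y⁻¹ * t⁻¹) = y * t * y⁻¹ * t⁻¹ by group] at h2
    exact mul_inv_eq_iff_eq_mul.1 (mul_inv_eq_one.1 (eq_one_of_mem_two A.hT₁.2.1 h1 (hP'odd _ h2)))
  have hn2 : n * n = 1 := by
    obtain ⟨k', hk'⟩ := pow_two_of_mem A.hT₁.2.1 hnn
    by_contra hne
    exact hy1 (hL.cit.eq_one_of_commute hne hk' (hP'odd y hy)
      (hyT y hy _ (mul_mem hnT hnT) (mul_mem hnP' hnP') hnn))
  have hord : orderOf n = 2 := orderOf_eq_prime (by rw [pow_two]; exact hn2)
    fun e => hnX (e ▸ one_mem _)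
  refine ⟨n, hord, hnT, hnX, ?_⟩
  by_contra hcon
  push Not at hcon
  set c := y⁻¹ * (n * y * n⁻¹) with hc
  have hcP : c ∈ P' := P'.mul_mem (P'.inv_mem hy) (inv_mem_of_conj_mem hnP' hy)
  obtain ⟨z₁, hz₁, hz₁2⟩ := A.exists_Z_invol
  have hyz : y * z₁ * y⁻¹ ∈ Z := A.side₁.conj_Z (hP'B hy).1 (hP'B hy).2 hz₁
  have hcz : c * z₁ * c⁻¹ = z₁ := by
    have h1 := hcon z₁ hz₁
    have h2 := hcon _ hyz
    calc c * z₁ * c⁻¹ = y⁻¹ * (n * (y * (n⁻¹ * z₁ * n) * y⁻¹) * n⁻¹) * y := by rw [hc]; group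
      _ = y⁻¹ * (n * (y * z₁ * y⁻¹) * n⁻¹) * y := by
          rw [show n⁻¹ * z₁ * n = z₁ by rw [mul_assoc, ← mul_inv_eq_iff_eq_mul.1 h1, inv_mul_cancel_left]]
      _ = z₁ := by rw [h2]; group
  have hc1 : c = 1 := hL.cit.eq_one_of_commute (H65.ne_one_of_orderOf hz₁2) (k := 1)
    (by rw [pow_one, ← hz₁2]; exact pow_orderOf_eq_one z₁) (hP'odd c hcP) (mul_inv_eq_iff_eq_mul.1 hcz)
  have hcomm : Commute y n := by
    have h1 : n * y * n⁻¹ = y := (inv_mul_eq_one.1 hc1).symm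
    exact (mul_inv_eq_iff_eq_mul.1 h1).symm
  exact hy1 (hL.cit.eq_one_of_commute (H65.ne_one_of_orderOf hord) (k := 1)
    (by rw [pow_one, pow_two]; exact hn2) (hP'odd y hy) hcomm)

include hL in
/-- For `q = 4` no 2-group properly contains `T`, when a normal subgroup containing `T` lies in all subgroups
of index 2. -/
theorem sylow_four_gen (hq : A.q = 4) {K : Subgroup G} [K.Normal] (hTK : A.T ≤ K)
    (hK : ∀ M : Subgroup G, M.Normal → M.index = 2 → K ≤ M) :
    ∀ U : Subgroup G, IsPGroup 2 ↥U → A.T ≤ U → U = A.T := by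
  classical
  haveI : Fact (Nat.Prime 2) := ⟨Nat.prime_two⟩
  intro U hU hTU
  by_contra hne
  set Z := A.P₁ ⊓ A.P₂ with hZ
  obtain ⟨s, ⟨hsU, hsT⟩, hsnot⟩ := SetLike.not_le_iff_exists.1
    (not_le_of_gt (exists_gt_in_normalizer hU hTU (Ne.symm hne)))
  have hsX : s ∉ A.X₁ := fun h => hsnot
    (A.hT₁.mem_of_normalizes h hsT (pow_two_of_mem hU hsU).choose_spec)
  obtain ⟨n, hn, hnT, hnX, z, hz, hnz⟩ := A.exists_swap_invol hL hq hsT hsX
  have hni := H65.inv_eq_self hn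
  have hnn := H65.mul_self_eq_one hn
  have hs1 : cj n A.P₁ = A.P₂ := (A.norm_cases hnT).resolve_left hnX
  have hs2 : cj n A.P₂ = A.P₁ := by have h := cj_inv n A.P₁; rwa [hni, hs1] at h
  set S := A.T ⊔ zpowers n with hS
  have hnot : n ∉ A.T := fun h => hnX (A.hT₁.1 h)
  have hS2 : IsPGroup 2 ↥S := by
    rw [hS, sup_comm]
    exact (isPGroup_zpowers (k := 1) (by rw [pow_one, ← hn]; exact pow_orderOf_eq_one n)).to_sup_of_normal_right'
      A.hT₁.2.1 (zpowers_le.2 hnT)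
  have hTS : A.T ≤ S := le_sup_left
  have hnS : n ∈ S := mem_sup_right (mem_zpowers n)
  have helts : ∀ e ∈ S, e ∈ A.T ∨ ∃ t ∈ A.T, e = t * n := by
    intro e he
    rw [hS, ← SetLike.mem_coe,
      Subgroup.coe_mul_of_right_le_normalizer_left _ _ (zpowers_le.2 hnT)] at he
    obtain ⟨t, ht, y, hy, rfl⟩ := he
    obtain ⟨i, rfl⟩ := mem_zpowers_iff.1 hy
    rcases Int.even_or_odd i with ⟨l, rfl⟩ | ⟨l, rfl⟩
    · left
      show t * n ^ (l + l) ∈ A.T
      rwa [zpow_add, ← (Commute.refl n).mul_zpow, hnn, one_zpow, mul_one]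
    · right
      refine ⟨t, ht, ?_⟩
      show t * n ^ (2 * l + 1) = t * n
      rw [zpow_add, zpow_mul, zpow_two, hnn, one_zpow, one_mul, zpow_one]
  have hidx : (A.T.subgroupOf S).index = 2 := by
    refine Subgroup.index_eq_two_iff.2 ⟨⟨n, hnS⟩, fun b => ?_⟩
    rcases helts b b.2 with h | ⟨t, ht, hb⟩
    · refine Or.inr ⟨mem_subgroupOf.2 h, fun h' => hnot ?_⟩
      exact (Subgroup.mul_mem_cancel_left _ h).1 (mem_subgroupOf.1 h')
    · refine Or.inl ⟨mem_subgroupOf.2 ?_, fun h' => hnot ?_⟩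
      · show (b : G) * n ∈ A.T
        rwa [hb, mul_assoc, hnn, mul_one]
      · have := (mem_subgroupOf.1 h' : (b : G) ∈ A.T)
        rw [hb] at this
        exact (Subgroup.mul_mem_cancel_left _ ht).1 this
  have hEle : ∀ E : Subgroup G, Ex2 E → E ≤ S → Nat.card ↥E = A.q ^ 2 → E ≤ A.T := fun E hE hES hc =>
    A.elem_le hs1 hs2 hE (fun e he => helts e (hES he)) (by rw [hc, hq]; norm_num)
  -- `S` is a Sylow subgroup
  have hsyl : ∀ V : Subgroup G, IsPGroup 2 ↥V → S ≤ V → V = S := by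
    intro V hV hSV
    by_contra hVS
    obtain ⟨g, ⟨hgV, hgS⟩, hgnot⟩ := SetLike.not_le_iff_exists.1
      (not_le_of_gt (exists_gt_in_normalizer hV hSV (Ne.symm hVS)))
    have h1 : ∀ P : Subgroup G, Ex2 P → P ≤ A.T → Nat.card ↥P = A.q ^ 2 → cj g P ≤ A.T :=
      fun P hP hPT hc => hEle _ (hP.map g) ((cj_le (hPT.trans hTS)).trans (cj_eq_of_mem hgS).le)
        (by rw [card_cj, hc])
    have hgT : g ∈ normalizer (A.T : Set G) := by
      refine mem_normalizer_of_cj (Subgroup.eq_of_le_of_card_ge ?_ (card_cj g A.T).ge)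
      rw [← A.sup_eq, cj, Subgroup.map_sup, A.sup_eq]
      exact sup_le (h1 _ A.ex₁ A.le₁ A.cardP₁) (h1 _ A.ex₂ A.le₂ A.cardP₂)
    refine hgnot ?_
    rcases A.norm_cases hgT with h | h
    · exact hTS (A.hT₁.mem_of_normalizes h hgT (pow_two_of_mem hV hgV).choose_spec)
    · have h2 : g * n ∈ normalizer (A.T : Set G) := mul_mem hgT hnT
      have h3 : g * n ∈ A.X₁ := by
        rcases A.norm_cases h2 with h4 | h4
        · exact h4
        · exfalso
          have e : cj (g * n) A.P₁ = cj g A.P₂ := by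
            rw [← hs1]; simp only [cj, Subgroup.map_map]; congr 1; ext x; simp [mul_assoc]
          exact A.ne (Subgroup.map_injective (MulAut.conj g).injective (h.trans (h4.symm.trans e)))
      have h5 := hTS (A.hT₁.mem_of_normalizes h3 h2
        (pow_two_of_mem hV (V.mul_mem hgV (hSV hnS))).choose_spec)
      exact (Subgroup.mul_mem_cancel_right _ hnS).1 h5
  let S' : Sylow 2 G := ⟨S, hS2, fun {V} hV hle => hsyl V hV hle⟩
  -- the fixed point `c` of `n` in `Z`
  have hnZ : ∀ y ∈ Z, n * y * n⁻¹ ∈ Z := fun y hy =>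
    ⟨hs2 ▸ conj_mem_cj hy.2, hs1 ▸ conj_mem_cj hy.1⟩
  have hexZ : Ex2 Z := A.ex₁.mono inf_le_left
  set z' := n * z * n⁻¹ with hz'
  set c := z * z' with hc
  have hz'Z : z' ∈ Z := hnZ z hz
  have hcZ : c ∈ Z := Z.mul_mem hz hz'Z
  have hc1 : c ≠ 1 := fun e => hnz ((eq_inv_of_mul_eq_one_right e).trans (hexZ.inv hz))
  have hnz' : n * z' * n⁻¹ = z := by
    rw [hz', show n * (n * z * n⁻¹) * n⁻¹ = (n * n) * z * (n * n)⁻¹ by group, hnn, one_mul, inv_one,
      mul_one]
  have hnc : n * c * n⁻¹ = c := by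
    rw [hc, show n * (z * z') * n⁻¹ = (n * z * n⁻¹) * (n * z' * n⁻¹) by group, hnz', ← hz']
    exact (hexZ.commute hz'Z hz).eq
  have hz1 : z ≠ 1 := fun e => hnz (by rw [hz', e]; group)
  have hfixed : ∀ y ∈ Z, n * y * n⁻¹ = y → y = 1 ∨ y = c := by
    have hsub : ({1, z, z', c} : Set G) ⊆ (Z : Set G) := by
      rintro y (rfl | rfl | rfl | rfl)
      exacts [Z.one_mem, hz, hz'Z, hcZ]
    have hcard : ({1, z, z', c} : Set G).ncard = 4 := by
      have hz'1 : z' ≠ 1 := fun e => hz1 (by rw [← hnz', e, mul_one, mul_inv_cancel])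
      have hcz : c ≠ z := fun e => hz'1 (mul_left_cancel (e.trans (mul_one z).symm))
      have hcz' : c ≠ z' := fun e => hz1 (mul_right_cancel (e.trans (one_mul z').symm))
      rw [Set.ncard_eq_four]
      exact ⟨1, z, z', c, hz1.symm, hz'1.symm, hc1.symm, fun e => hnz e.symm, hcz.symm, hcz'.symm, rfl⟩
    intro y hy hfix
    have heq : ({1, z, z', c} : Set G) = (Z : Set G) := Set.eq_of_subset_of_ncard_le hsub (by
      rw [hcard, ← Nat.card_coe_set_eq]
      exact le_of_eq (A.cardZ.trans hq))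
    have hy' : y ∈ ({1, z, z', c} : Set G) := heq ▸ hy
    rcases hy' with rfl | rfl | rfl | rfl
    · exact Or.inl rfl
    · exact absurd hfix hnz
    · exact absurd (hnz'.symm.trans hfix) (fun e => hnz e.symm)
    · exact Or.inr rfl
  -- `c` is a square in `T ∩ C(n)`
  obtain ⟨w, hwT, hwn, hwc⟩ : ∃ w ∈ A.T, Commute w n ∧ w * w = c := by
    obtain ⟨a, ha, haZ⟩ : ∃ a ∈ A.P₁, a ∉ Z := SetLike.not_le_iff_exists.1 fun h => by
      have := Subgroup.card_le_of_le h
      rw [A.cardP₁, A.cardZ, hq] at this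
      norm_num at this
    set a' := n * a * n⁻¹ with ha'
    have ha'P : a' ∈ A.P₂ := hs1 ▸ conj_mem_cj ha
    have hna' : n * a' * n⁻¹ = a := by
      rw [ha', show n * (n * a * n⁻¹) * n⁻¹ = (n * n) * a * (n * n)⁻¹ by group, hnn, one_mul, inv_one,
        mul_one]
    set d := (a * a') * (a * a') with hd
    have hdZ : d ∈ Z := by
      have h1 := A.side₂.comm_mem (A.le₁ ha) ha'P
      rwa [A.ex₁.inv ha, show a * a' * a * a' = d by rw [hd]; group] at h1
    have hai := A.ex₁.inv ha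
    have ha'i := A.ex₂.inv ha'P
    have hnd : n * d * n⁻¹ = d := by
      calc n * d * n⁻¹ = ((n * a * n⁻¹) * (n * a' * n⁻¹)) * ((n * a * n⁻¹) * (n * a' * n⁻¹)) := by
            rw [hd]; group
        _ = (a' * a) * (a' * a) := by rw [← ha', hna']
        _ = d⁻¹ := by rw [hd]; simp [mul_assoc, hai, ha'i]
        _ = d := hexZ.inv hdZ
    have hd1 : d ≠ 1 := by
      intro e
      rcases A.invol_mem (A.T.mul_mem (A.le₁ ha) (A.le₂ ha'P)) e with h | h
      · have h2 : a' ∈ A.P₁ := by simpa using A.P₁.mul_mem (A.P₁.inv_mem ha) h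
        have h3 : n * a' * n⁻¹ ∈ A.P₂ := hs1 ▸ conj_mem_cj h2
        rw [hna'] at h3
        exact haZ ⟨ha, h3⟩
      · exact haZ ⟨ha, by simpa using A.P₂.mul_mem h (A.P₂.inv_mem ha'P)⟩
    have hdc : d = c := (hfixed d hdZ hnd).resolve_left hd1
    have hzT : z ∈ A.T := A.le₁ hz.1
    refine ⟨a * a' * z, A.T.mul_mem (A.T.mul_mem (A.le₁ ha) (A.le₂ ha'P)) hzT, ?_, ?_⟩
    · have h1 : n * (a * a' * z) * n⁻¹ = a * a' * z := by
        have h3 : a' * a = a * a' * d := by
          rw [← hexZ.inv hdZ, hd]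
          have h4 : ∀ x, a * (a * x) = x := fun x => by rw [← mul_assoc, A.ex₁ a ha, one_mul]
          have h5 : ∀ x, a' * (a' * x) = x := fun x => by rw [← mul_assoc, A.ex₂ a' ha'P, one_mul]
          simp [mul_assoc, hai, ha'i, h4, h5]
        calc n * (a * a' * z) * n⁻¹ = (n * a * n⁻¹) * (n * a' * n⁻¹) * z' := by rw [hz']; group
          _ = a' * a * z' := by rw [← ha', hna']
          _ = a * a' * (c * z') := by rw [h3, hdc, mul_assoc]
          _ = a * a' * z := by rw [hc, mul_assoc z, hexZ _ hz'Z, mul_one]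
      exact (mul_inv_eq_iff_eq_mul.1 h1).symm
    · have hcm := A.commute_Z hz (A.T.mul_mem (A.le₁ ha) (A.le₂ ha'P))
      calc a * a' * z * (a * a' * z) = (a * a') * (z * (a * a')) * z := by group
        _ = (a * a') * ((a * a') * z) * z := by rw [hcm.eq]
        _ = d * (z * z) := by rw [hd]; group
        _ = c := by rw [hexZ z hz, mul_one, hdc]
  -- transfer
  have htr : ∃ g : G, g * n * g⁻¹ ∈ A.T := by
    rcases S0111.result S' A.T hTS (by
      rw [Subgroup.relIndex]; exact hidx) n hn hnS hnot with ⟨M, hM, hMi, hnM⟩ | h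
    · exfalso
      -- `n` is then an involution outside `K`
      have hnK : n ∉ K := fun h => hnM (hK M hM hMi h)
      have hcK : c ∈ K := hTK (A.le₁ hcZ.1)
      have hcc : orderOf c = 2 := orderOf_eq_prime (by rw [pow_two]; exact hexZ c hcZ) hc1
      have hCc : centralizer ({c} : Set G) = S :=
        hsyl _ (hL.cit c hcc) (sup_le (fun t ht => mem_cent.2 (A.commute_Z hcZ ht))
          (zpowers_le.2 (mem_cent.2 (mul_inv_eq_iff_eq_mul.1 hnc))))
      have hKS : ∀ x ∈ K, x ∈ S → x ∈ A.T := fun x hxK hxS =>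
        (helts x hxS).elim id fun ⟨t, ht, e⟩ =>
          absurd ((Subgroup.mul_mem_cancel_left _ (hTK ht)).1 (e ▸ hxK)) hnK
      have hnc' : Commute n c := mul_inv_eq_iff_eq_mul.1 hnc
      have hswap : ∀ m : G, Commute m c → m ∈ S → (∀ y ∈ A.P₁, m * y * m⁻¹ ∈ A.P₂) →
          (∀ y ∈ A.P₂, m * y * m⁻¹ ∈ A.P₁) → (∀ y ∈ Z, Commute y m → y = 1 ∨ y = c) →
          ∀ x ∈ K, x * x = 1 → Commute x m → x = 1 ∨ x = c := by
        intro m hmc hmS h12 h21 hfix
        set D := K ⊓ centralizer ({m} : Set G) with hD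
        have hm1 : m ≠ 1 := by
          rintro rfl
          obtain ⟨a, ha, haP⟩ := SetLike.not_le_iff_exists.1 (fun h : A.P₁ ≤ A.P₂ =>
            A.ne (Subgroup.eq_of_le_of_card_ge h (by rw [A.cardP₁, A.cardP₂])))
          exact haP (by simpa using h12 a ha)
        have hcase : ∀ y ∈ D, y * y = 1 → Commute y c → y = 1 ∨ y = c := by
          intro y hy hy2 hyc
          have hyT : y ∈ A.T := hKS y hy.1 (hCc ▸ mem_cent.2 hyc)
          have hym : m * y * m⁻¹ = y :=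
            mul_inv_eq_iff_eq_mul.2 (mem_cent.1 hy.2).symm.eq
          rcases A.invol_mem hyT hy2 with h | h
          · exact hfix y ⟨h, hym ▸ h12 y h⟩ (mem_cent.1 hy.2)
          · exact hfix y ⟨hym ▸ h21 y h, h⟩ (mem_cent.1 hy.2)
        obtain ⟨k, hk⟩ := pow_two_of_mem hS2 hmS
        have hD2 : IsPGroup 2 ↥D := (hL.cit.isPGroup_centralizer hm1 hk).to_le inf_le_right
        have hcD : c ∈ D := ⟨hcK, mem_cent.2 hmc.symm⟩
        haveI : Nontrivial ↥D :=
          (Subgroup.nontrivial_iff_ne_bot _).2 fun e => hc1 (by rwa [e, Subgroup.mem_bot] at hcD)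
        haveI : Fact (Nat.Prime 2) := ⟨Nat.prime_two⟩
        obtain ⟨z₁, -, hz₁c, hz₁⟩ := PGroups.exists_mem_center_orderOf_eq hD2
          (⊤ : Subgroup ↥D) top_ne_bot
        have hz₁o : orderOf (z₁ : G) = 2 := by rw [Subgroup.orderOf_coe, hz₁]
        have hz₁D : ∀ y ∈ D, Commute (z₁ : G) y := fun y hy =>
          (congrArg Subtype.val (mem_center_iff.1 hz₁c ⟨y, hy⟩)).symm
        have hz₁e : (z₁ : G) = c := (hcase _ z₁.2 (H65.mul_self_eq_one hz₁o)
          (hz₁D c hcD)).resolve_left (H65.ne_one_of_orderOf hz₁o)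
        intro x hxK hx2 hxm
        exact hcase x ⟨hxK, mem_cent.2 hxm⟩ hx2 (hz₁e ▸ (hz₁D x ⟨hxK, mem_cent.2 hxm⟩).symm)
      refine no_outside hL.cit hL.core hnn hnK hcK (hexZ c hcZ) hc1 hnc' ?_ ?_
      · refine hswap n hnc' hnS (fun y hy => hs1 ▸ conj_mem_cj hy) (fun y hy => hs2 ▸ conj_mem_cj hy)
          fun y hy hyn => hfixed y hy (mul_inv_eq_iff_eq_mul.2 hyn.symm.eq)
      · have hconj : ∀ y ∈ A.T, n * c * y * (n * c)⁻¹ = n * y * n⁻¹ := fun y hy => by
          rw [mul_inv_rev, show n * c * y * (c⁻¹ * n⁻¹) = n * (c * y * c⁻¹) * n⁻¹ by group,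
            (A.commute_Z hcZ hy).symm.eq, mul_inv_cancel_right]
        refine hswap (n * c) (hnc'.mul_left (Commute.refl c)) (S.mul_mem hnS (hTS (A.le₁ hcZ.1)))
          (fun y hy => ?_) (fun y hy => ?_) fun y hy hym => ?_
        · rw [hconj y (A.le₁ hy)]
          exact hs1 ▸ conj_mem_cj hy
        · rw [hconj y (A.le₂ hy)]
          exact hs2 ▸ conj_mem_cj hy
        · exact hfixed y hy ((hconj y (A.le₁ hy.1)).symm.trans (mul_inv_eq_iff_eq_mul.2 hym.symm.eq))
    · exact h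
  obtain ⟨g₀, hg₀⟩ := htr
  obtain ⟨g, hgZ⟩ : ∃ g : G, g * n * g⁻¹ ∈ Z := by
    have h2 : (g₀ * n * g₀⁻¹) * (g₀ * n * g₀⁻¹) = 1 := by
      rw [show (g₀ * n * g₀⁻¹) * (g₀ * n * g₀⁻¹) = g₀ * (n * n) * g₀⁻¹ by group, hnn, mul_one,
        mul_inv_cancel]
    rcases A.invol_mem hg₀ h2 with h | h
    · obtain ⟨x, -, hx⟩ := A.exists_conj_Z hL h
      exact ⟨x * g₀, by rwa [show x * g₀ * n * (x * g₀)⁻¹ = x * (g₀ * n * g₀⁻¹) * x⁻¹ by group]⟩
    · obtain ⟨x, -, hx⟩ := A.swap.exists_conj_Z hL h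
      exact ⟨x * g₀, by
        rw [show x * g₀ * n * (x * g₀)⁻¹ = x * (g₀ * n * g₀⁻¹) * x⁻¹ by group]
        exact ⟨hx.2, hx.1⟩⟩
  set v := g * c * g⁻¹ with hv
  set w' := g * w * g⁻¹ with hw'
  set zn := g * n * g⁻¹ with hzn
  have hzn1 : orderOf zn = 2 := (H65.orderOf_conj' g n).trans hn
  have hvT : v ∈ A.T := by
    have hC2 := hL.cit zn hzn1
    obtain ⟨V, hV⟩ := hC2.exists_le_sylow
    have hTV : A.T ≤ centralizer ({zn} : Set G) := fun t ht => mem_cent.2 (A.commute_Z hgZ ht)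
    have hwV : w' ∈ centralizer ({zn} : Set G) := mem_cent.2 (hwn.map (MulAut.conj g).toMonoidHom)
    have hcV : Nat.card ↥(V : Subgroup G) = 2 * Nat.card ↥A.T := by
      have h1 := (A.T.subgroupOf S).card_mul_index
      rw [hidx, Nat.card_congr (subgroupOfEquivOfLe hTS).toEquiv] at h1
      rw [Sylow.card_eq_multiplicity V, ← Sylow.card_eq_multiplicity S']
      show Nat.card ↥S = _
      omega
    have hidx' : (A.T.subgroupOf (V : Subgroup G)).index = 2 := by
      have h1 := (A.T.subgroupOf (V : Subgroup G)).card_mul_index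
      rw [Nat.card_congr (subgroupOfEquivOfLe (hTV.trans hV)).toEquiv, hcV, mul_comm 2] at h1
      exact Nat.eq_of_mul_eq_mul_left Nat.card_pos h1
    have h2 := Subgroup.mul_self_mem_of_index_two hidx' ⟨w', hV hwV⟩
    have h3 : w' * w' ∈ A.T := mem_subgroupOf.1 h2
    rwa [hw', show g * w * g⁻¹ * (g * w * g⁻¹) = g * (w * w) * g⁻¹ by group, hwc] at h3
  have hvv : v * v = 1 := by
    rw [hv, show g * c * g⁻¹ * (g * c * g⁻¹) = g * (c * c) * g⁻¹ by group, hexZ c hcZ, mul_one,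
      mul_inv_cancel]
  obtain ⟨P, hP, hcP, hPT, hvP, hzP⟩ : ∃ P : Subgroup G, Ex2 P ∧ Nat.card ↥P = A.q ^ 2 ∧ P ≤ A.T ∧
      v ∈ P ∧ zn ∈ P := by
    rcases A.invol_mem hvT hvv with h | h
    · exact ⟨A.P₁, A.ex₁, A.cardP₁, A.le₁, h, hgZ.1⟩
    · exact ⟨A.P₂, A.ex₂, A.cardP₂, A.le₂, h, hgZ.2⟩
  have hcc : orderOf c = 2 := orderOf_eq_prime (by rw [pow_two]; exact hexZ c hcZ) hc1
  have hC : centralizer ({c} : Set G) = S := by
    refine hsyl _ (hL.cit c hcc) (sup_le (fun t ht => mem_cent.2 (A.commute_Z hcZ ht))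
      (zpowers_le.2 (mem_cent.2 (mul_inv_eq_iff_eq_mul.1 hnc))))
  set E := cj g⁻¹ P with hE
  have hnE : n ∈ E := mem_cj.2 (by rw [inv_inv]; exact hzP)
  have hcE : c ∈ E := mem_cj.2 (by rw [inv_inv]; exact hvP)
  have hES : E ≤ S := hC ▸ fun e he => mem_cent.2 ((hP.map g⁻¹).commute he hcE)
  exact hnot (hEle E (hP.map g⁻¹) hES (by rw [hE, card_cj, hcP]) hnE)

include hL in
/-- For `q = 4` no 2-group properly contains `T`. -/
theorem sylow_four [IsSimpleGroup G] (hna : ∃ a b : G, a * b ≠ b * a) (hq : A.q = 4) :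
    ∀ U : Subgroup G, IsPGroup 2 ↥U → A.T ≤ U → U = A.T := by
  refine A.sylow_four_gen hL hq (K := ⊤) le_top fun M hM hMi => ?_
  rcases hM.eq_bot_or_eq_top with h | h
  · rw [h, Subgroup.index_bot] at hMi
    haveI : Fact (Nat.Prime 2) := ⟨Nat.prime_two⟩
    obtain ⟨a, b, hab⟩ := hna
    haveI := isCyclic_of_prime_card (α := G) hMi
    letI := IsCyclic.commGroup (α := G)
    exact absurd (mul_comm a b) hab
  · exact h.ge

end Amalgam

end Cfsg.Agent.H65.CIT
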