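import Cfsg.Agent.H65.CIT.SzRep

/-!
An equivariant bilinear map between modules of a Suzuki group on which the elements of odd order fix only zero
is zero.
-/

set_option autoImplicit false
set_option linter.unusedSectionVars false
set_option linter.style.haveILetI false
set_option linter.dupNamespace false

namespace Cfsg.Agent.H65.CIT.SzRep

open Cfsg Matrix MulAction Cfsg.Agent.Suzuki
open scoped Classical

universe u v

/-! ### Exponents modulo `2 ^ (2m+1) - 1` -/

section expo

variable (m : ℕ) (hm : 1 ≤ m)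

/-- The exponents. -/
abbrev Ex : Type := ZMod (2 ^ (2 * m + 1) - 1)

theorem Ex.pow_n : (2 : Ex m) ^ (2 * m + 1) = 1 := by
  have h : ((2 ^ (2 * m + 1) - 1 : ℕ) : Ex m) = 0 := ZMod.natCast_self _
  rw [Nat.cast_sub Nat.one_le_two_pow, Nat.cast_pow, Nat.cast_two, Nat.cast_one, sub_eq_zero] at h
  exact h

theorem Ex.pow_mod (l : ℕ) : (2 : Ex m) ^ l = (2 : Ex m) ^ (l % (2 * m + 1)) := by
  conv_lhs => rw [← Nat.div_add_mod l (2 * m + 1), pow_add, pow_mul, Ex.pow_n, one_pow, one_mul]

theorem Ex.eq_of_natCast {a b : ℕ} (ha : a < 2 ^ (2 * m + 1) - 1) (hb : b < 2 ^ (2 * m + 1) - 1)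
    (h : (a : Ex m) = (b : Ex m)) : a = b := by
  have := congrArg ZMod.val h
  rwa [ZMod.val_natCast_of_lt ha, ZMod.val_natCast_of_lt hb] at this

include hm in
theorem Ex.bounds : 4 ≤ 2 ^ (m + 1) ∧ 2 * 2 ^ (m + 1) ≤ 2 ^ (2 * m + 1) := by
  constructor
  · calc (4 : ℕ) = 2 ^ 2 := rfl
      _ ≤ 2 ^ (m + 1) := Nat.pow_le_pow_right (by norm_num) (by omega)
  · rw [← pow_succ']
    exact Nat.pow_le_pow_right (by norm_num) (by omega)

include hm in
/-- `2 ^ l + θ ≠ 2`. -/
theorem Ex.pow_add_theta (l : ℕ) : (2 : Ex m) ^ l + 2 ^ (m + 1) ≠ 2 := by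
  intro h
  rw [Ex.pow_mod] at h
  obtain ⟨h4, h2⟩ := Ex.bounds m hm
  set r := l % (2 * m + 1)
  have hr : 2 * 2 ^ r ≤ 2 ^ (2 * m + 1) := by
    rw [← pow_succ']
    exact Nat.pow_le_pow_right (by norm_num) (Nat.mod_lt _ (by omega))
  have hr1 : 1 ≤ 2 ^ r := Nat.one_le_two_pow
  have h' : ((2 ^ r + 2 ^ (m + 1) - 2 : ℕ) : Ex m) = ((0 : ℕ) : Ex m) := by
    rw [Nat.cast_sub (by omega), Nat.cast_add, Nat.cast_pow, Nat.cast_pow, Nat.cast_two, Nat.cast_zero,
      sub_eq_zero]
    exact h
  have := Ex.eq_of_natCast m (by omega) (by omega) h'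
  omega

include hm in
/-- `1 + 2 ^ l` is a power of two only for `2 ^ l = 1`. -/
theorem Ex.one_add_pow {l l' : ℕ} (h : (1 : Ex m) + 2 ^ l = 2 ^ l') : (2 : Ex m) ^ l = 1 := by
  rw [Ex.pow_mod m l, Ex.pow_mod m l'] at h
  rw [Ex.pow_mod]
  obtain ⟨h4, h2⟩ := Ex.bounds m hm
  set r := l % (2 * m + 1)
  set r' := l' % (2 * m + 1)
  have hr : 2 * 2 ^ r ≤ 2 ^ (2 * m + 1) := by
    rw [← pow_succ']
    exact Nat.pow_le_pow_right (by norm_num) (Nat.mod_lt _ (by omega))
  have hr' : 2 * 2 ^ r' ≤ 2 ^ (2 * m + 1) := by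
    rw [← pow_succ']
    exact Nat.pow_le_pow_right (by norm_num) (Nat.mod_lt _ (by omega))
  have h' : ((1 + 2 ^ r : ℕ) : Ex m) = ((2 ^ r' : ℕ) : Ex m) := by push_cast; exact h
  have h'' := Ex.eq_of_natCast m (by omega) (by omega) h'
  rcases Nat.eq_zero_or_pos r with hr0 | hr0
  · rw [hr0, pow_zero]
  · exfalso
    have he : Even (2 ^ r) := Nat.even_pow.2 ⟨even_two, hr0.ne'⟩
    rcases Nat.eq_zero_or_pos r' with h0 | h0
    · rw [h0, pow_zero] at h''
      have := Nat.one_le_two_pow (n := r)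
      omega
    · have he' : Even (2 ^ r') := Nat.even_pow.2 ⟨even_two, h0.ne'⟩
      obtain ⟨a, ha⟩ := he
      obtain ⟨b, hb⟩ := he'
      omega

include hm in
theorem Ex.theta_facts : (2 : Ex m) ≠ 0 ∧ (2 : Ex m) ^ (m + 1) ≠ 0 ∧ (2 : Ex m) ^ (m + 1) ≠ 1 ∧
    (2 : Ex m) ^ (m + 1) ≠ 2 := by
  obtain ⟨h4, h2⟩ := Ex.bounds m hm
  have hne : ∀ {a b : ℕ}, a < 2 ^ (2 * m + 1) - 1 → b < 2 ^ (2 * m + 1) - 1 → a ≠ b →
      (a : Ex m) ≠ (b : Ex m) := fun ha hb hab h => hab (Ex.eq_of_natCast m ha hb h)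
  refine ⟨?_, ?_, ?_, ?_⟩
  · have := hne (a := 2) (b := 0) (by omega) (by omega) (by omega)
    simpa using this
  · have := hne (a := 2 ^ (m + 1)) (b := 0) (by omega) (by omega) (by omega)
    simpa using this
  · have := hne (a := 2 ^ (m + 1)) (b := 1) (by omega) (by omega) (by omega)
    simpa using this
  · have := hne (a := 2 ^ (m + 1)) (b := 2) (by omega) (by omega) (by omega)
    simpa using this

theorem Ex.two_unit : IsUnit (2 : Ex m) := by
  refine IsUnit.of_mul_eq_one ((2 : Ex m) ^ (2 * m)) ?_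
  rw [← pow_succ', Ex.pow_n]

theorem Ex.theta_sq : (2 : Ex m) ^ (m + 1) * (2 : Ex m) ^ (m + 1) = 2 := by
  rw [← pow_add, show m + 1 + (m + 1) = (2 * m + 1) + 1 by omega, pow_succ, Ex.pow_n, one_mul]

end expo

variable {F : Type u} [Field F] [Fintype F] {m : ℕ} [hS : SzField F m]
include hS

set_option quotPrecheck false in
set_option hygiene false in
local notation "G₀" => ↥(Cfsg.Sz F m)

/-- The powers of units with exponents modulo `q - 1`. -/
noncomputable def pw (e : Ex m) : Fˣ →* F := (powMonoidHom e.val).comp (Units.coeHom F)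

theorem units_pow_card (s : Fˣ) : (s : F) ^ (2 ^ (2 * m + 1) - 1) = 1 := by
  rw [← hS.card_eq]
  exact FiniteField.pow_card_sub_one_eq_one _ s.ne_zero

theorem pw_natCast (k : ℕ) (s : Fˣ) : pw (F := F) (k : Ex m) s = (s : F) ^ k := by
  show (s : F) ^ (k : Ex m).val = _
  rw [ZMod.val_natCast]
  conv_rhs => rw [← Nat.div_add_mod k (2 ^ (2 * m + 1) - 1), pow_add, pow_mul, units_pow_card, one_pow, one_mul]

theorem pw_add (e f : Ex m) (s : Fˣ) : pw (e + f) s = pw (F := F) e s * pw f s := by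
  haveI : NeZero (2 ^ (2 * m + 1) - 1) := ⟨by have := Nat.pow_le_pow_right (show 1 ≤ 2 by norm_num) (show 1 ≤ 2 * m + 1 by omega); omega⟩
  rw [← ZMod.natCast_zmod_val e, ← ZMod.natCast_zmod_val f, ← Nat.cast_add, pw_natCast, pw_natCast, pw_natCast,
    pow_add]

theorem pw_neg (e : Ex m) (s : Fˣ) : pw (-e) s = (pw (F := F) e s)⁻¹ := by
  refine eq_inv_of_mul_eq_one_left ?_
  rw [← pw_add, neg_add_cancel, ← Nat.cast_zero, pw_natCast, pow_zero]

theorem pw_injective {e f : Ex m} (h : ∀ s : Fˣ, pw (F := F) e s = pw f s) : e = f := by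
  haveI : NeZero (2 ^ (2 * m + 1) - 1) := ⟨by have := Nat.pow_le_pow_right (show 1 ≤ 2 by norm_num) (show 1 ≤ 2 * m + 1 by omega); omega⟩
  obtain ⟨g, hg⟩ := IsCyclic.exists_generator (α := Fˣ)
  have ho : orderOf g = 2 ^ (2 * m + 1) - 1 := by
    rw [orderOf_eq_card_of_forall_mem_zpowers hg, Nat.card_eq_fintype_card, Fintype.card_units, hS.card_eq]
  have h1 : g ^ e.val = g ^ f.val := Units.ext (by rw [Units.val_pow_eq_pow_val, Units.val_pow_eq_pow_val]; exact h g)
  rw [pow_eq_pow_iff_modEq, ho] at h1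
  exact ZMod.val_injective _ (Nat.ModEq.eq_of_lt_of_lt h1 (ZMod.val_lt e) (ZMod.val_lt f))

/-- The exponents of the diagonal of the torus, divided by that at infinity. -/
def wts (m : ℕ) : Fin 4 → Ex m := ![1, 2 ^ (m + 1) - 1, 1 - 2 ^ (m + 1), -1]

theorem aH_eq_pw (s : Fˣ) : aH m s = pw (F := F) ((2 : Ex m) ^ (m + 1) + 1) s := by
  rw [show (2 : Ex m) ^ (m + 1) + 1 = ((2 ^ (m + 1) + 1 : ℕ) : Ex m) by push_cast; rfl, pw_natCast,
    pow_succ]
  show (s : F) * th m (s : F) = _
  rw [th_def, mul_comm]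

theorem diag_eq_pw (k : Fin 4) (s : Fˣ) :
    tMat m s k k = pw (F := F) (((2 : Ex m) ^ (m + 1) + 1) * wts m k) s := by
  have h1 : ((2 : Ex m) ^ (m + 1) + 1) * (2 ^ (m + 1) - 1) = ((1 : ℕ) : Ex m) := by
    push_cast
    linear_combination Ex.theta_sq m
  have h2 : pw (F := F) (((1 : ℕ) : Ex m)) s = (s : F) := by rw [pw_natCast, pow_one]
  have h3 : pw (F := F) ((2 : Ex m) ^ (m + 1) + 1) s = (s : F) * th m (s : F) := (aH_eq_pw s).symm
  fin_cases k
  · simp [tMat, wts, h3]
  · simp [tMat, wts, h1]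
    exact (by simpa using h2.symm)
  · have h4 : ((2 : Ex m) ^ (m + 1) + 1) * (1 - 2 ^ (m + 1)) = -((1 : ℕ) : Ex m) := by
      push_cast
      linear_combination -Ex.theta_sq m
    simp [tMat, wts, h4, pw_neg]
    exact (by simpa using h2.symm)
  · show tMat m s 3 3 = pw (F := F) (_ * wts m 3) s
    rw [show wts m 3 = -1 from rfl, mul_neg_one, pw_neg, h3]
    simp [tMat, mul_comm]

section sub

variable {M : Type v} [AddCommGroup M] [Module F M] {ρ : Representation F G₀ M}

/-- Fixing only zero passes to quotients of finite modules. -/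
theorem exists_quot [Finite M] (hρ : Fpf m ρ) (I : Submodule F M) (hI : ∀ g, ∀ y ∈ I, ρ g y ∈ I) :
    ∃ ρ' : Representation F G₀ (M ⧸ I), Fpf m ρ' ∧ ∀ g y, ρ' g (I.mkQ y) = I.mkQ (ρ g y) := by
  refine ⟨{ toFun := fun g => I.mapQ I (ρ g) fun y hy => hI g y hy
            map_one' := Submodule.linearMap_qext I (LinearMap.ext fun y => by simp)
            map_mul' := fun g h => Submodule.linearMap_qext I (LinearMap.ext fun y => by simp) },
    fun g y hg hg1 hy => ?_, fun g y => rfl⟩
  obtain ⟨a, rfl⟩ := I.mkQ_surjective y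
  let f : ↥I →ₗ[F] ↥I :=
    { toFun := fun z => ⟨ρ g z - z, I.sub_mem (hI g z z.2) z.2⟩
      map_add' := fun z z' => Subtype.ext (by simp; abel)
      map_smul' := fun c z => Subtype.ext (by simp [smul_sub]) }
  have hf : Function.Injective f := by
    rw [injective_iff_map_eq_zero]
    intro z hz
    exact Subtype.ext (hρ g z hg hg1 (sub_eq_zero.1 (congrArg Subtype.val hz)))
  have hmem : ρ g a - a ∈ I := (Submodule.Quotient.eq I).1 hy
  obtain ⟨z, hz⟩ := Finite.injective_iff_surjective.1 hf ⟨_, hmem⟩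
  have hz' : ρ g (z : M) - z = ρ g a - a := congrArg Subtype.val hz
  have h1 : a - z = 0 := hρ g _ hg hg1 (by rw [map_sub]; linear_combination (norm := abel) -hz')
  rw [sub_eq_zero.1 h1]
  exact (Submodule.Quotient.mk_eq_zero I).2 z.2

/-- The invariant submodules are the trivial ones. -/
def Irr (ρ : Representation F G₀ M) : Prop :=
  ∀ I : Submodule F M, (∀ g, ∀ y ∈ I, ρ g y ∈ I) → I = ⊥ ∨ I = ⊤

variable {K : ℕ} {x : M}

theorem High.decomp_big (h : High m ρ K x) {g : G₀} (hg : cc m g ≠ 0) :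
    ∃ a b : F, ρ g x = cc m g ^ K • ρ (u m a b) (ρ (w m) x) := by
  rcases bruhat m g with ⟨a, b, s, rfl⟩ | ⟨a, b, s, c, d, rfl⟩
  · exact absurd (cc_u_t m a b s) hg
  · exact ⟨a, b, by rw [h.apply_big, cc_big, wt_apply, aH_inv]⟩

theorem High.span_eq_top (h : High m ρ K x) (hirr : Irr ρ) :
    Submodule.span F (Set.range fun g => ρ g x) = ⊤ := by
  refine (hirr _ fun g y hy => ?_).resolve_left fun e => h.ne ?_
  · induction hy using Submodule.span_induction with
    | mem z hz => obtain ⟨k, rfl⟩ := hz; exact Submodule.subset_span ⟨g * k, rho_mul m ρ g k x⟩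
    | zero => rw [map_zero]; exact Submodule.zero_mem _
    | add a b _ _ ha hb => rw [map_add]; exact Submodule.add_mem _ ha hb
    | smul c a _ ha => rw [map_smul]; exact Submodule.smul_mem _ c ha
  · have : x ∈ Submodule.span F (Set.range fun g => ρ g x) := Submodule.subset_span ⟨1, rho_one m ρ x⟩
    rwa [e, Submodule.mem_bot] at this

/-- The images of the standard basis. -/
noncomputable def pts (ρ : Representation F G₀ M) (x : M) : Fin 4 → M :=
  ![x, ρ (g5 m ^ 1) x + x + ρ (w m) x, ρ (g5 m ^ 3) x + x + ρ (w m) x, ρ (w m) x]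

/-- The translates of a highest vector are the twisted ovoid vectors. -/
theorem High.apply_eq [Finite M] (hρ : Fpf m ρ) (h : High m ρ K x) (hirr : Irr ρ) {i : ℕ}
    (hi : ∀ y : F, y ^ K = y ^ (2 ^ i)) (g : G₀) : ρ g x = ∑ k, vec m g k ^ K • pts ρ x k := by
  haveI := charTwo (F := F) m
  haveI : Fact (Nat.Prime 2) := ⟨Nat.prime_two⟩
  set y := fun k => vec m g k ^ K with hy
  set gs : Fin 5 → G₀ := ![g, 1, w m, g5 m ^ 1, g5 m ^ 3] with hgs
  set al : Fin 5 → F := ![1, y 0 + y 1 + y 2, y 3 + y 1 + y 2, y 1, y 2] with hal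
  set δ := ∑ j, al j • ρ (gs j) x with hδ
  have htwo : ∀ z : M, z + z = 0 := fun z => by
    rw [← one_smul F z, ← add_smul, CharTwo.add_self_eq_zero, zero_smul]
  have hδ' : δ = ρ g x + ∑ k, y k • pts ρ x k := by
    simp only [hδ, Fin.sum_univ_five, Fin.sum_univ_four, hgs, hal, pts]
    simp only [Matrix.cons_val]
    rw [rho_one]
    simp only [add_smul, smul_add, one_smul]
    abel
  suffices hδ0 : δ = 0 by
    rw [hδ'] at hδ0
    rw [eq_neg_of_add_eq_zero_left hδ0, neg_eq_of_add_eq_zero_left (htwo _)]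
  set I := Submodule.span F (Set.range fun k => ρ k δ) with hI
  have hδI : δ ∈ I := Submodule.subset_span ⟨1, rho_one m ρ δ⟩
  rcases hirr I (fun k z hz => by
    induction hz using Submodule.span_induction with
    | mem z hz => obtain ⟨l, rfl⟩ := hz; exact Submodule.subset_span ⟨k * l, rho_mul m ρ k l δ⟩
    | zero => rw [map_zero]; exact Submodule.zero_mem _
    | add a b _ _ ha hb => rw [map_add]; exact Submodule.add_mem _ ha hb
    | smul c a _ ha => rw [map_smul]; exact Submodule.smul_mem _ c ha) with h0 | h0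
  · rwa [h0, Submodule.mem_bot] at hδI
  exfalso
  haveI : Fintype G₀ := Fintype.ofFinite _
  obtain ⟨c, hc⟩ := (Submodule.mem_span_range_iff_exists_fun F).1
    (hI ▸ h0 ▸ Submodule.mem_top (x := x) : x ∈ Submodule.span F (Set.range fun k => ρ k δ))
  have hrel : ∑ o : (G₀ × Fin 5) ⊕ Unit, (Sum.elim (fun p => c p.1 * al p.2) (fun _ => (1 : F))) o •
      ρ ((Sum.elim (fun p => w m * (p.1 * gs p.2)) (fun _ => w m)) o) x = 0 := by
    rw [Fintype.sum_sum_type, Fintype.sum_prod_type]
    simp only [Sum.elim_inl, Sum.elim_inr, Finset.univ_unique, Finset.sum_singleton, one_smul, rho_mul]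
    have h1 : ∀ k, ∑ j, (c k * al j) • ρ (w m) (ρ k (ρ (gs j) x)) = ρ (w m) (c k • ρ k δ) := fun k => by
      simp [hδ, Finset.smul_sum, map_sum, smul_smul]
    simp only [h1, ← map_sum, hc]
    exact htwo _
  have hco := h.coef hρ _ _ hrel
  rw [Fintype.sum_sum_type, Fintype.sum_prod_type] at hco
  simp only [Sum.elim_inl, Sum.elim_inr, Finset.univ_unique, Finset.sum_singleton, one_mul] at hco
  have hvec : ∀ k, ∑ j, c k * al j * cc m (w m * (k * gs j)) ^ K = 0 := by
    intro k
    have hsum : ∀ l, ∑ j, al j * vec m (gs j) l ^ K = 0 := by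
      intro l
      have hK0 : K ≠ 0 := by have := h.one_le; omega
      simp only [Fin.sum_univ_five, hgs, hal, Matrix.cons_val, vec_one, vec_w, vec_g5_1, vec_g5_3, hy]
      fin_cases l <;> simp [zero_pow hK0] <;>
        first
          | linear_combination (vec m g 0 ^ K + vec m g 1 ^ K + vec m g 2 ^ K) * (CharTwo.two_eq_zero : (2 : F) = 0)
          | linear_combination (vec m g 1 ^ K) * (CharTwo.two_eq_zero : (2 : F) = 0)
          | linear_combination (vec m g 2 ^ K) * (CharTwo.two_eq_zero : (2 : F) = 0)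
          | linear_combination (vec m g 3 ^ K + vec m g 1 ^ K + vec m g 2 ^ K) * (CharTwo.two_eq_zero : (2 : F) = 0)
    have hterm : ∀ j, cc m (w m * (k * gs j)) ^ K =
        ∑ l, toMat m (w m * k) 3 l ^ K * vec m (gs j) l ^ K := fun j => by
      rw [← mul_assoc, cc_mul, hi, sum_pow_char_pow 2 i]
      exact Finset.sum_congr rfl fun l _ => by rw [← mul_pow, hi]
    simp only [hterm, Finset.mul_sum]
    rw [Finset.sum_comm]
    refine Finset.sum_eq_zero fun l _ => ?_
    rw [← mul_zero (c k * toMat m (w m * k) 3 l ^ K), ← hsum l, Finset.mul_sum]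
    exact Finset.sum_congr rfl fun j _ => by ring
  rw [Finset.sum_eq_zero fun k _ => hvec k, zero_add, cc_eq, vec_w] at hco
  simp at hco

/-- The basis images are weight vectors. -/
theorem High.t_pts [Finite M] (hρ : Fpf m ρ) (h : High m ρ K x) (hirr : Irr ρ) {i : ℕ}
    (hi : ∀ y : F, y ^ K = y ^ (2 ^ i)) (s : Fˣ) (k : Fin 4) :
    ρ (t m s) (pts ρ x k) = tMat m s k k ^ K • pts ρ x k := by
  have hK0 : K ≠ 0 := by have := h.one_le; omega
  have hv : ∀ g : G₀, ρ (t m s) (ρ g x) = ∑ l, (tMat m s l l * vec m g l) ^ K • pts ρ x l := fun g => by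
    rw [← rho_mul m ρ, h.apply_eq hρ hirr hi, vec_mul, toMat_t]
    exact Finset.sum_congr rfl fun l _ => by rw [tMat, Matrix.mulVec_diagonal, Matrix.diagonal_apply_eq]
  have h0 : ρ (t m s) x = tMat m s 0 0 ^ K • x := by
    rw [h.weight, wt_apply]; simp [tMat, aH]
  have h3 : ρ (t m s) (ρ (w m) x) = tMat m s 3 3 ^ K • ρ (w m) x := by
    rw [hv, vec_w]; simp [Fin.sum_univ_four, zero_pow hK0, pts]
  fin_cases k
  · exact h0
  · show ρ (t m s) (ρ (g5 m ^ 1) x + x + ρ (w m) x) = _
    rw [map_add, map_add, h0, h3, hv, vec_g5_1]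
    simp [Fin.sum_univ_four, zero_pow hK0, pts]
    haveI := charTwo (F := F) m
    linear_combination (norm := module) (CharTwo.two_eq_zero : (2 : F) = 0) •
      (tMat m s 0 0 ^ K • x + tMat m s 3 3 ^ K • ρ (w m) x)
  · show ρ (t m s) (ρ (g5 m ^ 3) x + x + ρ (w m) x) = _
    rw [map_add, map_add, h0, h3, hv, vec_g5_3]
    simp [Fin.sum_univ_four, zero_pow hK0, pts]
    haveI := charTwo (F := F) m
    linear_combination (norm := module) (CharTwo.two_eq_zero : (2 : F) = 0) •
      (tMat m s 0 0 ^ K • x + tMat m s 3 3 ^ K • ρ (w m) x)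
  · exact h3

theorem tMat_diag_pow {i : ℕ} (hi : ∀ y : F, y ^ K = y ^ (2 ^ i)) (k : Fin 4) (s : Fˣ) :
    tMat m s k k ^ K = pw (F := F) ((2 : Ex m) ^ i * (((2 : Ex m) ^ (m + 1) + 1) * wts m k)) s := by
  haveI : NeZero (2 ^ (2 * m + 1) - 1) := ⟨by have := Nat.pow_le_pow_right (show 1 ≤ 2 by norm_num) (show 1 ≤ 2 * m + 1 by omega); omega⟩
  rw [hi, diag_eq_pw]
  set e := ((2 : Ex m) ^ (m + 1) + 1) * wts m k
  rw [← ZMod.natCast_zmod_val e, show (2 : Ex m) ^ i * (e.val : Ex m) = ((2 ^ i * e.val : ℕ) : Ex m) by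
    push_cast; rfl, pw_natCast, pw_natCast, ← pow_mul, mul_comm]

end sub

variable {V V' W : Type v} [AddCommGroup V] [Module F V] [AddCommGroup V'] [Module F V'] [AddCommGroup W]
  [Module F W] [Finite W] {σ : Representation F G₀ W}

/-- The base case. -/
theorem bilinear_irr [Finite V] [Finite V'] {ρ : Representation F G₀ V} {ρ' : Representation F G₀ V'}
    (hρ : Fpf m ρ) (hρ' : Fpf m ρ') (hσ : Fpf m σ) (hirr : Irr ρ) (hirr' : Irr ρ')
    (β : V →ₗ[F] V' →ₗ[F] W) (hβ : ∀ g a b, β (ρ g a) (ρ' g b) = σ g (β a b)) : β = 0 := by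
  haveI := charTwo (F := F) m
  haveI : Fact (Nat.Prime 2) := ⟨Nat.prime_two⟩
  rcases subsingleton_or_nontrivial V with hV | hV
  · exact LinearMap.ext fun a => by rw [Subsingleton.elim a 0, map_zero, LinearMap.zero_apply]
  rcases subsingleton_or_nontrivial V' with hV' | hV'
  · exact LinearMap.ext fun a => LinearMap.ext fun b => by
      rw [Subsingleton.elim b 0, map_zero, map_zero]
  have hm := hS.pos
  obtain ⟨K, x, hx⟩ := exists_high (ρ := ρ)
  obtain ⟨K', x', hx'⟩ := exists_high (ρ := ρ')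
  obtain ⟨i, hi', hi⟩ := hx.exists_pow hρ
  obtain ⟨j, -, hj⟩ := hx'.exists_pow hρ'
  set e : Fin 4 → Fin 4 → Ex m := fun k l => (2 : Ex m) ^ i * (((2 : Ex m) ^ (m + 1) + 1) * wts m k) +
    (2 : Ex m) ^ j * (((2 : Ex m) ^ (m + 1) + 1) * wts m l) with he
  have hwt : ∀ k l s, σ (t m s) (β (pts ρ x k) (pts ρ' x' l)) = pw (e k l) s • β (pts ρ x k) (pts ρ' x' l) := by
    intro k l s
    rw [← hβ, hx.t_pts hρ hirr hi, hx'.t_pts hρ' hirr' hj, map_smul, map_smul, LinearMap.smul_apply, smul_smul,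
      he, pw_add, tMat_diag_pow hi, tMat_diag_pow hj, mul_comm]
  -- the weights, normalised
  set θ : Ex m := (2 : Ex m) ^ (m + 1) with hθ
  obtain ⟨h20, hθ0, hθ1, hθ2⟩ := Ex.theta_facts m hm
  have hθθ : θ * θ = 2 := Ex.theta_sq m
  obtain ⟨l, hl⟩ : ∃ l : ℕ, (2 : Ex m) ^ i * (2 : Ex m) ^ l = (2 : Ex m) ^ j :=
    ⟨j + (2 * m + 1) - i, by rw [← pow_add, show i + (j + (2 * m + 1) - i) = j + (2 * m + 1) by omega, pow_add,
      Ex.pow_n, mul_one]⟩
  set p : Ex m := (2 : Ex m) ^ l with hp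
  have hcancel : ∀ {k l k' l' : Fin 4}, e k l = e k' l' → wts m k + p * wts m l = wts m k' + p * wts m l' := by
    intro k l k' l' h
    have h1 : (2 : Ex m) ^ i * ((θ + 1) * ((wts m k + p * wts m l) - (wts m k' + p * wts m l'))) = 0 := by
      simp only [he, ← hθ, ← hl] at h
      linear_combination h
    have h2 := ((Ex.two_unit m).pow i).mul_right_eq_zero.1 h1
    have h3 : IsUnit (θ + 1) := IsUnit.of_mul_eq_one (θ - 1) (by linear_combination hθθ)
    exact sub_eq_zero.1 (h3.mul_right_eq_zero.1 h2)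
  have hz : β x (ρ' (w m) x') = 0 := by
    by_cases hp1 : p = 1
    · refine hσ.eq_zero_of_torus fun s => ?_
      have h1 := hwt 0 3 s
      rw [show e 0 3 = ((0 : ℕ) : Ex m) by
        rw [hp1, mul_one] at hl
        simp [he, ← hl, wts]
        ring, pw_natCast, pow_zero, one_smul] at h1
      exact h1
    -- the value at the point at infinity
    have hxx : β x x' = 0 := by
      by_contra hne
      have hfix : ∀ a b : F, σ (u m a b) (β x x') = β x x' := fun a b => by rw [← hβ, hx.fix, hx'.fix]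
      have hwxx : ∀ s, σ (t m s) (β x x') = wt m (K + K') s • β x x' := fun s => by
        rw [← hβ, hx.weight, hx'.weight, map_smul, map_smul, LinearMap.smul_apply, smul_smul, wt_apply,
          wt_apply, wt_apply, pow_add, mul_comm]
      obtain ⟨i', -, hi''⟩ := (⟨hne, by have := hx.one_le; omega, hfix, hwxx⟩ : High m σ (K + K') _).exists_pow hσ
      refine hp1 (Ex.one_add_pow m hm (l' := (i' + (2 * m + 1) - i)) ?_)
      have h1 : (2 : Ex m) ^ i + (2 : Ex m) ^ j = (2 : Ex m) ^ i' := by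
        refine pw_injective (F := F) fun s => ?_
        rw [show (2 : Ex m) ^ i + 2 ^ j = ((2 ^ i + 2 ^ j : ℕ) : Ex m) by push_cast; rfl,
          show (2 : Ex m) ^ i' = ((2 ^ i' : ℕ) : Ex m) by push_cast; rfl, pw_natCast, pw_natCast, pow_add,
          ← hi, ← hj, ← pow_add, hi'']
      rw [← hl] at h1
      have h2 : (2 : Ex m) ^ i * (2 : Ex m) ^ (i' + (2 * m + 1) - i) = (2 : Ex m) ^ i' := by
        rw [← pow_add, show i + (i' + (2 * m + 1) - i) = i' + (2 * m + 1) by omega, pow_add, Ex.pow_n, mul_one]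
      refine ((Ex.two_unit m).pow i).mul_left_cancel ?_
      rw [mul_add, mul_one, h1, h2]
    have hproj : ∀ k l, tproj m σ (pw (e 0 3)) (β (pts ρ x k) (pts ρ' x' l)) =
        if e k l = e 0 3 then β (pts ρ x k) (pts ρ' x' l) else 0 := by
      intro k l
      rw [tproj_eigen m σ _ (pw (e k l)) (hwt k l)]
      have hc : ∀ s, pw (e 0 3) s⁻¹ * pw (e k l) s = pw (F := F) (e k l - e 0 3) s := fun s => by
        have h1 := pw_add (F := F) (e k l - e 0 3) (e 0 3) s
        rw [sub_add_cancel] at h1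
        have h2 : pw (F := F) (e 0 3) s⁻¹ * pw (F := F) (e 0 3) s = 1 := by
          rw [← map_mul, inv_mul_cancel, map_one]
        linear_combination pw (F := F) (e 0 3) s⁻¹ * h1 + pw (F := F) (e k l - e 0 3) s * h2
      simp only [hc]
      split_ifs with he'
      · rw [he', sub_self, ← Nat.cast_zero]
        simp only [pw_natCast, pow_zero, Finset.sum_const, Finset.card_univ, nsmul_eq_mul, mul_one,
          card_units_cast m, one_smul]
      · rw [sum_hom_eq_zero, zero_smul]
        by_contra hcon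
        push Not at hcon
        refine he' (sub_eq_zero.1 (pw_injective (F := F) fun s => ?_))
        have h1 : pw (F := F) (e k l - e 0 3) s = 1 := by
          by_contra hne
          exact hcon s (sub_ne_zero.2 hne).isUnit
        rw [h1, ← Nat.cast_zero, pw_natCast, pow_zero]
    have key : ∀ {g : G₀} (S : Finset (Fin 4)), ρ g x = ∑ k ∈ S, pts ρ x k → ρ' g x' = ∑ l ∈ S, pts ρ' x' l →
        0 ∈ S → 3 ∈ S → (∀ k ∈ S, ∀ l ∈ S, e k l = e 0 3 → k = 0 ∧ l = 3) → β x (ρ' (w m) x') = 0 := by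
      intro g S h1 h2 h0 h3 huniq
      have h4 : ∑ k ∈ S, ∑ l ∈ S, β (pts ρ x k) (pts ρ' x' l) = 0 := by
        have h4 := hβ g x x'
        rw [hxx, map_zero, h1, h2] at h4
        rw [Finset.sum_comm]
        simpa [map_sum, LinearMap.sum_apply] using h4
      have h5 := congrArg (tproj m σ (pw (e 0 3))) h4
      simp only [map_zero, map_sum, hproj] at h5
      rw [Finset.sum_eq_single (0 : Fin 4), Finset.sum_eq_single (3 : Fin 4), if_pos rfl] at h5
      · exact h5
      · intro l hl hne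
        exact if_neg fun hh => hne (huniq 0 h0 l hl hh).2
      · exact fun h => absurd h3 h
      · intro k hk hne
        exact Finset.sum_eq_zero fun l hl => if_neg fun hh => hne (huniq k hk l hl hh).1
      · exact fun h => absurd h0 h
    have h2θ : ∀ {a : Ex m}, θ * a = 0 → a = 0 := fun h => ((Ex.two_unit m).pow (m + 1)).mul_right_eq_zero.1 h
    have h22 : ∀ {a : Ex m}, 2 * a = 0 → a = 0 := fun h => (Ex.two_unit m).mul_right_eq_zero.1 h
    have hp0 : p ≠ 0 := fun h0 => by
      have := ((Ex.two_unit m).pow l)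
      rw [← hp, h0] at this
      exact h20 (by rw [show (2 : Ex m) = 2 * 1 from (mul_one _).symm, eq_of_zero_eq_one
        (isUnit_zero_iff.1 this) 1 0, mul_zero])
    by_cases hpθ : p = θ
    · refine key (g := g5 m ^ 3) {0, 2, 3} ?_ ?_ (by simp) (by simp) ?_
      · rw [hx.apply_eq hρ hirr hi, vec_g5_3]
        simp [Fin.sum_univ_four, zero_pow (show K ≠ 0 by have := hx.one_le; omega)]
        abel
      · rw [hx'.apply_eq hρ' hirr' hj, vec_g5_3]
        simp [Fin.sum_univ_four, zero_pow (show K' ≠ 0 by have := hx'.one_le; omega)]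
        abel
      · intro k hk l hl hkl
        have h := hcancel hkl
        rw [hpθ] at h
        simp only [Finset.mem_insert, Finset.mem_singleton] at hk hl
        rcases hk with rfl | rfl | rfl <;> rcases hl with rfl | rfl | rfl <;>
          simp [wts, ← hθ] at h ⊢
        · exact hθ0 (h22 (by linear_combination h))
        · exact hθ1 (sub_eq_zero.1 (h22 (by linear_combination h + hθθ)))
        · exact hθ0 (by linear_combination h)
        · exact hθ2 (by linear_combination h + hθθ)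
        · exact hθ0 (by linear_combination h)
        · exact hθ1 (sub_eq_zero.1 (h22 (by linear_combination h)))
        · exact hθ2 (sub_eq_zero.1 (h22 (by linear_combination h + hθθ)))
        · exact h20 (by linear_combination -h)
    · refine key (g := g5 m ^ 1) {0, 1, 3} ?_ ?_ (by simp) (by simp) ?_
      · rw [hx.apply_eq hρ hirr hi, vec_g5_1]
        simp [Fin.sum_univ_four, zero_pow (show K ≠ 0 by have := hx.one_le; omega)]
        abel
      · rw [hx'.apply_eq hρ' hirr' hj, vec_g5_1]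
        simp [Fin.sum_univ_four, zero_pow (show K' ≠ 0 by have := hx'.one_le; omega)]
        abel
      · intro k hk l' hl' hkl
        have h := hcancel hkl
        simp only [Finset.mem_insert, Finset.mem_singleton] at hk hl'
        rcases hk with rfl | rfl | rfl <;> rcases hl' with rfl | rfl | rfl <;>
          simp [wts, ← hθ] at h ⊢
        · exact hp0 (h22 (by linear_combination h))
        · exact hp0 (h2θ (by linear_combination h))
        · refine Ex.pow_add_theta m hm (l + 1) ?_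
          show (2 : Ex m) ^ (l + 1) + θ = 2
          rw [pow_succ (2 : Ex m) l, ← hp]
          linear_combination h
        · refine Ex.pow_add_theta m hm (m + 1 + l) ?_
          show (2 : Ex m) ^ (m + 1 + l) + θ = 2
          rw [pow_add (2 : Ex m) (m + 1) l, ← hp, show (2 : Ex m) ^ (m + 1) = θ from rfl]
          linear_combination h
        · exact hθ2 (by linear_combination h)
        · exact hp1 (sub_eq_zero.1 (h22 (by linear_combination h)))
        · exact hpθ (sub_eq_zero.1 (h2θ (by linear_combination h - hθθ)))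
        · exact h20 (by linear_combination -h)
  have hz' : β (ρ (w m) x) x' = 0 := by
    have h := hβ (w m) x (ρ' (w m) x')
    rwa [hz, map_zero, ← rho_mul m ρ', w_mul_w, rho_one] at h
  have hxx : β x x' = 0 := by
    have h := hρ.sum_g5 x
    simp only [Fin.sum_univ_five, Fin.val_zero, pow_zero, rho_one] at h
    have hg : ∀ g : G₀, cc m g ≠ 0 → β (ρ g x) x' = 0 := fun g hg => by
      obtain ⟨a, b, e'⟩ := hx.decomp_big hg
      rw [e', map_smul, LinearMap.smul_apply, show x' = ρ' (u m a b) x' from (hx'.fix a b).symm, hβ, hz',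
        map_zero, smul_zero]
    have h' := congrArg (fun z => β z x') h
    simp only [map_add, LinearMap.add_apply, map_zero, LinearMap.zero_apply] at h'
    rw [hg _ (by rw [cc_eq, Fin.val_one, vec_g5_1]; simp), hg _ (by rw [cc_eq, Fin.val_two, vec_g5_2]; simp),
      hg _ (by rw [cc_eq, show ((3 : Fin 5) : ℕ) = 3 from rfl, vec_g5_3]; simp),
      hg _ (by rw [cc_eq, show ((4 : Fin 5) : ℕ) = 4 from rfl, vec_g5_4]; simp)] at h'
    simpa using h'
  have hall : ∀ g : G₀, β x (ρ' g x') = 0 := fun g => by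
    obtain ⟨a, b, c, e'⟩ := hx'.decomp g
    rw [e', map_add, map_smul, map_smul, hxx, smul_zero, add_zero, show x = ρ (u m a b) x from (hx.fix a b).symm,
      hβ, hz, map_zero, smul_zero]
  refine LinearMap.ext_on_range (hx.span_eq_top hirr) fun g => ?_
  refine LinearMap.ext_on_range (hx'.span_eq_top hirr') fun h => ?_
  rw [LinearMap.zero_apply, LinearMap.zero_apply, show ρ' h x' = ρ' g (ρ' (g⁻¹ * h) x') by
    rw [← rho_mul m ρ', mul_inv_cancel_left], hβ, hall, map_zero]

omit [Finite W] in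
/-- The restriction to an invariant submodule. -/
theorem exists_sub [Finite V] {ρ : Representation F G₀ V} (hρ : Fpf m ρ) (I : Submodule F V)
    (hI : ∀ g, ∀ y ∈ I, ρ g y ∈ I) :
    ∃ ρ' : Representation F G₀ ↥I, Fpf m ρ' ∧ ∀ g y, (ρ' g y : V) = ρ g y := by
  refine ⟨{ toFun := fun g => (ρ g).restrict (hI g)
            map_one' := LinearMap.ext fun y => Subtype.ext (by simp)
            map_mul' := fun g h => LinearMap.ext fun y => Subtype.ext (by simp) },
    fun g y hg hg1 hy => Subtype.ext (hρ g y hg hg1 (congrArg Subtype.val hy)), fun g y => rfl⟩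

theorem bilinear_aux (hσ : Fpf m σ) : ∀ (n : ℕ) {V V' : Type v} [AddCommGroup V] [Module F V]
    [AddCommGroup V'] [Module F V'] [Finite V] [Finite V'] {ρ : Representation F G₀ V}
    {ρ' : Representation F G₀ V'}, Nat.card V + Nat.card V' ≤ n → Fpf m ρ → Fpf m ρ' →
    ∀ β : V →ₗ[F] V' →ₗ[F] W, (∀ g a b, β (ρ g a) (ρ' g b) = σ g (β a b)) → β = 0 := by
  intro n
  induction n using Nat.strong_induction_on with
  | _ n ih =>
  intro V V' _ _ _ _ _ _ ρ ρ' hn hρ hρ' β hβ
  -- reduction in the left variable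
  have red : ∀ {A B : Type v} [AddCommGroup A] [Module F A] [AddCommGroup B] [Module F B] [Finite A] [Finite B]
      {a : Representation F G₀ A} {b : Representation F G₀ B}, Nat.card A + Nat.card B ≤ n → Fpf m a →
      Fpf m b → ¬ Irr a → ∀ f : A →ₗ[F] B →ₗ[F] W, (∀ g x y, f (a g x) (b g y) = σ g (f x y)) → f = 0 := by
    intro A B _ _ _ _ _ _ a b hc ha hb hnot f hf
    simp only [Irr, not_forall, not_or] at hnot
    obtain ⟨I, hI, hbot, htop⟩ := hnot
    obtain ⟨a₁, ha₁, he₁⟩ := exists_sub ha I hI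
    obtain ⟨a₂, ha₂, he₂⟩ := exists_quot ha I hI
    have hlt : Nat.card ↥I < Nat.card A := by
      refine lt_of_le_of_ne (Nat.card_le_card_of_injective _ I.injective_subtype) fun e => htop ?_
      have hb' := (Nat.bijective_iff_injective_and_card I.subtype).2 ⟨I.injective_subtype, e⟩
      rw [← I.range_subtype, LinearMap.range_eq_top]
      exact hb'.2
    have h1 : f.comp I.subtype = 0 := ih (Nat.card ↥I + Nat.card B) (by omega) le_rfl ha₁ hb _
      fun g x y => by
        simp only [LinearMap.comp_apply, Submodule.coe_subtype, he₁, hf]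
    haveI : Finite (A ⧸ I) := Finite.of_surjective _ I.mkQ_surjective
    have hlt' : Nat.card (A ⧸ I) < Nat.card A := by
      refine lt_of_le_of_ne (Nat.card_le_card_of_surjective _ I.mkQ_surjective) fun e => hbot ?_
      have hb' := (Nat.bijective_iff_surjective_and_card I.mkQ).2 ⟨I.mkQ_surjective, e.symm⟩
      rw [← I.ker_mkQ, LinearMap.ker_eq_bot]
      exact hb'.1
    have hker : I ≤ LinearMap.ker f := fun x hx => LinearMap.mem_ker.2 (LinearMap.congr_fun h1 ⟨x, hx⟩)
    have h2 : I.liftQ f hker = 0 := ih (Nat.card (A ⧸ I) + Nat.card B) (by omega) le_rfl ha₂ hb _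
      fun g x y => by
        obtain ⟨x, rfl⟩ := I.mkQ_surjective x
        rw [he₂]
        exact hf g x y
    rw [← I.liftQ_mkQ f hker, h2, LinearMap.zero_comp]
  by_cases h1 : Irr ρ
  · by_cases h2 : Irr ρ'
    · exact bilinear_irr hρ hρ' hσ h1 h2 β hβ
    · have h3 := red (a := ρ') (b := ρ) (by omega) hρ' hρ h2 β.flip fun g x y => by
        simp only [LinearMap.flip_apply, hβ]
      exact LinearMap.ext fun x => LinearMap.ext fun y => LinearMap.congr_fun (LinearMap.congr_fun h3 y) x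
  · exact red hn hρ hρ' h1 β hβ

/-- An equivariant bilinear map between modules on which elements of odd order fix only zero is zero. -/
theorem bilinear_eq_zero [Finite V] [Finite V'] {ρ : Representation F G₀ V} {ρ' : Representation F G₀ V'}
    (hρ : Fpf m ρ) (hρ' : Fpf m ρ') (hσ : Fpf m σ) (β : V →ₗ[F] V' →ₗ[F] W)
    (hβ : ∀ g a b, β (ρ g a) (ρ' g b) = σ g (β a b)) : β = 0 :=
  bilinear_aux hσ _ le_rfl hρ hρ' β hβ

end Cfsg.Agent.H65.CIT.SzRep
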