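import Cfsg.Agent.H65.CIT.SzRep

/-!
A module over the Witt vectors of length two on which the elements of odd order of a Suzuki group fix only zero
is killed by two.
-/

set_option autoImplicit false
set_option linter.unusedSectionVars false
set_option linter.style.haveILetI false
set_option linter.dupNamespace false

namespace Cfsg.Agent.H65.CIT.SzRep

open Cfsg Matrix MulAction Cfsg.Agent.Suzuki
open scoped Classical

universe u v

variable {F : Type u} [Field F] [Fintype F] {m : ℕ} [hS : SzField F m]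
include hS

set_option quotPrecheck false in
set_option hygiene false in
local notation "G₀" => ↥(Cfsg.Sz F m)

variable [CharP F 2] {M : Type v} [AddCommGroup M] [Module (Witt2 F) M] [Finite M]
  {ρ : Representation (Witt2 F) G₀ M}

/-- Such a module has exponent two. -/
theorem two_smul_eq_zero (hρ : Fpf m ρ) (y : M) : (2 : Witt2 F) • y = 0 := by
  by_contra hne
  let D : AddSubgroup M := (DistribSMul.toAddMonoidHom M (2 : Witt2 F)).range
  have hD2 : ∀ d ∈ D, (2 : Witt2 F) • d = 0 := by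
    rintro _ ⟨z, rfl⟩
    show (2 : Witt2 F) • ((2 : Witt2 F) • z) = 0
    rw [smul_smul, show (2 : Witt2 F) * 2 = 4 by norm_num, Witt2.four_eq_zero, zero_smul]
  haveI hsurj : Fact (Function.Surjective fun c : F => c * c) :=
    ⟨Finite.injective_iff_surjective.1 fun a b h => CharTwo.sq_injective (by simpa [pow_two] using h)⟩
  have hres : ∀ {a b : Witt2 F}, a.x = b.x → ∀ d ∈ D, a • d = b • d := by
    intro a b hab d hd
    obtain ⟨c, hc⟩ := Witt2.exists_two_mul (a := a - b) (by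
      rw [sub_eq_add_neg, Witt2.add_x, Witt2.neg_x, hab, CharTwo.add_self_eq_zero])
    rw [← sub_eq_zero, ← sub_smul, hc, mul_comm, ← smul_smul, hD2 d hd, smul_zero]
  have hDmem : ∀ (c : Witt2 F) (d : M), d ∈ D → c • d ∈ D := by
    rintro c _ ⟨z, rfl⟩
    exact ⟨c • z, smul_comm (2 : Witt2 F) c z⟩
  letI : Module F ↥D :=
    { smul := fun c d => ⟨Witt2.tau c • (d : M), hDmem _ _ d.2⟩
      one_smul := fun d => Subtype.ext (show Witt2.tau (1 : F) • (d : M) = d by rw [map_one, one_smul])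
      mul_smul := fun c e d => Subtype.ext (show Witt2.tau (c * e) • (d : M) = _ by
        rw [map_mul, ← smul_smul]; rfl)
      smul_zero := fun c => Subtype.ext (smul_zero (Witt2.tau c))
      smul_add := fun c d e => Subtype.ext (smul_add (Witt2.tau c) (d : M) e)
      add_smul := fun c e d => Subtype.ext (show Witt2.tau (c + e) • (d : M) =
          Witt2.tau c • (d : M) + Witt2.tau e • (d : M) by
        rw [← add_smul]; exact hres (by simp) d d.2)
      zero_smul := fun d => Subtype.ext (show Witt2.tau (0 : F) • (d : M) = 0 by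
        rw [Witt2.tau_zero, zero_smul]) }
  have hsmul : ∀ (c : F) (d : ↥D), ((c • d : ↥D) : M) = Witt2.tau c • (d : M) := fun c d => rfl
  have hρD : ∀ (g : G₀) (d : M), d ∈ D → ρ g d ∈ D := by
    rintro g _ ⟨z, rfl⟩
    exact ⟨ρ g z, (map_smul (ρ g) (2 : Witt2 F) z).symm⟩
  let ρD : Representation F G₀ ↥D :=
    { toFun := fun g =>
        { toFun := fun d => ⟨ρ g d, hρD g d d.2⟩
          map_add' := fun d e => Subtype.ext (map_add (ρ g) (d : M) e)
          map_smul' := fun c d => Subtype.ext (map_smul (ρ g) (Witt2.tau c) (d : M)) }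
      map_one' := LinearMap.ext fun d => Subtype.ext (rho_one m ρ (d : M))
      map_mul' := fun g h => LinearMap.ext fun d => Subtype.ext (rho_mul m ρ g h (d : M)) }
  have hρD' : ∀ (g : G₀) (d : ↥D), ((ρD g d : ↥D) : M) = ρ g d := fun g d => rfl
  have hfD : Fpf m ρD := fun g d hg hg1 h => Subtype.ext (hρ g d hg hg1 (congrArg Subtype.val h))
  haveI : Nontrivial ↥D := ⟨⟨⟨_, y, rfl⟩, 0, fun e => hne (congrArg Subtype.val e)⟩⟩
  obtain ⟨K, x, hx⟩ := exists_high (ρ := ρD)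
  obtain ⟨i, -, hi⟩ := hx.exists_pow hfD
  set ψ : Fˣ →* Witt2 F := Witt2.tau.comp (wt m K) with hψ
  have hψa : ∀ s, ψ s = Witt2.tau (wt m K s) := fun s => rfl
  set N := Fintype.card Fˣ with hN
  obtain ⟨k, hk⟩ := odd_card_units (F := F) m
  have hNd : ∀ d ∈ D, (N : Witt2 F) • d = d := fun d hd => by
    rw [hN, hk, Nat.cast_add, Nat.cast_mul, Nat.cast_two, Nat.cast_one, add_smul, one_smul, mul_comm,
      ← smul_smul, hD2 d hd, smul_zero, zero_add]
  obtain ⟨r₀, hr₀⟩ := hx.wt_ne_one hfD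
  -- the weight of `w x` lifted
  obtain ⟨x₀, hx₀⟩ := hρD (w m) (x : M) x.2
  have hx₀' : (2 : Witt2 F) • x₀ = ρ (w m) (x : M) := hx₀
  set χ : Fˣ →* Witt2 F := ψ.comp (invMonoidHom : Fˣ →* Fˣ) with hχ
  have hχa : ∀ s, χ s = ψ s⁻¹ := fun s => rfl
  set x₁ := tproj m ρ χ x₀ with hx₁
  have hx₁t : ∀ s, ρ (t m s) x₁ = ψ s⁻¹ • x₁ := fun s => t_tproj m ρ χ s x₀
  have hwx : ∀ s, ρ (t m s) (ρ (w m) (x : M)) = ψ s⁻¹ • ρ (w m) (x : M) := fun s => by
    rw [← rho_mul m ρ, show t m s * w m = w m * t m s⁻¹ by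
      rw [← w_t m s, w_inv]; simp [mul_assoc, w_mul_w, ← mul_assoc (w m) (w m)], rho_mul m ρ,
      ← hρD' (t m s⁻¹), hx.weight, hsmul, map_smul, hψa]
  have h2x₁ : (2 : Witt2 F) • x₁ = ρ (w m) (x : M) := by
    rw [hx₁, ← map_smul, hx₀', tproj_eigen m ρ χ χ hwx]
    simp only [← map_mul, inv_mul_cancel, map_one, Finset.sum_const, Finset.card_univ, nsmul_eq_mul,
      mul_one]
    exact hNd _ (hρD _ _ x.2)
  set X := tproj m ρ ψ (ρ (u m 0 1) x₁) with hX
  have h2X : (2 : Witt2 F) • X ≠ 0 := by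
    rw [hX, ← map_smul, ← map_smul, h2x₁, ← rho_mul m ρ]
    intro h0
    refine hx.proj_ne_zero hfD (Subtype.ext ?_)
    refine Eq.trans ?_ (h0.trans (ZeroMemClass.coe_zero D).symm)
    rw [tproj_apply, tproj_apply, AddSubmonoidClass.coe_finsetSum]
    exact Finset.sum_congr rfl fun s _ => rfl
  refine h2X ?_
  -- the central elements
  set b : Fˣ → F := fun s => (s : F) ^ 2 * th m (s : F) with hb
  have hu : ∀ s, u m 0 (b s) = t m s * u m 0 1 * (t m s)⁻¹ := fun s => by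
    rw [t_u, mul_zero, mul_one]
  have hx₁t' : ∀ s, ρ (t m s)⁻¹ x₁ = ψ s • x₁ := fun s => by
    rw [← map_inv, hx₁t, inv_inv]
  have hXb : ∀ s, tproj m ρ ψ (ρ (u m 0 (b s)) x₁) = Witt2.tau (wt m K s * wt m K s) • X := fun s => by
    rw [hu, rho_mul m ρ, rho_mul m ρ, hx₁t', map_smul, map_smul, map_smul, tproj_t, smul_smul, hX,
      map_mul Witt2.tau, hψa]
  have hadd : ∀ s r, tproj m ρ ψ (ρ (u m 0 (b s + b r)) x₁) =
      Witt2.tau ((wt m K s + wt m K r) * (wt m K s + wt m K r)) • X := by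
    intro s r
    rcases eq_or_ne s r with rfl | hsr
    · rw [CharTwo.add_self_eq_zero, CharTwo.add_self_eq_zero, u_zero, rho_one, mul_zero, Witt2.tau_zero,
        zero_smul, tproj_eigen m ρ ψ χ hx₁t]
      have hz : ∑ s : Fˣ, ψ s⁻¹ * χ s = 0 := by
        refine sum_hom_eq_zero (χ * χ) ⟨r₀⁻¹, Witt2.isUnit_of_res ?_⟩
        rw [MonoidHom.mul_apply, hχa, inv_inv, hψa, sub_eq_add_neg, Witt2.add_x, Witt2.neg_x, Witt2.mul_x,
          Witt2.one_x, Witt2.tau_x]
        intro h0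
        refine hr₀ (CharTwo.sq_injective ?_)
        show wt m K r₀ ^ 2 = 1 ^ 2
        rw [one_pow, pow_two]
        exact CharTwo.add_eq_zero.1 h0
      rw [hz, zero_smul]
    · obtain ⟨q, hq⟩ := (sq_mul_th_bijective (F := F) m).2 (b s + b r)
      have hq0 : q ≠ 0 := by
        rintro rfl
        simp only [ne_eq, OfNat.ofNat_ne_zero, not_false_eq_true, zero_pow, zero_mul] at hq
        exact hsr (Units.ext ((sq_mul_th_bijective (F := F) m).1 (CharTwo.add_eq_zero.1 hq.symm)))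
      have e1 : b (Units.mk0 q hq0) = b s + b r := hq
      rw [← e1, hXb]
      congr 2
      have e2 : ∀ p : Fˣ, th m (b p) = aH m p * aH m p := fun p => by
        have h2 : aH m p = (p : F) * th m (p : F) := rfl
        rw [hb, h2, th_mul, th_pow, th_th]
        ring
      have e3 := congrArg (th m) e1
      rw [th_add, e2, e2, e2] at e3
      simp only [wt_apply, ← mul_pow, e3]
      rw [hi, hi (aH m s), hi (aH m r), ← add_pow_char_pow, ← mul_pow, add_mul, mul_add, mul_add,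
        mul_comm (aH m r) (aH m s)]
      congr 1
      linear_combination -(aH m s * aH m r) * (CharTwo.two_eq_zero : (2 : F) = 0)
  have hsumψ : ∑ s : Fˣ, ψ s = 0 := by
    refine sum_hom_eq_zero ψ ⟨r₀, Witt2.isUnit_of_res ?_⟩
    rw [hψa, sub_eq_add_neg, Witt2.add_x, Witt2.neg_x, Witt2.one_x, Witt2.tau_x]
    exact fun h0 => hr₀ (CharTwo.add_eq_zero.1 h0)
  have hsumψ' : ∑ s : Fˣ, ψ s⁻¹ = 0 :=
    (Fintype.sum_equiv (Equiv.inv Fˣ) (fun s : Fˣ => ψ s⁻¹) (fun s => ψ s) fun _ => rfl).trans hsumψ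
  -- both sides of the identity
  set T := ∑ p : Fˣ × Fˣ, (ψ p.1⁻¹ * ψ p.2⁻¹) • tproj m ρ ψ (ρ (u m 0 (b p.1 + b p.2)) x₁) with hT
  have hT0 : T = 0 := by
    rw [hT, Fintype.sum_prod_type]
    refine Finset.sum_eq_zero fun s _ => ?_
    have hterm : ∀ r, (ψ s⁻¹ * ψ r⁻¹) • tproj m ρ ψ (ρ (u m 0 (b s + b r)) x₁) =
        tproj m ρ ψ (ρ (u m 0 1) (ρ (t m (s⁻¹ * r)) (ρ (u m 0 1) x₁))) := by
      intro r
      rw [show u m 0 (b s + b r) = u m 0 (b s) * u m 0 (b r) by rw [u_mul, th_zero, zero_mul]; simp,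
        hu, hu, show t m s * u m 0 1 * (t m s)⁻¹ * (t m r * u m 0 1 * (t m r)⁻¹) =
          t m s * (u m 0 1 * (t m (s⁻¹ * r) * (u m 0 1 * (t m r)⁻¹))) by rw [map_mul, map_inv]; group,
        rho_mul m ρ, rho_mul m ρ, rho_mul m ρ, rho_mul m ρ, hx₁t', tproj_t]
      simp only [map_smul, smul_smul]
      rw [show ψ s⁻¹ * ψ r⁻¹ * (ψ s * ψ r) = (ψ s⁻¹ * ψ s) * (ψ r⁻¹ * ψ r) by ring, ← map_mul, ← map_mul,
        inv_mul_cancel, inv_mul_cancel, map_one, one_mul, one_smul]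
    simp only [hterm]
    rw [← map_sum, ← map_sum, Fintype.sum_equiv (Equiv.mulLeft s⁻¹)
      (fun r => ρ (t m (s⁻¹ * r)) (ρ (u m 0 1) x₁)) (fun r => ρ (t m r) (ρ (u m 0 1) x₁)) fun _ => rfl,
      hρ.sum_torus, map_zero, map_zero]
  have hT2 : T = (2 : Witt2 F) • X := by
    simp only [hT, hadd, Witt2.tau_add_sq, smul_smul, Fintype.sum_prod_type, ← Finset.sum_smul]
    congr 1
    have e : ∀ s r : Fˣ, ψ s⁻¹ * ψ r⁻¹ * (Witt2.tau (wt m K s * wt m K s) + Witt2.tau (wt m K r * wt m K r) +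
        2 * Witt2.tau (wt m K s * wt m K r)) = ψ s * ψ r⁻¹ + ψ s⁻¹ * ψ r + 2 := by
      intro s r
      rw [map_mul, map_mul, map_mul, ← hψa, ← hψa]
      have h1 : ψ s⁻¹ * ψ s = 1 := by rw [← map_mul, inv_mul_cancel, map_one]
      have h2 : ψ r⁻¹ * ψ r = 1 := by rw [← map_mul, inv_mul_cancel, map_one]
      linear_combination (ψ s * ψ r⁻¹ + 2 * (ψ r⁻¹ * ψ r)) * h1 + (ψ s⁻¹ * ψ r + 2) * h2
    simp only [e, Finset.sum_add_distrib, ← Finset.mul_sum, hsumψ, hsumψ', mul_zero, Finset.sum_const_zero,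
      zero_add, Finset.sum_const, Finset.card_univ, nsmul_eq_mul]
    rw [hk, Nat.cast_add, Nat.cast_mul, Nat.cast_two, Nat.cast_one]
    linear_combination (2 * (k : Witt2 F) * k + 2 * k) * (Witt2.four_eq_zero : (4 : Witt2 F) = 0)
  rw [← hT2, hT0]

end Cfsg.Agent.H65.CIT.SzRep
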