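import Cfsg.Agent.H65.CIT.SzBilinear
import Cfsg.Agent.H65.CIT.SzExponent
import Cfsg.Agent.H65.CIT.CNStructure
import Cfsg.Agent.H70.SzUnique.FrameSimple
import Cfsg.Agent.PGroups.Basic
import Cfsg.Agent.Suzuki.Lie

/-!
A normal 2-subgroup with quotient a Suzuki group, in a group with centralisers of involutions 2-groups, is
elementary abelian.
-/

set_option autoImplicit false
set_option linter.unusedSectionVars false
set_option linter.style.haveILetI false
set_option linter.dupNamespace false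

namespace Cfsg.Agent.H65.CIT.SzRep

open Cfsg Subgroup Cfsg.Agent.Suzuki
open scoped TensorProduct

universe u v

variable {F : Type} [Field F] [Fintype F] {m : ℕ} [hS : SzField F m]
include hS

set_option quotPrecheck false in
set_option hygiene false in
local notation "G₀" => ↥(Cfsg.Sz F m)

/-- A representation trivial on the kernel descends. -/
theorem exists_descend {G : Type u} [Group G] [Finite G] (φ : G →* G₀) (hφ : Function.Surjective φ)
    {R : Type v} [CommRing R] {M : Type*} [AddCommGroup M] [Module R M] (ψ : Representation R G M)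
    (htriv : ∀ x ∈ φ.ker, ∀ y, ψ x y = y)
    (hfpf : ∀ x : G, Odd (orderOf x) → x ∉ φ.ker → ∀ y, ψ x y = y → y = 0) :
    ∃ ρ : Representation R G₀ M, Fpf m ρ ∧ ∀ x y, ρ (φ x) y = ψ x y := by
  have hk : φ.ker ≤ MonoidHom.ker ψ := fun x hx => MonoidHom.mem_ker.2 (LinearMap.ext fun y => htriv x hx y)
  let ρ : Representation R G₀ M :=
    (QuotientGroup.lift φ.ker ψ hk).comp
      (QuotientGroup.quotientKerEquivOfSurjective φ hφ).symm.toMonoidHom
  have he : ∀ x y, ρ (φ x) y = ψ x y := fun x y => by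
    have h : (QuotientGroup.quotientKerEquivOfSurjective φ hφ).symm (φ x) = (x : G ⧸ φ.ker) :=
      (MulEquiv.symm_apply_eq _).2 rfl
    show QuotientGroup.lift φ.ker ψ hk ((QuotientGroup.quotientKerEquivOfSurjective φ hφ).symm (φ x)) y = _
    rw [h, QuotientGroup.lift_mk]
  refine ⟨ρ, fun g y hg hg1 hy => ?_, he⟩
  obtain ⟨x₀, rfl⟩ := hφ g
  obtain ⟨x, hx, hxe⟩ := exists_odd_preimage φ hg
  rw [← hxe] at hy hg1
  exact hfpf x hx (fun h => hg1 h) y (by rw [← he, hy])

/-- Extension of scalars keeps the fixed-point-freeness. -/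
theorem exists_baseChange {R : Type*} [CommRing R] (A : Type*) [CommRing A] [Algebra R A] {M : Type*}
    [AddCommGroup M] [Module R M] [Finite M] {ρ : Representation R G₀ M} (hρ : Fpf m ρ) :
    ∃ ρ' : Representation A G₀ (A ⊗[R] M), Fpf m ρ' ∧ ∀ g a y, ρ' g (a ⊗ₜ[R] y) = a ⊗ₜ[R] ρ g y := by
  refine ⟨{ toFun := fun g => (ρ g).baseChange A
            map_one' := TensorProduct.AlgebraTensorModule.ext fun a y => by simp
            map_mul' := fun g h => TensorProduct.AlgebraTensorModule.ext fun a y => by simp },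
    fun g y hg hg1 hy => ?_, fun g a y => LinearMap.baseChange_tmul _ _ _⟩
  change (ρ g).baseChange A y = y at hy
  have hinj : Function.Injective (ρ g - LinearMap.id : M →ₗ[R] M) := by
    rw [injective_iff_map_eq_zero]
    intro z hz
    exact hρ g z hg hg1 (sub_eq_zero.1 hz)
  let e := LinearEquiv.ofBijective _ ⟨hinj, Finite.injective_iff_surjective.1 hinj⟩
  have h1 : (ρ g - LinearMap.id).baseChange A y = 0 := by
    rw [LinearMap.baseChange_sub, LinearMap.sub_apply, hy, LinearMap.baseChange_id, LinearMap.id_apply, sub_self]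
  have h2 : (e.symm.toLinearMap.comp (ρ g - LinearMap.id)).baseChange A y = 0 := by
    rw [LinearMap.baseChange_comp, LinearMap.comp_apply, h1, map_zero]
  rwa [show e.symm.toLinearMap.comp (ρ g - LinearMap.id) = LinearMap.id from
      LinearMap.ext fun z => e.symm_apply_apply z, LinearMap.baseChange_id, LinearMap.id_apply] at h2

omit hS in
/-- A functional detecting an element of order four. -/
theorem exists_four_functional {A : Type u} [AddCommGroup A] [Finite A] {R : Type*} [CommRing R]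
    (h4 : (4 : R) = 0) (h2 : (2 : R) ≠ 0) (hA : ∀ x : A, ∃ k : ℕ, (2 ^ k) • x = 0) {x : A}
    (hx : 2 • x ≠ 0) : ∃ f : A →+ R, (2 : R) • f ≠ 0 := by
  classical
  obtain ⟨ι, _, p, hp, e, ⟨E⟩⟩ := AddCommGroup.equiv_directSum_zmod_of_finite A
  obtain ⟨i, hi⟩ : ∃ i, 2 • (E x) i ≠ 0 := by
    by_contra hcon
    push Not at hcon
    refine hx (E.injective ?_)
    rw [map_zero, map_nsmul]
    exact DFinsupp.ext fun i => hcon i
  set N := p i ^ e i with hN
  set y := E.symm (DirectSum.of (fun j => ZMod (p j ^ e j)) i 1) with hy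
  obtain ⟨k, hk⟩ := hA y
  have hdvd : N ∣ 2 ^ k := by
    have h := congrArg (fun z => (E z) i) hk
    simp only [map_nsmul, hy, AddEquiv.apply_symm_apply, map_zero, DirectSum.zero_apply] at h
    rw [← map_nsmul, DirectSum.of_eq_same, nsmul_eq_mul, mul_one] at h
    exact (ZMod.natCast_eq_zero_iff _ _).1 h
  obtain ⟨j, -, hj⟩ := (Nat.dvd_prime_pow Nat.prime_two).1 hdvd
  have hj2 : 2 ≤ j := by
    by_contra hlt
    refine hi ?_
    have hc : ((2 : ℕ) : ZMod N) = 0 := by
      rw [ZMod.natCast_eq_zero_iff, hj]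
      exact Nat.dvd_trans (Nat.pow_dvd_pow 2 (show j ≤ 1 by omega)) (by norm_num)
    rw [nsmul_eq_mul]
    exact mul_eq_zero_of_left hc _
  have hNR : (Int.castAddHom R) (N : ℤ) = 0 := by
    obtain ⟨j', rfl⟩ : ∃ j', j = j' + 2 := ⟨j - 2, by omega⟩
    show ((N : ℤ) : R) = 0
    rw [Int.cast_natCast, hj, pow_add, Nat.cast_mul]
    norm_num
    rw [h4, mul_zero]
  let f : A →+ R := (ZMod.lift N ⟨Int.castAddHom R, hNR⟩).comp
    ((DFinsupp.evalAddMonoidHom i).comp E.toAddMonoidHom)
  refine ⟨f, fun h => h2 ?_⟩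
  have hf : f y = 1 := by
    show ZMod.lift N ⟨Int.castAddHom R, hNR⟩ ((E y) i) = 1
    rw [hy, AddEquiv.apply_symm_apply, DirectSum.of_eq_same, ← Int.cast_one, ZMod.lift_coe]
    simp
  have := DFunLike.congr_fun h y
  rw [AddMonoidHom.smul_apply, hf, AddMonoidHom.zero_apply, smul_eq_mul, mul_one] at this
  exact this

variable {G : Type u} [Group G] [Finite G]

/-- The commutator map of a group of class two with elementary abelian derived group vanishes. -/
theorem commute_of_class_two (hC : CIT G) (φ : G →* G₀) (hφ : Function.Surjective φ)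
    (hU : IsPGroup 2 ↥φ.ker) (hcent : ∀ a ∈ φ.ker, ∀ b ∈ φ.ker, ∀ c ∈ φ.ker, Commute (a * b * a⁻¹ * b⁻¹) c)
    (hsq : ∀ a ∈ φ.ker, ∀ b ∈ φ.ker, (a * b * a⁻¹ * b⁻¹) * (a * b * a⁻¹ * b⁻¹) = 1) :
    ∀ a ∈ φ.ker, ∀ b ∈ φ.ker, Commute a b := by
  classical
  haveI := charTwo (F := F) m
  set U := φ.ker with hUdef
  set Z : Subgroup G := U ⊓ centralizer (U : Set G) with hZ
  set K : Subgroup G := ⁅U, U⁆ with hK
  have hKZ : K ≤ Z := commutator_le.2 fun a ha b hb => by
    refine Subgroup.mem_inf.2 ⟨mul_mem (mul_mem (mul_mem ha hb) (inv_mem ha)) (inv_mem hb),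
      mem_centralizer_iff.2 fun c hc => ?_⟩
    exact (hcent a ha b hb c hc).eq.symm
  haveI hKc : IsMulCommutative ↥K := ⟨⟨fun a b => Subtype.ext
    (mem_centralizer_iff.1 (hKZ b.2).2 a (hKZ a.2).1)⟩⟩
  have hmemK : ∀ {a b : G}, a ∈ U → b ∈ U → a * b * a⁻¹ * b⁻¹ ∈ K := fun ha hb =>
    commutator_mem_commutator ha hb
  have hK2 : ∀ k : ↥K, k * k = 1 := by
    let D : Subgroup G :=
      { carrier := {g | g ∈ Z ∧ g * g = 1}
        one_mem' := ⟨one_mem _, one_mul _⟩
        mul_mem' := fun {a b} ha hb => ⟨mul_mem ha.1 hb.1, by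
          have hc : Commute b a := (mem_centralizer_iff.1 ha.1.2 b hb.1.1)
          rw [hc.mul_mul_mul_comm, ha.2, hb.2, one_mul]⟩
        inv_mem' := fun {a} ha => ⟨inv_mem ha.1, by rw [← mul_inv_rev, ha.2, inv_one]⟩ }
    have hKD : K ≤ D := commutator_le.2 fun a ha b hb => ⟨hKZ (hmemK ha hb), hsq a ha b hb⟩
    exact fun k => Subtype.ext (hKD k.2).2
  -- the quotient by the centre
  let Vm := ↥U ⧸ center ↥U
  have hVcomm : ∀ a b : Vm, a * b = b * a := by
    intro a b
    obtain ⟨a, rfl⟩ := QuotientGroup.mk'_surjective _ a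
    obtain ⟨b, rfl⟩ := QuotientGroup.mk'_surjective _ b
    rw [← map_mul, ← map_mul, QuotientGroup.mk'_eq_mk']
    refine ⟨(a * b)⁻¹ * (b * a), mem_center_iff.2 fun c => Subtype.ext ?_, by group⟩
    have h := (hKZ (hmemK (inv_mem b.2) (inv_mem a.2))).2
    have h' := mem_centralizer_iff.1 h c c.2
    simpa [mul_assoc] using h'
  letI : CommGroup Vm := { (inferInstance : Group Vm) with mul_comm := hVcomm }
  have hsqc : ∀ a b : G, a ∈ U → b ∈ U → Commute (a * a) b := fun a b ha hb => by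
    have h1 := hcent a ha b hb a ha
    have h2 := hsq a ha b hb
    show a * a * b = b * (a * a)
    calc a * a * b = (a * (a * b * a⁻¹ * b⁻¹)) * (b * a) := by group
      _ = ((a * b * a⁻¹ * b⁻¹) * a) * (b * a) := by rw [h1.eq]
      _ = ((a * b * a⁻¹ * b⁻¹) * (a * b * a⁻¹ * b⁻¹)) * (b * a * a) := by group
      _ = b * (a * a) := by rw [h2, one_mul, mul_assoc]
  have hV2 : ∀ v : Additive Vm, 2 • v = 0 := by
    intro v
    obtain ⟨a, ha⟩ := QuotientGroup.mk'_surjective _ (Additive.toMul v)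
    refine Additive.toMul.injective ?_
    rw [toMul_nsmul, ← ha, ← map_pow, toMul_zero]
    refine (QuotientGroup.eq_one_iff _).2 (mem_center_iff.2 fun c => Subtype.ext ?_)
    rw [pow_two]
    exact (hsqc a c a.2 c.2).eq.symm
  letI : Module (ZMod 2) (Additive Vm) := AddCommGroup.zmodModule hV2
  letI : CommGroup ↥K := { (inferInstance : Group ↥K) with mul_comm := hKc.is_comm.comm }
  letI : Module (ZMod 2) (Additive ↥K) := AddCommGroup.zmodModule fun k => by
    refine Additive.toMul.injective ?_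
    rw [toMul_nsmul, pow_two, hK2, toMul_zero]
  -- representations
  haveI hKn : K.Normal := commutator_normal U U
  let χ : Representation (ZMod 2) G (Additive ↥K) :=
    { toFun := fun x => AddMonoidHom.toZModLinearMap 2
        (MonoidHom.toAdditive (MulAut.conjNormal x : ↥K ≃* ↥K).toMonoidHom)
      map_one' := LinearMap.ext fun a => by simp
      map_mul' := fun x y => LinearMap.ext fun a => by simp }
  have hχe : ∀ x (a : ↥K), χ x (Additive.ofMul a) = Additive.ofMul (MulAut.conjNormal x a) := fun x a => rfl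
  obtain ⟨σ, hσ, hσe'⟩ := exists_descend φ hφ χ (fun x hx y => by
      obtain ⟨y, rfl⟩ := Additive.ofMul.surjective y
      rw [hχe]
      refine congrArg Additive.ofMul (Subtype.ext ?_)
      rw [MulAut.conjNormal_apply]
      exact mul_inv_eq_iff_eq_mul.2 (mem_centralizer_iff.1 (hKZ y.2).2 x hx))
    (fun x hx hxU y hy => by
      obtain ⟨y, rfl⟩ := Additive.ofMul.surjective y
      rw [hχe] at hy
      have h' := congrArg Subtype.val (Additive.ofMul.injective hy)
      rw [MulAut.conjNormal_apply] at h'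
      have := hC.eq_one_of_commute_mem (hU.to_le (hKZ.trans inf_le_left)) y.2 hx
        (fun e => hxU (e ▸ one_mem _)) (mul_inv_eq_iff_eq_mul.1 h')
      exact congrArg Additive.ofMul (Subtype.ext this : y = 1))
  have hσe : ∀ x (a : ↥K), σ (φ x) (Additive.ofMul a) = Additive.ofMul (MulAut.conjNormal x a) :=
    fun x a => hσe' x _
  have hcj : ∀ x : G, center ↥U ≤ (center ↥U).comap (MulAut.conjNormal x : ↥U ≃* ↥U).toMonoidHom := by
    intro x a ha
    refine mem_center_iff.2 fun c => ?_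
    obtain ⟨c, rfl⟩ := (MulAut.conjNormal x : ↥U ≃* ↥U).surjective c
    rw [MulEquiv.coe_toMonoidHom, ← map_mul, ← map_mul, mem_center_iff.1 ha c]
  let cj' : G → (Vm →* Vm) := fun x =>
    QuotientGroup.map _ _ (MulAut.conjNormal x : ↥U ≃* ↥U).toMonoidHom (hcj x)
  let ψ : Representation (ZMod 2) G (Additive Vm) :=
    { toFun := fun x => AddMonoidHom.toZModLinearMap 2 (MonoidHom.toAdditive (cj' x))
      map_one' := LinearMap.ext fun a => by
        obtain ⟨a', ha⟩ := QuotientGroup.mk'_surjective _ (Additive.toMul a)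
        show Additive.ofMul (cj' 1 (Additive.toMul a)) = a
        rw [← ha]
        refine Additive.toMul.injective ?_
        show cj' 1 (QuotientGroup.mk' _ a') = Additive.toMul a
        rw [← ha]
        show QuotientGroup.mk' _ (MulAut.conjNormal (1 : G) a') = _
        rw [map_one]
        rfl
      map_mul' := fun x y => LinearMap.ext fun a => by
        obtain ⟨a', ha⟩ := QuotientGroup.mk'_surjective _ (Additive.toMul a)
        show Additive.ofMul (cj' (x * y) (Additive.toMul a)) = Additive.ofMul (cj' x (cj' y (Additive.toMul a)))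
        rw [← ha]
        refine congrArg Additive.ofMul ?_
        show QuotientGroup.mk' _ (MulAut.conjNormal (x * y) a') =
          QuotientGroup.mk' _ (MulAut.conjNormal x (MulAut.conjNormal y a'))
        rw [map_mul, MulAut.mul_apply] }
  have hψe : ∀ x (a : ↥U), ψ x (Additive.ofMul (QuotientGroup.mk' _ a)) =
      Additive.ofMul (QuotientGroup.mk' _ (MulAut.conjNormal x a)) := fun x a => rfl
  have hmk : ∀ v : Additive Vm, ∃ a : ↥U, Additive.ofMul (QuotientGroup.mk' _ a) = v := fun v =>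
    (QuotientGroup.mk'_surjective _ (Additive.toMul v)).elim fun a ha => ⟨a, congrArg Additive.ofMul ha⟩
  obtain ⟨ρ, hρ, hρe⟩ := exists_descend φ hφ ψ (fun x hx v => by
      obtain ⟨a, rfl⟩ := hmk v
      rw [hψe]
      refine congrArg Additive.ofMul ?_
      rw [show MulAut.conjNormal x a = (⟨x, hx⟩ : ↥U) * a * (⟨x, hx⟩ : ↥U)⁻¹ from
        Subtype.ext (MulAut.conjNormal_apply x a), map_mul, map_mul, map_inv, mul_comm, inv_mul_cancel_left])
    (fun x hx hxU v hv => by
      obtain ⟨a, rfl⟩ := hmk v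
      rw [hψe] at hv
      have h1 := QuotientGroup.eq.1 (Additive.ofMul.injective hv)
      by_contra hne
      have haZ : (a : G) ∉ Z := fun h => hne (congrArg Additive.ofMul ((QuotientGroup.eq_one_iff a).2
        (mem_center_iff.2 fun c => Subtype.ext (mem_centralizer_iff.1 h.2 c c.2))))
      have hZn : ∀ g : G, g ∈ normalizer (Z : Set G) := fun g => by
        rw [Subgroup.normalizer_eq_top]; exact mem_top g
      obtain ⟨k, hk⟩ := pow_two_of_mem hU a.2
      refine hxU ?_
      rw [hC.eq_one_of_commute_mod (hU.to_le inf_le_left) (hZn _) (hZn x) (k := k) (hk ▸ one_mem _) haZ hx ?_]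
      · exact one_mem _
      have h2 : a * (MulAut.conjNormal x a)⁻¹ ∈ center ↥U := by
        have h3 := mem_center_iff.1 h1 (MulAut.conjNormal x a)
        rw [show a * (MulAut.conjNormal x a)⁻¹ = (MulAut.conjNormal x a) *
          ((MulAut.conjNormal x a)⁻¹ * a) * (MulAut.conjNormal x a)⁻¹ by group, h3]
        simpa using h1
      have h4 := inv_mem h2
      rw [mul_inv_rev, inv_inv] at h4
      have h5 : ((MulAut.conjNormal x a * a⁻¹ : ↥U) : G) = x * a * x⁻¹ * (a : G)⁻¹ := by
        rw [coe_mul, coe_inv, MulAut.conjNormal_apply]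
      rw [← h5]
      exact ⟨SetLike.coe_mem _, mem_centralizer_iff.2 fun c hc =>
        congrArg Subtype.val (mem_center_iff.1 h4 ⟨c, hc⟩)⟩)
  -- the commutator map
  let out : Additive Vm → ↥U := fun v => (hmk v).choose
  have hout : ∀ v, Additive.ofMul (QuotientGroup.mk' _ (out v)) = v := fun v => (hmk v).choose_spec
  let f : Additive Vm → Additive Vm → Additive ↥K := fun v w =>
    Additive.ofMul ⟨(out v : G) * out w * (out v : G)⁻¹ * (out w : G)⁻¹, hmemK (out v).2 (out w).2⟩
  have hf : ∀ a b : ↥U, f (Additive.ofMul (QuotientGroup.mk' _ a)) (Additive.ofMul (QuotientGroup.mk' _ b)) =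
      Additive.ofMul ⟨(a : G) * b * (a : G)⁻¹ * (b : G)⁻¹, hmemK a.2 b.2⟩ := by
    intro a b
    have h : ∀ c : ↥U, ∃ z : ↥U, z ∈ center ↥U ∧ out (Additive.ofMul (QuotientGroup.mk' _ c)) = c * z :=
      fun c => ⟨c⁻¹ * out (Additive.ofMul (QuotientGroup.mk' _ c)),
        QuotientGroup.eq.1 (Additive.ofMul.injective (hout _)).symm, by group⟩
    obtain ⟨z, hz, hza⟩ := h a
    obtain ⟨z', hz', hzb⟩ := h b
    refine congrArg Additive.ofMul (Subtype.ext ?_)
    show ((out (Additive.ofMul (QuotientGroup.mk' _ a)) : ↥U) : G) * _ * _ * _ = _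
    rw [hza, hzb]
    have e : a * z * (b * z') * (a * z)⁻¹ * (b * z')⁻¹ = a * b * a⁻¹ * b⁻¹ := by
      have hz₁ : Commute z (b * z') := (mem_center_iff.1 hz _).symm
      have hz₂ : Commute z' (a⁻¹) := (mem_center_iff.1 hz' _).symm
      calc a * z * (b * z') * (a * z)⁻¹ * (b * z')⁻¹
          = a * ((z * (b * z')) * z⁻¹) * a⁻¹ * (b * z')⁻¹ := by group
        _ = a * b * (z' * a⁻¹) * z'⁻¹ * b⁻¹ := by rw [hz₁.eq]; group
        _ = a * b * a⁻¹ * b⁻¹ := by rw [hz₂.eq]; group
    exact congrArg Subtype.val e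
  have hadd : ∀ v v' w, f (v + v') w = f v w + f v' w := by
    intro v v' w
    obtain ⟨a, rfl⟩ := hmk v
    obtain ⟨a', rfl⟩ := hmk v'
    obtain ⟨b, rfl⟩ := hmk w
    rw [← ofMul_mul, ← map_mul, hf, hf, hf, ← ofMul_mul]
    refine congrArg Additive.ofMul (Subtype.ext ?_)
    show _ = (a : G) * b * (a : G)⁻¹ * (b : G)⁻¹ * ((a' : G) * b * (a' : G)⁻¹ * (b : G)⁻¹)
    rw [(hcent a a.2 b b.2 ((a' : G) * b * (a' : G)⁻¹ * (b : G)⁻¹)
      (mul_mem (mul_mem (mul_mem a'.2 b.2) (inv_mem a'.2)) (inv_mem b.2))).eq]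
    show ((a * a' : ↥U) : G) * b * ((a * a' : ↥U) : G)⁻¹ * (b : G)⁻¹ = _
    rw [coe_mul]
    have h1 := (hcent a' a'.2 b b.2 a a.2).eq
    calc (a : G) * a' * b * ((a : G) * a')⁻¹ * (b : G)⁻¹
        = ((a : G) * ((a' : G) * b * (a' : G)⁻¹ * (b : G)⁻¹)) * ((b : G) * (a : G)⁻¹ * (b : G)⁻¹) := by group
      _ = (((a' : G) * b * (a' : G)⁻¹ * (b : G)⁻¹) * a) * ((b : G) * (a : G)⁻¹ * (b : G)⁻¹) := by rw [h1]
      _ = _ := by group
  have hanti : ∀ v w, f v w = f w v := by
    intro v w
    refine Additive.toMul.injective ?_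
    rw [← inv_eq_of_mul_eq_one_right (hK2 (Additive.toMul (f w v)))]
    refine eq_inv_of_mul_eq_one_left (Subtype.ext ?_)
    show (out v : G) * out w * (out v : G)⁻¹ * (out w : G)⁻¹ *
      ((out w : G) * out v * (out w : G)⁻¹ * (out v : G)⁻¹) = 1
    group
  let β₀ : Additive Vm →ₗ[ZMod 2] Additive Vm →ₗ[ZMod 2] Additive ↥K :=
    AddMonoidHom.toZModLinearMap 2 (AddMonoidHom.mk' (fun v => AddMonoidHom.toZModLinearMap 2
      (AddMonoidHom.mk' (f v) fun w w' => by rw [hanti, hadd, hanti w, hanti w']))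
      fun v v' => LinearMap.ext fun w => hadd v v' w)
  have hβ₀ : ∀ g v w, β₀ (ρ g v) (ρ g w) = σ g (β₀ v w) := by
    intro g v w
    obtain ⟨x, rfl⟩ := hφ g
    obtain ⟨a, rfl⟩ := hmk v
    obtain ⟨b, rfl⟩ := hmk w
    rw [hρe, hρe, hψe, hψe]
    show f _ _ = σ (φ x) (f _ _)
    rw [hf, hf, hσe]
    refine congrArg Additive.ofMul (Subtype.ext ?_)
    simp only [MulAut.conjNormal_apply]
    group
  -- extend the scalars
  letI := ZMod.algebra F 2
  obtain ⟨ρF, hρF, hρFe⟩ := exists_baseChange F hρ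
  obtain ⟨σF, hσF, hσFe⟩ := exists_baseChange F hσ
  haveI : Finite (F ⊗[ZMod 2] Additive Vm) := Module.finite_of_finite F
  haveI : Finite (F ⊗[ZMod 2] Additive ↥K) := Module.finite_of_finite F
  let βF : (F ⊗[ZMod 2] Additive Vm) →ₗ[F] (F ⊗[ZMod 2] Additive Vm) →ₗ[F] (F ⊗[ZMod 2] Additive ↥K) :=
    ((LinearMap.baseChangeHom (ZMod 2) F (Additive Vm) (Additive ↥K)).comp β₀).liftBaseChange F
  have hβe : ∀ c d v w, βF (c ⊗ₜ[ZMod 2] v) (d ⊗ₜ[ZMod 2] w) = (c * d) ⊗ₜ[ZMod 2] β₀ v w := by
    intro c d v w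
    simp [βF, TensorProduct.smul_tmul', smul_eq_mul]
  have h0 : βF = 0 := by
    refine bilinear_eq_zero hρF hρF hσF βF fun g y z => ?_
    induction y using TensorProduct.induction_on with
    | zero => simp
    | add y y' h h' => simp [h, h']
    | tmul c v =>
      induction z using TensorProduct.induction_on with
      | zero => simp
      | add z z' h h' => simp [h, h']
      | tmul d w => rw [hρFe, hρFe, hβe, hβe, hσFe, hβ₀]
  intro a ha b hb
  by_contra hne
  have h1 : (1 : F) ⊗ₜ[ZMod 2] β₀ (Additive.ofMul (QuotientGroup.mk' _ ⟨a, ha⟩))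
      (Additive.ofMul (QuotientGroup.mk' _ ⟨b, hb⟩)) = (0 : F ⊗[ZMod 2] Additive ↥K) := by
    rw [← one_mul (1 : F), ← hβe, h0]; rfl
  obtain ⟨l, hl⟩ : ∃ l : F →ₗ[ZMod 2] ZMod 2, l 1 ≠ 0 := by
    by_contra hcon
    push Not at hcon
    exact one_ne_zero ((Module.forall_dual_apply_eq_zero_iff (ZMod 2) (1 : F)).1 hcon)
  have h2 := congrArg ((TensorProduct.lid (ZMod 2) (Additive ↥K)).toLinearMap.comp
    (TensorProduct.map l LinearMap.id)) h1
  rw [map_zero] at h2
  simp only [LinearMap.comp_apply, TensorProduct.map_tmul, LinearMap.id_apply, LinearEquiv.coe_coe,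
    TensorProduct.lid_tmul] at h2
  have h3 := (smul_eq_zero.1 h2).resolve_left hl
  change f _ _ = 0 at h3
  rw [hf] at h3
  have h4 : a * b * a⁻¹ * b⁻¹ = 1 := congrArg Subtype.val (congrArg Additive.toMul h3)
  exact hne (mul_inv_eq_iff_eq_mul.1 (mul_inv_eq_one.1 h4))

/-- The kernel is abelian. -/
theorem commute_ker : ∀ (n : ℕ) {G : Type u} [Group G] [Finite G], Nat.card G ≤ n → CIT G →
    ∀ φ : G →* G₀, Function.Surjective φ → IsPGroup 2 ↥φ.ker → ∀ a ∈ φ.ker, ∀ b ∈ φ.ker, Commute a b := by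
  intro n
  induction n using Nat.strong_induction_on with
  | _ n ih =>
  intro G _ _ hn hC φ hφ hU
  by_contra hcon
  set U := φ.ker with hUdef
  set K : Subgroup G := ⁅U, U⁆ with hK
  have hKne : K ≠ ⊥ := fun h => hcon fun a ha b hb => by
    have := commutator_mem_commutator ha hb
    rw [← hK, h, mem_bot] at this
    exact commutatorElement_eq_one_iff_commute.1 this
  have hKU : K ≤ U := commutator_le.2 fun a ha b hb =>
    mul_mem (mul_mem (mul_mem ha hb) (inv_mem ha)) (inv_mem hb)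
  have hmin : ∀ N : Subgroup G, N.Normal → N ≤ K → N ≠ ⊥ → N = K := by
    intro N hNn hNK hN
    refine le_antisymm hNK (commutator_le.2 fun a ha b hb => ?_)
    have hlt : Nat.card (G ⧸ N) < Nat.card G := by
      rw [N.card_eq_card_quotient_mul_card_subgroup]
      exact lt_mul_of_one_lt_right Nat.card_pos ((Subgroup.one_lt_card_iff_ne_bot N).2 hN)
    let φ' : G ⧸ N →* G₀ := QuotientGroup.lift N φ fun x hx => hKU (hNK hx)
    have hker : φ'.ker = U.map (QuotientGroup.mk' N) := QuotientGroup.ker_lift _ _ _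
    have hU' : IsPGroup 2 ↥φ'.ker := hker ▸ hU.map _
    have hmem : ∀ {x}, x ∈ U → QuotientGroup.mk' N x ∈ φ'.ker := fun hx => hker ▸ mem_map_of_mem _ hx
    have h := ih (Nat.card (G ⧸ N)) (by omega) le_rfl (hC.quotient N (hU.to_le (hNK.trans hKU))) φ'
      (fun y => (hφ y).elim fun x hx => ⟨QuotientGroup.mk' N x, hx⟩) hU' _ (hmem ha) _ (hmem hb)
    rw [← commutatorElement_eq_one_iff_commute] at h
    rw [← QuotientGroup.eq_one_iff]
    exact (map_commutatorElement (QuotientGroup.mk' N) a b).trans h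
  set Z : Subgroup G := U ⊓ centralizer (U : Set G) with hZ
  have hKn : K.Normal := commutator_normal U U
  have hKZne : K ⊓ Z ≠ ⊥ := by
    haveI := hKn
    have h := PGroups.inf_center_ne_bot hU (K.subgroupOf U) fun h => hKne
      (le_bot_iff.1 fun x hx => by
        have : (⟨x, hKU hx⟩ : ↥U) ∈ K.subgroupOf U := hx
        rw [h, mem_bot] at this
        exact mem_bot.2 (congrArg Subtype.val this))
    obtain ⟨z, ⟨hzK, hzc⟩, hz1⟩ := (Subgroup.bot_or_exists_ne_one _).resolve_left h
    intro h0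
    refine hz1 (Subtype.ext (mem_bot.1 (h0 ▸ (⟨hzK, z.2, mem_centralizer_iff.2 fun c hc => ?_⟩ :
      (z : G) ∈ K ⊓ Z))))
    exact congrArg Subtype.val (mem_center_iff.1 hzc ⟨c, hc⟩)
  have hKZ : K ≤ Z := (hmin (K ⊓ Z) inferInstance inf_le_left hKZne) ▸ inf_le_right
  let D : Subgroup G :=
    { carrier := {g | g ∈ K ∧ g * g = 1}
      one_mem' := ⟨one_mem _, one_mul _⟩
      mul_mem' := fun {a b} ha hb => ⟨mul_mem ha.1 hb.1, by
        have hc : Commute b a := mem_centralizer_iff.1 (hKZ ha.1).2 b (hKU hb.1)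
        rw [hc.mul_mul_mul_comm, ha.2, hb.2, one_mul]⟩
      inv_mem' := fun {a} ha => ⟨inv_mem ha.1, by rw [← mul_inv_rev, ha.2, inv_one]⟩ }
  haveI hDn : D.Normal := ⟨fun a ha g => ⟨hKn.conj_mem a ha.1 g, by
    rw [show g * a * g⁻¹ * (g * a * g⁻¹) = g * (a * a) * g⁻¹ by group, ha.2]; group⟩⟩
  have hDne : D ≠ ⊥ := fun h => by
    obtain ⟨t, ht, ht2⟩ := exists_invol (hU.to_le hKU) hKne
    have : t ∈ D := ⟨ht, by rw [← pow_two, ← ht2, pow_orderOf_eq_one]⟩
    rw [h, mem_bot] at this
    exact H65.ne_one_of_orderOf ht2 this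
  have hKD : K ≤ D := (hmin D hDn (fun a ha => ha.1) hDne).ge
  exact hcon (commute_of_class_two hC φ hφ hU
    (fun a ha b hb c hc => (mem_centralizer_iff.1 (hKZ (commutator_mem_commutator ha hb)).2 c hc).symm)
    fun a ha b hb => (hKD (commutator_mem_commutator ha hb)).2)

/-- The kernel is elementary abelian. -/
theorem elementary_ker (hC : CIT G) (φ : G →* G₀) (hφ : Function.Surjective φ) (hU : IsPGroup 2 ↥φ.ker) :
    (∀ a ∈ φ.ker, ∀ b ∈ φ.ker, Commute a b) ∧ ∀ a ∈ φ.ker, a * a = 1 := by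
  have hcomm := commute_ker _ le_rfl hC φ hφ hU
  refine ⟨hcomm, fun a ha => ?_⟩
  by_contra hne
  haveI := charTwo (F := F) m
  set U := φ.ker with hUdef
  haveI hUc : IsMulCommutative ↥U := ⟨⟨fun a b => Subtype.ext (hcomm a a.2 b b.2).eq⟩⟩
  letI : CommGroup ↥U := { (inferInstance : Group ↥U) with mul_comm := hUc.is_comm.comm }
  let cj' : G → (Additive ↥U →+ Additive ↥U) := fun x =>
    MonoidHom.toAdditive (MulAut.conjNormal x : ↥U ≃* ↥U).toMonoidHom
  let ψ : Representation (Witt2 F) G (Additive ↥U →+ Witt2 F) :=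
    { toFun := fun x =>
        { toFun := fun f => f.comp (cj' x⁻¹)
          map_add' := fun f f' => rfl
          map_smul' := fun c f => rfl }
      map_one' := LinearMap.ext fun f => AddMonoidHom.ext fun v => by simp [cj']
      map_mul' := fun x y => LinearMap.ext fun f => AddMonoidHom.ext fun v => by simp [cj'] }
  obtain ⟨ρ, hρ, -⟩ := exists_descend φ hφ ψ (fun x hx f => AddMonoidHom.ext fun v => by
      show f (Additive.ofMul (MulAut.conjNormal x⁻¹ (Additive.toMul v))) = f v
      refine congrArg f (congrArg Additive.ofMul (Subtype.ext ?_))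
      rw [MulAut.conjNormal_apply]
      exact mul_inv_eq_iff_eq_mul.2 (hcomm _ (inv_mem hx) _ (Additive.toMul v).2).eq)
    (fun x hx hxU f hf => by
      let d : Additive ↥U →+ Additive ↥U := cj' x⁻¹ - AddMonoidHom.id _
      have hd : Function.Injective d := by
        rw [injective_iff_map_eq_zero]
        intro v hv
        have h0 : cj' x⁻¹ v = v := sub_eq_zero.1 hv
        have h : MulAut.conjNormal x⁻¹ (Additive.toMul v) = Additive.toMul v := congrArg Additive.toMul h0
        have h' := congrArg Subtype.val h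
        rw [MulAut.conjNormal_apply] at h'
        have := hC.eq_one_of_commute_mem hU (Additive.toMul v).2 (g := x⁻¹) (by rwa [orderOf_inv])
          (fun e => hxU (by rw [inv_eq_one.1 e]; exact one_mem _)) (mul_inv_eq_iff_eq_mul.1 h')
        exact Additive.toMul.injective (Subtype.ext this)
      refine AddMonoidHom.ext fun v => ?_
      obtain ⟨w, rfl⟩ := Finite.injective_iff_surjective.1 hd v
      have := DFunLike.congr_fun hf w
      show f (cj' x⁻¹ w - w) = 0
      rw [map_sub]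
      exact sub_eq_zero.2 this)
  haveI : Finite (Witt2 F) := Finite.of_injective (fun a : Witt2 F => (a.x, a.y)) fun a b h =>
    Witt2.ext (congrArg Prod.fst h) (congrArg Prod.snd h)
  obtain ⟨f, hf⟩ := exists_four_functional (A := Additive ↥U) (R := Witt2 F) Witt2.four_eq_zero
    (fun h => by simpa using congrArg Witt2.y (show (1 : Witt2 F) + 1 = 0 by rw [one_add_one_eq_two, h]))
    (fun v => (hU (Additive.toMul v)).elim fun k hk => ⟨k, Additive.toMul.injective hk⟩)
    (x := Additive.ofMul (⟨a, ha⟩ : ↥U)) fun h => hne (by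
      have := congrArg Subtype.val (congrArg Additive.toMul h)
      simpa [pow_two] using this)
  haveI : Finite (Additive ↥U →+ Witt2 F) := Finite.of_injective _ DFunLike.coe_injective
  exact hf (two_smul_eq_zero hρ f)

end Cfsg.Agent.H65.CIT.SzRep

namespace Cfsg.Agent.H65.CIT

open Subgroup Cfsg.Agent.Suzuki

universe u

variable {G : Type u} [Group G] [Finite G]

/-- A non-trivial normal 2-subgroup with Suzuki quotient is elementary abelian. -/
theorem elementary_suzuki (hC : CIT G) (hns : ¬ Group.IsSolvable G) {N : Subgroup G} [N.Normal]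
    (hN : N ≠ ⊥) (hN2 : IsPGroup 2 ↥N) (hS : Cfsg.IsSuzuki (G ⧸ N)) :
    IsMulCommutative ↥N ∧ ∀ x ∈ N, x * x = 1 := by
  classical
  haveI : Fact (Nat.Prime 2) := ⟨Nat.prime_two⟩
  haveI hsimp : IsSimpleGroup (G ⧸ N) := hS.1
  have hQns : ¬ Group.IsSolvable (G ⧸ N) := fun h => hns <| by
    haveI : Group.IsNilpotent ↥N := hN2.isNilpotent
    exact (Group.isSolvable_iff_subgroup_quotient _).2 ⟨inferInstance, h⟩
  have hQna : ¬ IsMulCommutative (G ⧸ N) := fun h =>
    hQns (isSolvable_of_comm fun a b => h.is_comm.comm a b)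
  obtain rfl : N = Cfsg.pCore 2 G := by
    refine le_antisymm (Cores.le_pCore hN2) ?_
    haveI hn : ((Cfsg.pCore 2 G).map (QuotientGroup.mk' N)).Normal :=
      Subgroup.Normal.map inferInstance _ (QuotientGroup.mk'_surjective N)
    rcases hn.eq_bot_or_eq_top with h | h
    · intro x hx
      rw [← QuotientGroup.eq_one_iff, ← mem_bot, ← h]
      exact mem_map_of_mem _ hx
    · exfalso
      refine hQns ?_
      haveI : Group.IsNilpotent ↥((Cfsg.pCore 2 G).map (QuotientGroup.mk' N)) :=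
        (Cores.pCore_isPGroup.map _).isNilpotent
      rw [h] at this
      exact Group.isSolvable_of_surjective (f := (topEquiv : _ ≃* G ⧸ N).toMonoidHom) (Equiv.surjective _)
  have hQC := hC.quotient (Cfsg.pCore 2 G) Cores.pCore_isPGroup
  obtain ⟨S⟩ : Nonempty (Sylow 2 (G ⧸ Cfsg.pCore 2 G)) := inferInstance
  obtain ⟨T, hT⟩ : ∃ T, S ≠ T := by
    by_contra hcon
    push Not at hcon
    haveI : Subsingleton (Sylow 2 (G ⧸ Cfsg.pCore 2 G)) := ⟨fun x y => (hcon x).symm.trans (hcon y)⟩
    haveI := S.normal_of_subsingleton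
    have h1 := Cores.le_pCore (p := 2) (N := (S : Subgroup (G ⧸ Cfsg.pCore 2 G))) S.2
    rw [Cores.pCore_quotient_pCore, le_bot_iff] at h1
    exact S.ne_bot_of_dvd_card (even_iff_two_dvd.1 (even_of_not_solvable hQns)) h1
  obtain ⟨Fr, -⟩ := exists_frame hQC (oddCore_eq_bot hQC hQns) (quotient_ti hC hN) S T hT
  rcases (H70.SzUnique.classification_of_frame Fr).2 with ⟨n, hn, ⟨e⟩⟩ | ⟨K, _, _, m, hm, hcard, ⟨e⟩⟩
  · obtain ⟨x, hx⟩ := exists_order_three (F := GaloisField 2 n)
    obtain ⟨y, hy⟩ := QuotientGroup.mk'_surjective (Cfsg.pCore 2 G) (e.symm x)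
    have hyo : orderOf (QuotientGroup.mk' (Cfsg.pCore 2 G) y) = 3 := by rw [hy, MulEquiv.orderOf_eq, hx]
    obtain ⟨g, hgodd, hgy⟩ := exists_odd_preimage (QuotientGroup.mk' (Cfsg.pCore 2 G)) (y := y)
      (by rw [hyo]; decide)
    have hg3 : orderOf g = 3 := by
      haveI : Fact (Nat.Prime 3) := ⟨Nat.prime_three⟩
      refine orderOf_eq_prime (eq_one_of_mem_two hN2 ?_ (hgodd.of_dvd_nat (orderOf_pow_dvd 3))) ?_
      · rw [← QuotientGroup.eq_one_iff, QuotientGroup.mk_pow]
        show (QuotientGroup.mk' _ g) ^ 3 = 1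
        rw [hgy, ← hyo, pow_orderOf_eq_one]
      · rintro rfl
        rw [map_one] at hgy
        rw [← hgy, orderOf_one] at hyo
        omega
    obtain ⟨hc, hex⟩ := elementary_of_three hC hN2 hQna (even_of_not_solvable hQns) hg3
    exact ⟨⟨⟨fun a b => Subtype.ext (hc a a.2 b b.2)⟩⟩, hex⟩
  · haveI : SzField K m := ⟨hcard, hm⟩
    let e' := e.trans (lieEquiv (F := K) m).symm
    let φ : G →* ↥(Cfsg.Sz K m) := e'.toMonoidHom.comp (QuotientGroup.mk' (Cfsg.pCore 2 G))
    have hker : φ.ker = Cfsg.pCore 2 G := by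
      ext x
      rw [MonoidHom.mem_ker, ← QuotientGroup.eq_one_iff (N := Cfsg.pCore 2 G)]
      exact e'.map_eq_one_iff
    obtain ⟨hc, hex⟩ := SzRep.elementary_ker hC φ
      (e'.surjective.comp (QuotientGroup.mk'_surjective _)) (hker ▸ hN2)
    rw [hker] at hc hex
    exact ⟨⟨⟨fun a b => Subtype.ext (hc a a.2 b b.2).eq⟩⟩, hex⟩

end Cfsg.Agent.H65.CIT
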