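import Cfsg.Agent.H65.CIT.Witt2
import Cfsg.Agent.Suzuki.Torus

/-!
Representations of the Suzuki groups in characteristic two in which elements of odd order fix only zero: the
highest weights are twists of the natural one.
-/

set_option autoImplicit false
set_option linter.unusedSectionVars false
set_option linter.style.haveILetI false
set_option linter.dupNamespace false

namespace Cfsg.Agent.H65.CIT.SzRep

open Cfsg Matrix MulAction Cfsg.Agent.Suzuki
open scoped Classical

universe u v

/-! ### Representations of 2-groups -/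

section two

variable {P : Type*} [Group P] {F : Type*} [Field F] [CharP F 2]

/-- A 2-group fixes a nonzero vector. -/
theorem exists_fixed {M : Type v} [AddCommGroup M] [Module F M] [Finite M] [Nontrivial M]
    (hP : IsPGroup 2 P) (ρ : Representation F P M) : ∃ y : M, y ≠ 0 ∧ ∀ g, ρ g y = y := by
  haveI : Fact (Nat.Prime 2) := ⟨Nat.prime_two⟩
  letI : MulAction P M :=
    { smul := fun g y => ρ g y
      one_smul := fun y => by show ρ 1 y = y; rw [map_one]; rfl
      mul_smul := fun g h y => by show ρ (g * h) y = ρ g (ρ h y); rw [map_mul]; rfl }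
  have hcard : 2 ∣ Nat.card M := by
    obtain ⟨y, hy⟩ := exists_ne (0 : M)
    have h1 : addOrderOf y = 2 := addOrderOf_eq_prime (by
      rw [two_nsmul, ← one_smul F y, ← add_smul, CharTwo.add_self_eq_zero, zero_smul]) hy
    exact h1 ▸ addOrderOf_dvd_natCard y
  obtain ⟨y, hy, hy0⟩ := hP.exists_fixed_point_of_prime_dvd_card_of_fixed_point M hcard (a := 0)
    (fun g => map_zero (ρ g))
  exact ⟨y, hy0.symm, hy⟩

/-- An element of the group algebra of a 2-group with nonzero augmentation acts injectively. -/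
theorem aug_injective (hP : IsPGroup 2 P) {ι : Type*} [Fintype ι] {a : ι → F} {x : ι → P}
    (hsum : ∑ i, a i ≠ 0) : ∀ (n : ℕ) {M : Type v} [AddCommGroup M] [Module F M] [Finite M]
      (ρ : Representation F P M) (y : M), Nat.card M ≤ n → ∑ i, a i • ρ (x i) y = 0 → y = 0
  | 0, M, _, _, _, _, _, hn, _ => absurd hn (by have := Nat.card_pos (α := M); omega)
  | n + 1, M, _, _, _, ρ, y, hn, hy => by
    by_contra hy0
    haveI : Nontrivial M := ⟨⟨y, 0, hy0⟩⟩
    let C : Submodule F M :=
      { carrier := {z | ∀ g, ρ g z = z}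
        add_mem' := fun {a b} ha hb g => by rw [map_add, ha, hb]
        zero_mem' := fun g => map_zero _
        smul_mem' := fun c z hz g => by rw [map_smul, hz] }
    obtain ⟨z, hz0, hz⟩ := exists_fixed hP ρ
    let ρ' : Representation F P (M ⧸ C) :=
      { toFun := fun g => C.mapQ C (ρ g) fun w hw => by
          show ρ g w ∈ C
          rw [hw g]; exact hw
        map_one' := Submodule.linearMap_qext C (LinearMap.ext fun w => by simp)
        map_mul' := fun g h => Submodule.linearMap_qext C (LinearMap.ext fun w => by simp) }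
    have hlt : Nat.card (M ⧸ C) ≤ n := by
      have h1 : Nat.card (M ⧸ C) < Nat.card M := by
        refine lt_of_le_of_ne (Nat.card_le_card_of_surjective _ C.mkQ_surjective) fun e => hz0 ?_
        have hb := (Nat.bijective_iff_surjective_and_card C.mkQ).2 ⟨C.mkQ_surjective, e.symm⟩
        exact hb.1 (show C.mkQ z = C.mkQ 0 by
          rw [map_zero]; exact (Submodule.Quotient.mk_eq_zero C).2 hz)
      omega
    haveI : Finite (M ⧸ C) := Finite.of_surjective _ C.mkQ_surjective
    have h2 : C.mkQ y = 0 := aug_injective hP hsum n ρ' (C.mkQ y) hlt (by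
      have h3 := congrArg C.mkQ hy
      rw [map_zero, map_sum] at h3
      rw [← h3]
      exact Finset.sum_congr rfl fun i _ => (LinearMap.map_smul C.mkQ (a i) (ρ (x i) y)).symm)
    have h4 : y ∈ C := (Submodule.Quotient.mk_eq_zero C).1 h2
    rw [Finset.sum_congr rfl (fun i _ => by rw [h4 (x i)]), ← Finset.sum_smul] at hy
    exact hy0 ((smul_eq_zero.1 hy).resolve_left hsum)

end two

/-- A nontrivial character has sum zero. -/
theorem sum_hom_eq_zero {A : Type*} [CommGroup A] [Fintype A] {R : Type*} [CommRing R] (ψ : A →* R)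
    (h : ∃ r, IsUnit (ψ r - 1)) : ∑ s, ψ s = 0 := by
  obtain ⟨r, hr⟩ := h
  refine hr.mul_right_eq_zero.1 ?_
  rw [sub_mul, one_mul, Finset.mul_sum, sub_eq_zero]
  exact Fintype.sum_equiv (Equiv.mulLeft r) _ _ fun s => (map_mul ψ r s).symm

/-! ### The Suzuki group -/

variable {F : Type u} [Field F] [Fintype F] (m : ℕ) [hS : SzField F m]
include hS

set_option quotPrecheck false in
set_option hygiene false in
local notation "G₀" => ↥(Cfsg.Sz F m)

/-- Elements of odd order fix only zero. -/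
def Fpf {R : Type*} [CommRing R] {M : Type*} [AddCommGroup M] [Module R M]
    (ρ : Representation R G₀ M) : Prop :=
  ∀ (g : G₀) (x : M), Odd (orderOf g) → g ≠ 1 → ρ g x = x → x = 0

/-- The weight of the point at infinity. -/
def aH : Fˣ →* F where
  toFun s := (s : F) * th m (s : F)
  map_one' := by simp
  map_mul' s r := by rw [Units.val_mul, th_mul]; ring

theorem aH_ne (s : Fˣ) : aH m s ≠ 0 := mul_ne_zero s.ne_zero (by simp)

theorem aH_inv (s : Fˣ) : aH m s⁻¹ = (aH m s)⁻¹ := by
  refine eq_inv_of_mul_eq_one_right ?_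
  rw [← map_mul, mul_inv_cancel, map_one]

theorem aH_eq_one {s : Fˣ} (h : aH m s = 1) : s = 1 := by
  refine Units.ext (eq_one_of_sq_mul_th m ?_)
  have h1 := congrArg (th m) h
  have h2 : aH m s = (s : F) * th m (s : F) := rfl
  rw [h2, th_mul, th_th, th_one] at h1
  linear_combination h1

theorem card_units_cast : ((Fintype.card Fˣ : ℕ) : F) = 1 := by
  haveI := charTwo (F := F) m
  haveI : Fintype Fˣ := inferInstance
  rw [Fintype.card_units, hS.card_eq, Nat.cast_sub Nat.one_le_two_pow, Nat.cast_pow, Nat.cast_two,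
    CharTwo.two_eq_zero, zero_pow (by omega), zero_sub, Nat.cast_one, CharTwo.neg_eq]

theorem odd_card_units : Odd (Fintype.card Fˣ) := by
  rw [Fintype.card_units, hS.card_eq]
  exact Nat.Even.sub_odd Nat.one_le_two_pow (Nat.even_pow.2 ⟨even_two, by omega⟩) odd_one

theorem exists_units_ne_one : ∃ s : Fˣ, s ≠ 1 := by
  obtain ⟨x, hx0, hx1⟩ := exists_ne_zero_one (F := F) m
  exact ⟨Units.mk0 x hx0, fun h => hx1 (congrArg Units.val h)⟩

section proj

variable {R : Type*} [CommRing R] {M : Type v} [AddCommGroup M] [Module R M] (ρ : Representation R G₀ M)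

/-- The projection to a weight space of the torus. -/
noncomputable def tproj (χ : Fˣ →* R) : M →ₗ[R] M := ∑ s : Fˣ, χ s⁻¹ • ρ (t m s)

theorem tproj_apply (χ : Fˣ →* R) (x : M) : tproj m ρ χ x = ∑ s : Fˣ, χ s⁻¹ • ρ (t m s) x := by
  simp [tproj]

theorem rho_mul (g h : G₀) (x : M) : ρ (g * h) x = ρ g (ρ h x) := by rw [map_mul]; rfl

theorem rho_one (x : M) : ρ (1 : G₀) x = x := by rw [map_one]; rfl

theorem t_tproj (χ : Fˣ →* R) (r : Fˣ) (x : M) :
    ρ (t m r) (tproj m ρ χ x) = χ r • tproj m ρ χ x := by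
  rw [tproj_apply, map_sum, Finset.smul_sum]
  refine Fintype.sum_equiv (Equiv.mulLeft r) _ _ fun s => ?_
  simp only [Equiv.coe_mulLeft]
  rw [map_smul, ← rho_mul, ← map_mul, smul_smul, _root_.mul_inv_rev, map_mul χ,
    mul_left_comm, ← map_mul χ, mul_inv_cancel, map_one, mul_one]

theorem tproj_t (χ : Fˣ →* R) (r : Fˣ) (x : M) :
    tproj m ρ χ (ρ (t m r) x) = χ r • tproj m ρ χ x := by
  rw [tproj_apply, tproj_apply, Finset.smul_sum]
  refine Fintype.sum_equiv (Equiv.mulRight r) _ _ fun s => ?_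
  simp only [Equiv.coe_mulRight]
  rw [← rho_mul, ← map_mul, smul_smul, _root_.mul_inv_rev, map_mul χ,
    ← mul_assoc, ← map_mul χ, mul_inv_cancel, map_one, one_mul]

theorem tproj_eigen (χ ψ : Fˣ →* R) {x : M} (hx : ∀ s, ρ (t m s) x = ψ s • x) :
    tproj m ρ χ x = (∑ s : Fˣ, χ s⁻¹ * ψ s) • x := by
  rw [tproj_apply, Finset.sum_smul]
  exact Finset.sum_congr rfl fun s _ => by rw [hx, smul_smul]

variable {m ρ}

theorem odd_orderOf_t (s : Fˣ) : Odd (orderOf (t m s)) :=
  (odd_card_units (F := F) m).of_dvd_nat ((orderOf_map_dvd (t m) s).trans orderOf_dvd_card)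

theorem Fpf.eq_zero_of_torus (hρ : Fpf m ρ) {x : M} (hx : ∀ s : Fˣ, ρ (t m s) x = x) : x = 0 := by
  obtain ⟨s, hs⟩ := exists_units_ne_one (F := F) m
  exact hρ _ x (odd_orderOf_t s) (fun h => hs (t_injective m (h.trans (map_one _).symm))) (hx s)

theorem Fpf.sum_torus (hρ : Fpf m ρ) (x : M) : ∑ s : Fˣ, ρ (t m s) x = 0 := by
  refine hρ.eq_zero_of_torus fun r => ?_
  rw [map_sum]
  exact Fintype.sum_equiv (Equiv.mulLeft r) _ _ fun s => by
    rw [Equiv.coe_mulLeft, ← rho_mul, ← map_mul]

end proj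

/-! ### The vectors of the ovoid -/

/-- The column of the point at infinity. -/
def vec (g : G₀) : Fin 4 → F := fun i => toMat m g i 0

/-- The corner entry. -/
def cc (g : G₀) : F := toMat m g 3 0

theorem cc_eq (g : G₀) : cc m g = vec m g 3 := rfl

theorem vec_mul (g h : G₀) : vec m (g * h) = toMat m g *ᵥ vec m h := by
  funext i
  show toMat m (g * h) i 0 = _
  rw [map_mul, Matrix.mul_apply]
  rfl

theorem cc_mul (g h : G₀) : cc m (g * h) = ∑ k, toMat m g 3 k * vec m h k := by
  rw [cc_eq, vec_mul]; rfl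

theorem toMat_u (a b : F) : toMat m (u m a b) = uMat m a b := rfl

theorem toMat_t (s : Fˣ) : toMat m (t m s) = tMat m s := rfl

theorem toMat_w : toMat m (w m : G₀) = !![0, 0, 0, 1; 0, 0, 1, 0; 0, 1, 0, 0; 1, 0, 0, 0] := rfl

theorem vec_one : vec m (1 : G₀) = ![1, 0, 0, 0] := by
  funext i; fin_cases i <;> simp [vec]

theorem vec_u (a b : F) : vec m (u m a b) = ![1, 0, 0, 0] := by
  funext i; fin_cases i <;> simp [vec, toMat_u, uMat]

theorem vec_t (s : Fˣ) : vec m (t m s) = ![aH m s, 0, 0, 0] := by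
  funext i; fin_cases i <;> simp [vec, toMat_t, tMat, aH]

theorem vec_w : vec m (w m : G₀) = ![0, 0, 0, 1] := by
  funext i; fin_cases i <;> simp [vec, toMat_w]

theorem vec_w_u (a b : F) : vec m (w m * u m a b) = ![0, 0, 0, 1] := by
  rw [vec_mul, vec_u, toMat_w]
  funext i; fin_cases i <;> simp [Matrix.mulVec, dotProduct, Fin.sum_univ_four]

theorem cc_u_t (a b : F) (s : Fˣ) : cc m (u m a b * t m s) = 0 := by
  rw [cc_mul, vec_t, toMat_u]; simp [Fin.sum_univ_four, uMat]

theorem cc_big (a b : F) (s : Fˣ) (c d : F) :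
    cc m (u m a b * t m s * w m * u m c d) = (aH m s)⁻¹ := by
  rw [mul_assoc, mul_assoc, cc_mul, vec_mul, vec_w_u, toMat_u, toMat_t]
  simp [Fin.sum_univ_four, uMat, tMat, Matrix.mulVec_diagonal, aH]

/-- The weight with exponent `K`. -/
def wt (K : ℕ) : Fˣ →* F := (powMonoidHom K).comp (aH m)

theorem wt_apply (K : ℕ) (s : Fˣ) : wt m K s = aH m s ^ K := rfl

variable {M : Type v} [AddCommGroup M] [Module F M] (ρ : Representation F G₀ M)

/-- A highest weight vector of weight `K`. -/
structure High (K : ℕ) (x : M) : Prop where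
  ne : x ≠ 0
  one_le : 1 ≤ K
  fix : ∀ a b : F, ρ (u m a b) x = x
  weight : ∀ s : Fˣ, ρ (t m s) x = wt m K s • x

variable {m ρ}

theorem exists_high [Finite M] [Nontrivial M] : ∃ K x, High m ρ K x := by
  classical
  haveI := charTwo (F := F) m
  obtain ⟨y, hy0, hy⟩ := exists_fixed (P := ↥(Suzuki.U m : Subgroup G₀)) (isPGroup_U m)
    (ρ.comp (Suzuki.U m : Subgroup G₀).subtype)
  have hyu : ∀ a b : F, ρ (u m a b) y = y := fun a b => hy ⟨_, u_mem_U m a b⟩
  by_contra hcon
  push Not at hcon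
  have hzero : ∀ j, tproj m ρ (wt m (j + 1)) y = 0 := fun j => by
    by_contra hne
    refine hcon (j + 1) _ ⟨hne, by omega, fun a b => ?_, fun s => t_tproj m ρ _ s y⟩
    rw [tproj_apply, map_sum]
    refine Finset.sum_congr rfl fun s _ => ?_
    rw [map_smul]
    congr 1
    rw [← rho_mul, show u m a b * t m s = t m s * (t m s⁻¹ * u m a b * (t m s⁻¹)⁻¹) by
      rw [map_inv]; group, t_u, rho_mul, hyu]
  set N := Fintype.card Fˣ with hN
  have h1 : ∑ j ∈ Finset.range N, tproj m ρ (wt m (j + 1)) y = y := by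
    simp only [tproj_apply]
    rw [Finset.sum_comm, Finset.sum_eq_single (1 : Fˣ)]
    · rw [← Finset.sum_smul, map_one, rho_one]
      rw [hN, ← Finset.card_univ (α := Fˣ)]
      simp [wt_apply, card_units_cast (F := F) m]
    · intro s _ hs
      rw [← Finset.sum_smul]
      set z := aH m s⁻¹ with hz
      have hz1 : z ≠ 1 := fun h => hs (inv_eq_one.1 (aH_eq_one m h))
      have hzN : z ^ N = 1 := by rw [hz, ← map_pow, hN, pow_card_eq_one, map_one]
      have h2 : ∑ j ∈ Finset.range N, wt m (j + 1) s⁻¹ = 0 := by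
        have h3 := geom_sum_mul z N
        rw [hzN, sub_self] at h3
        have h4 := (mul_eq_zero.1 h3).resolve_right (sub_ne_zero.2 hz1)
        simp only [wt_apply, ← hz, pow_succ, ← Finset.sum_mul, h4, zero_mul]
      rw [h2, zero_smul]
    · intro h; exact absurd (Finset.mem_univ _) h
  rw [Finset.sum_eq_zero fun j _ => hzero j] at h1
  exact hy0 h1.symm

variable {K : ℕ} {x : M}

theorem High.wt_ne_one (hρ : Fpf m ρ) (h : High m ρ K x) : ∃ r : Fˣ, wt m K r ≠ 1 := by
  by_contra hcon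
  push Not at hcon
  exact h.ne (hρ.eq_zero_of_torus fun s => by rw [h.weight, hcon, one_smul])

theorem High.sum_wt_sq (hρ : Fpf m ρ) (h : High m ρ K x) : ∑ s : Fˣ, wt m K s * wt m K s = 0 := by
  haveI := charTwo (F := F) m
  obtain ⟨r, hr⟩ := h.wt_ne_one hρ
  refine sum_hom_eq_zero (wt m K * wt m K) ⟨r, (sub_ne_zero.2 fun e => hr ?_).isUnit⟩
  exact CharTwo.sq_injective (by simpa [pow_two] using e)

theorem High.apply_big (h : High m ρ K x) (a b : F) (s : Fˣ) (c d : F) :
    ρ (u m a b * t m s * w m * u m c d) x = wt m K s⁻¹ • ρ (u m a b) (ρ (w m) x) := by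
  rw [rho_mul, h.fix, show u m a b * t m s * w m = u m a b * (w m * t m s⁻¹) by
    rw [mul_assoc, ← w_t m s]
    rw [w_inv]
    simp [mul_assoc, w_mul_w, ← mul_assoc (w m) (w m)], rho_mul, rho_mul, h.weight, map_smul, map_smul]

theorem High.decomp (h : High m ρ K x) (g : G₀) :
    ∃ a b β : F, ρ g x = cc m g ^ K • ρ (u m a b) (ρ (w m) x) + β • x := by
  rcases bruhat m g with ⟨a, b, s, rfl⟩ | ⟨a, b, s, c, d, rfl⟩
  · refine ⟨0, 0, wt m K s, ?_⟩
    rw [cc_u_t, zero_pow (by have := h.one_le; omega), zero_smul, zero_add, rho_mul, h.weight, map_smul,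
      h.fix]
  · refine ⟨a, b, 0, ?_⟩
    rw [h.apply_big, zero_smul, add_zero, cc_big, wt_apply, aH_inv]

/-- Linear relations between the translates of a highest vector hold between the corner entries. -/
theorem High.coef [Finite M] (hρ : Fpf m ρ) (h : High m ρ K x) {ι : Type*} [Fintype ι] (α : ι → F)
    (g : ι → G₀) (hrel : ∑ i, α i • ρ (g i) x = 0) : ∑ i, α i * cc m (g i) ^ K = 0 := by
  classical
  haveI := charTwo (F := F) m
  by_contra hne
  choose a b β hd using fun i => h.decomp (g i)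
  set y := ρ (w m) x with hy
  have hy0 : y ≠ 0 := fun e => h.ne (by
    have := congrArg (ρ (w m)) e
    rwa [map_zero, hy, ← rho_mul, w_mul_w, rho_one] at this)
  refine hy0 (aug_injective (P := ↥(Suzuki.U m : Subgroup G₀)) (isPGroup_U m)
    (ι := ι × Fˣ) (a := fun p => α p.1 * cc m (g p.1) ^ K)
    (x := fun p => ⟨u m (th m (p.2 : F) * a p.1) ((p.2 : F) ^ 2 * th m (p.2 : F) * b p.1), u_mem_U m _ _⟩)
    ?_ (Nat.card M) (ρ.comp (Suzuki.U m : Subgroup G₀).subtype) y le_rfl ?_)
  · rw [Fintype.sum_prod_type]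
    simp only [Finset.sum_const, Finset.card_univ, nsmul_eq_mul]
    rw [← Finset.mul_sum, card_units_cast m, one_mul]
    exact hne
  · set χ : Fˣ →* F := (wt m K).comp (invMonoidHom : Fˣ →* Fˣ) with hχ
    have hχi : ∀ s, χ s⁻¹ = wt m K s := fun s => by simp [hχ]
    have h0 := congrArg (tproj m ρ χ) hrel
    rw [map_zero, map_sum] at h0
    rw [Fintype.sum_prod_type]
    refine Eq.trans (Finset.sum_congr rfl fun i _ => ?_) h0
    rw [map_smul, hd i, map_add, map_smul, map_smul]
    have hx0 : tproj m ρ χ x = 0 := by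
      rw [tproj_eigen m ρ χ (wt m K) h.weight]
      simp only [hχi]
      rw [h.sum_wt_sq hρ, zero_smul]
    rw [hx0, smul_zero, add_zero, tproj_apply, smul_smul, Finset.smul_sum]
    refine Finset.sum_congr rfl fun s _ => ?_
    show _ • ρ (u m _ _) y = _
    rw [hχi, hy, ← rho_mul m ρ (t m s), show t m s * u m (a i) (b i) =
      (t m s * u m (a i) (b i) * (t m s)⁻¹) * t m s by group, t_u, rho_mul,
      ← rho_mul m ρ (t m s) (w m), show t m s * w m = w m * t m s⁻¹ by
        rw [← w_t m s, w_inv]; simp [mul_assoc, w_mul_w, ← mul_assoc (w m) (w m)],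
      rho_mul, h.weight, map_smul, map_smul, smul_smul (wt m K s), ← map_mul, mul_inv_cancel, map_one,
      one_smul]

/-! ### The element of order five -/

variable (m) in
/-- An element of order five permuting five rational points. -/
def g5 : G₀ := u m 0 1 * w m

theorem vec_g5 (g : G₀) : vec m (g5 m * g) =
    ![vec m g 3 + vec m g 1 + vec m g 0, vec m g 2 + vec m g 0, vec m g 1, vec m g 0] := by
  rw [vec_mul]
  funext i
  fin_cases i <;>
    simp [g5, map_mul, toMat_u, toMat_w, uMat, ovf, Matrix.mulVec, dotProduct, Fin.sum_univ_four] <;> ring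

theorem vec_g5_1 : vec m (g5 m ^ 1 : G₀) = ![1, 1, 0, 1] := by
  rw [pow_one, ← mul_one (g5 m), vec_g5, vec_one]; simp

theorem vec_g5_2 : vec m (g5 m ^ 2 : G₀) = ![1, 1, 1, 1] := by
  rw [show g5 m ^ 2 = (g5 m * g5 m ^ 1 : G₀) by rw [pow_one, pow_two], vec_g5, vec_g5_1]
  funext i
  fin_cases i <;> simp [add_self (F := F) m]

theorem vec_g5_3 : vec m (g5 m ^ 3 : G₀) = ![1, 0, 1, 1] := by
  rw [pow_succ', vec_g5, vec_g5_2]
  funext i
  fin_cases i <;> simp [add_self (F := F) m]

theorem vec_g5_4 : vec m (g5 m ^ 4 : G₀) = ![0, 0, 0, 1] := by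
  rw [pow_succ', vec_g5, vec_g5_3]
  funext i
  fin_cases i <;> simp [add_self (F := F) m]

theorem g5_pow_five : (g5 m ^ 5 : G₀) = 1 := by
  haveI := charTwo (F := F) m
  refine toMat_injective m ?_
  rw [map_pow, map_one, g5, map_mul, toMat_u, toMat_w]
  have h : uMat m (0 : F) 1 * !![0, 0, 0, 1; 0, 0, 1, 0; 0, 1, 0, 0; 1, 0, 0, 0] =
      !![1, 1, 0, 1; 1, 0, 1, 0; 0, 1, 0, 0; 1, 0, 0, 0] := by
    ext i j
    fin_cases i <;> fin_cases j <;> simp [uMat, ovf, Matrix.mul_apply, Fin.sum_univ_four]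
  rw [h]
  ext i j
  fin_cases i <;> fin_cases j <;>
    simp [pow_succ, Matrix.mul_apply, Fin.sum_univ_four, CharTwo.add_self_eq_zero]

theorem g5_ne_one : (g5 m : G₀) ≠ 1 := fun h => by
  have h1 := congrFun (congrArg (vec m) h) 3
  rw [← pow_one (g5 m), vec_g5_1, vec_one] at h1
  simp at h1

theorem odd_g5 : Odd (orderOf (g5 m : G₀)) :=
  (by decide : Odd 5).of_dvd_nat (orderOf_dvd_of_pow_eq_one g5_pow_five)

theorem Fpf.sum_g5 (hρ : Fpf m ρ) (y : M) : ∑ j : Fin 5, ρ (g5 m ^ (j : ℕ)) y = 0 := by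
  refine hρ (g5 m) _ odd_g5 g5_ne_one ?_
  rw [map_sum]
  simp only [Fin.sum_univ_five, ← rho_mul, ← pow_succ', Fin.val_zero, Fin.val_one, Fin.val_two]
  norm_num [g5_pow_five]
  abel

/-- The weight of a highest vector is a power of two times that of the natural module. -/
theorem High.exists_pow [Finite M] (hρ : Fpf m ρ) (h : High m ρ K x) :
    ∃ i, i < 2 * m + 1 ∧ ∀ y : F, y ^ K = y ^ (2 ^ i) := by
  classical
  haveI := charTwo (F := F) m
  haveI : Fact (Nat.Prime 2) := ⟨Nat.prime_two⟩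
  have hU : ∀ U : F, (1 + U) ^ K = 1 + U ^ K := by
    intro U
    obtain ⟨b, rfl⟩ := (th_bijective (F := F) m).2 U
    have h1 := h.coef hρ (fun _ : Fin 5 => (1 : F)) (fun j => w m * u m 0 b * g5 m ^ (j : ℕ)) (by
      simp only [one_smul, rho_mul]
      rw [← map_sum, ← map_sum, hρ.sum_g5, map_zero, map_zero])
    have hr : ∀ g : G₀, cc m (w m * u m 0 b * g) = vec m g 0 + b * vec m g 2 + th m b * vec m g 3 := by
      intro g
      rw [cc_mul, map_mul, toMat_w, toMat_u]
      simp [Fin.sum_univ_four, uMat, ovf, Matrix.mul_apply]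
    simp only [Fin.sum_univ_five, Fin.val_zero, Fin.val_one, Fin.val_two, one_mul, hr] at h1
    simp only [show ((3 : Fin 5) : ℕ) = 3 from rfl, show ((4 : Fin 5) : ℕ) = 4 from rfl, pow_zero,
      vec_one, vec_g5_1, vec_g5_2, vec_g5_3, vec_g5_4] at h1
    simp at h1
    linear_combination h1 - ((1 + b + th m b) ^ K + 1 + th m b ^ K) * (CharTwo.two_eq_zero : (2 : F) = 0)
  have hK0 : K ≠ 0 := by have := h.one_le; omega
  let φ : F →+* F :=
    { toFun := fun y => y ^ K
      map_one' := one_pow K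
      map_mul' := fun a b => mul_pow a b K
      map_zero' := zero_pow hK0
      map_add' := fun a b => by
        by_cases ha : a = 0
        · subst ha; simp [zero_pow hK0]
        · rw [show a + b = a * (1 + b / a) by field_simp, mul_pow, hU, mul_add, mul_one, ← mul_pow,
            show a * (b / a) = b by field_simp] }
  letI := ZMod.algebra F 2
  haveI : Fintype (ZMod 2) := inferInstance
  have hcomm : φ.comp (algebraMap (ZMod 2) F) = algebraMap (ZMod 2) F := Subsingleton.elim _ _
  let ψ : F →ₐ[ZMod 2] F := { toRingHom := φ, commutes' := fun r => RingHom.congr_fun hcomm r }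
  obtain ⟨⟨i, hi⟩, hψ⟩ := (FiniteField.bijective_frobeniusAlgHom_pow (ZMod 2) F).2 ψ
  have hfin : Module.finrank (ZMod 2) F = 2 * m + 1 := by
    have h1 := Module.card_eq_pow_finrank (K := ZMod 2) (V := F)
    rw [hS.card_eq, ZMod.card] at h1
    exact (Nat.pow_right_injective le_rfl h1).symm
  refine ⟨i, hfin ▸ hi, fun y => ?_⟩
  have h2 := AlgHom.congr_fun hψ y
  rw [AlgHom.coe_pow, FiniteField.coe_frobeniusAlgHom, pow_iterate, ZMod.card] at h2
  exact h2.symm

/-- Projecting a translate of `w x` back to the weight of `x` gives a nonzero vector. -/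
theorem High.proj_ne_zero [Finite M] (hρ : Fpf m ρ) (h : High m ρ K x) :
    tproj m ρ (wt m K) (ρ (u m 0 1 * w m) x) ≠ 0 := by
  intro h0
  rw [tproj_apply] at h0
  have h1 := h.coef hρ (fun s : Fˣ => wt m K s⁻¹) (fun s => w m * (t m s * (u m 0 1 * w m))) (by
    rw [← map_zero (ρ (w m)), ← h0, map_sum]
    exact Finset.sum_congr rfl fun s _ => by rw [rho_mul, rho_mul, map_smul])
  have h2 : ∀ s : Fˣ, cc m (w m * (t m s * (u m 0 1 * w m))) = aH m s := fun s => by
    rw [cc_mul, vec_mul, vec_mul, vec_w, toMat_w, toMat_u, toMat_t]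
    simp [Fin.sum_univ_four, uMat, tMat, ovf, Matrix.mulVec_diagonal, aH]
  simp only [h2, wt_apply, ← mul_pow, ← map_mul, inv_mul_cancel, map_one, one_pow, Finset.sum_const,
    Finset.card_univ, nsmul_eq_mul, mul_one] at h1
  rw [card_units_cast m] at h1
  exact one_ne_zero h1

end Cfsg.Agent.H65.CIT.SzRep
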