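import Cfsg.Agent.H65.CIT.Module

/-!
# The amalgam has `q ≤ 4`

In each parabolic the Sylow 2-subgroup is transitive on the others and the torus is inverted by a swapping
involution, so the torus acts on `Z` and on `T / P` with weights `α` and `α ^ 2`. The two parabolics together give
`α ^ 3 = 1`.
-/

set_option autoImplicit false
set_option linter.unusedSectionVars false
set_option linter.style.haveILetI false
set_option linter.dupNamespace false

namespace Cfsg.Agent.H65.CIT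

open Subgroup

universe u

/-- With `n ∣ q² - 1`, `n ≡ 1 (mod q)` and `n ≠ 1`, we get `n = q + 1`. -/
theorem count_eq {n q c : ℕ} (hq : 2 ≤ q) (hn : n = 1 + c * q) (hn1 : n ≠ 1) (hd : n ∣ q ^ 2 - 1) :
    n = q + 1 := by
  obtain ⟨d, hd⟩ := hd
  have h1 : n * d + 1 = q * q := by
    rw [← hd, ← pow_two]
    have : 1 ≤ q ^ 2 := Nat.one_le_pow _ _ (by omega)
    omega
  subst hn
  have hc : 1 ≤ c := by
    rcases Nat.eq_zero_or_pos c with rfl | h
    · simp at hn1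
    · exact h
  obtain ⟨e, he⟩ : q ∣ d + 1 :=
    (Nat.dvd_add_right (⟨c * d, by ring⟩ : q ∣ c * q * d)).1 ⟨q, by rw [← h1]; ring⟩
  have he1 : 1 ≤ e := by
    rcases Nat.eq_zero_or_pos e with rfl | h
    · simp at he
    · exact h
  have hdq : q ≤ d + 1 := by rw [he]; exact Nat.le_mul_of_pos_right q (by omega)
  by_contra hne
  have hc2 : 2 ≤ c := by
    by_contra h
    obtain rfl : c = 1 := by omega
    simp [add_comm] at hne
  nlinarith [Nat.mul_le_mul hc2 hdq]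

/-- In a group with independent Sylow 2-subgroups of order `q` and odd part `q² - 1`, a Sylow 2-subgroup is
transitive on the others. -/
theorem sylow_transitive {Q : Type u} [Group Q] [Finite Q]
    (hTI : ∀ S S' : Sylow 2 Q, S ≠ S' → (S : Subgroup Q) ⊓ (S' : Subgroup Q) = ⊥) {q : ℕ} (hq : 2 ≤ q)
    (S : Sylow 2 Q) (hS : Nat.card ↥(S : Subgroup Q) = q)
    (hidx : (S : Subgroup Q).index = q ^ 2 - 1) (B C : Sylow 2 Q) (hB : B ≠ S) (hC : C ≠ S) :
    ∃ s ∈ (S : Subgroup Q), s • B = C := by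
  classical
  haveI : Fact (Nat.Prime 2) := ⟨Nat.prime_two⟩
  have hfix : ∀ s : ↥(S : Subgroup Q), (s : Q) • S = S := fun s =>
    Sylow.smul_eq_iff_mem_normalizer.2 (le_normalizer s.2)
  let act : MulAction ↥(S : Subgroup Q) {R : Sylow 2 Q // R ≠ S} :=
    { smul := fun s R => ⟨(s : Q) • R.1, fun h => R.2 (smul_left_cancel (s : Q) (h.trans (hfix s).symm))⟩
      one_smul := fun R => Subtype.ext (one_smul Q R.1)
      mul_smul := fun a b R => Subtype.ext (mul_smul (a : Q) (b : Q) R.1) }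
  have hfree : ∀ (s : ↥(S : Subgroup Q)) (R : {R : Sylow 2 Q // R ≠ S}), s • R = R → s = 1 := by
    intro s R hsR
    have h : (s : Q) • R.1 = R.1 := congrArg (fun x : {R : Sylow 2 Q // R ≠ S} => x.1) hsR
    obtain ⟨k, hk⟩ := pow_two_of_mem S.2 s.2
    have hz : IsPGroup 2 ↥(zpowers (s : Q)) := by
      rintro ⟨y, hy⟩
      obtain ⟨i, rfl⟩ := mem_zpowers_iff.1 hy
      refine ⟨k, Subtype.ext ?_⟩
      show ((s : Q) ^ i) ^ (2 ^ k) = 1
      rw [← zpow_natCast, ← zpow_mul, mul_comm, zpow_mul, zpow_natCast, hk, one_zpow]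
    have hsR' : (s : Q) ∈ (R.1 : Subgroup Q) := (hz.inf_normalizer_sylow R.1 ▸ (Subgroup.mem_inf.2
      ⟨mem_zpowers _, Sylow.smul_eq_iff_mem_normalizer.1 h⟩) :
      (s : Q) ∈ zpowers (s : Q) ⊓ (R.1 : Subgroup Q)).2
    exact Subtype.ext (Subgroup.mem_bot.1 (hTI S R.1 R.2.symm ▸ ⟨s.2, hsR'⟩))
  have hdvd := Frobenius.dvd_card_of_free ↥(S : Subgroup Q) hfree
  haveI := Fintype.ofFinite (Sylow 2 Q)
  have hc : Nat.card {R : Sylow 2 Q // R ≠ S} + 1 = Nat.card (Sylow 2 Q) := by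
    rw [Nat.card_eq_fintype_card, Nat.card_eq_fintype_card, Fintype.card_subtype_compl,
      Fintype.card_subtype_eq]
    have : 0 < Fintype.card (Sylow 2 Q) := Fintype.card_pos
    omega
  rw [hS] at hdvd
  obtain ⟨c, hc'⟩ := hdvd
  have hpos : 0 < Nat.card {R : Sylow 2 Q // R ≠ S} :=
    Nat.card_pos_iff.2 ⟨⟨⟨B, hB⟩⟩, inferInstance⟩
  have hcard := count_eq hq (n := Nat.card (Sylow 2 Q)) (c := c) (by rw [← hc, hc']; ring) (by omega)
    (hidx ▸ S.card_dvd_index)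
  let f : ↥(S : Subgroup Q) → {R : Sylow 2 Q // R ≠ S} := fun s => s • (⟨B, hB⟩ : {R : Sylow 2 Q // R ≠ S})
  have hf : Function.Injective f := by
    intro a b h
    have h1 : (b⁻¹ * a) • (⟨B, hB⟩ : {R : Sylow 2 Q // R ≠ S}) = ⟨B, hB⟩ := by
      rw [mul_smul]
      exact inv_smul_eq_iff.2 h
    exact (inv_mul_eq_one.1 (hfree _ _ h1)).symm
  obtain ⟨s, hs⟩ := (hf.bijective_of_nat_card_le (by rw [hS]; omega)).2 ⟨C, hC⟩
  exact ⟨s, s.2, congrArg (fun x : {R : Sylow 2 Q // R ≠ S} => x.1) hs⟩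

variable {G : Type u} [Group G] [Finite G]

/-- One side of the amalgam. -/
structure Side (X P T Z : Subgroup G) (q : ℕ) : Prop where
  two_le : 2 ≤ q
  par : IsPar X P
  syl : IsSyl X T
  ex : Ex2 P
  cardP : Nat.card ↥P = q ^ 2
  cardT : Nat.card ↥T = q ^ 3
  cardX : Nat.card ↥X = q ^ 3 * (q ^ 2 - 1)
  sq : ∀ x ∈ T, x * x ∈ P
  cent : ∀ t ∈ T, t ∉ P → P ⊓ centralizer ({t} : Set G) = Z
  cardZ : Nat.card ↥Z = q
  le : Z ≤ P
  comm : ∀ z ∈ Z, ∀ t ∈ T, Commute t z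

theorem Amalgam.side₁ (A : Amalgam G) : Side A.X₁ A.P₁ A.T (A.P₁ ⊓ A.P₂) A.q :=
  ⟨A.two_le, A.h₁, A.hT₁, A.ex₁, A.cardP₁, A.cardT, A.cardX₁, A.sq₁, A.cent₁, A.cardZ, inf_le_left,
    fun _ hz _ ht => A.commute_Z hz ht⟩

theorem Amalgam.side₂ (A : Amalgam G) : Side A.X₂ A.P₂ A.T (A.P₁ ⊓ A.P₂) A.q :=
  ⟨A.two_le, A.h₂, A.hT₂, A.ex₂, A.cardP₂, A.cardT, A.cardX₂, A.sq₂, A.cent₂, A.cardZ, inf_le_right,
    fun _ hz _ ht => A.commute_Z hz ht⟩

namespace Side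

variable {X P T Z : Subgroup G} {q : ℕ} (hL : Loc G) (h : Side X P T Z q)

include h in
theorem le_T : P ≤ T := h.par.le_syl h.syl

include h in
/-- Commutators with `T` lie in `Z`. -/
theorem comm_mem {t v : G} (ht : t ∈ T) (hv : v ∈ P) : t * v * t⁻¹ * v ∈ Z := by
  have htN := h.par.le_norm (h.syl.1 ht)
  by_cases htP : t ∈ P
  · rw [(h.ex.commute htP hv).eq, mul_inv_cancel_right, h.ex v hv]
    exact Z.one_mem
  rw [← h.cent t ht htP]
  refine ⟨P.mul_mem (inv_mem_of_conj_mem htN hv) hv, mem_cent.2 (Commute.symm ?_)⟩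
  rw [commute_iff_eq]
  calc t * (t * v * t⁻¹ * v) = ((t * t) * v * (t * t)⁻¹) * (t * v * t⁻¹) * t := by group
    _ = v * (t * v * t⁻¹) * t := by
        rw [(h.ex.commute (h.sq t ht) hv).eq, mul_inv_cancel_right]
    _ = (t * v * t⁻¹ * v) * t := by rw [(h.ex.commute hv (inv_mem_of_conj_mem htN hv)).eq]

include hL h in
/-- A Sylow 2-subgroup of a side is transitive on the others. -/
theorem transitive {T₁ T₂ : Subgroup G} (h1 : IsSyl X T₁) (h1' : T₁ ≠ T) (h2 : IsSyl X T₂)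
    (h2' : T₂ ≠ T) : ∃ t ∈ T, cj t T₁ = T₂ := by
  classical
  haveI : Fact (Nat.Prime 2) := ⟨Nat.prime_two⟩
  set N := Cfsg.pCore 2 ↥X with hN
  set f := QuotientGroup.mk' N with hf
  have hNP : P.subgroupOf X = N := by
    rw [← h.par.core]
    exact comap_map_eq_self_of_injective X.subtype_injective N
  obtain ⟨A, hA⟩ := h.syl.exists_sylow
  obtain ⟨B, hB⟩ := h1.exists_sylow
  obtain ⟨C, hC⟩ := h2.exists_sylow
  let m : Sylow 2 ↥X → Sylow 2 (↥X ⧸ N) := fun D => D.mapSurjective (QuotientGroup.mk'_surjective N)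
  have hcomap : ∀ D : Sylow 2 ↥X, ((D : Subgroup ↥X).map f).comap f = (D : Subgroup ↥X) := fun D => by
    rw [Subgroup.comap_map_eq, hf, QuotientGroup.ker_mk', sup_eq_left.2 (Cores.pCore_le_sylow D)]
  have hinj : Function.Injective m := fun D E e => by
    have e' : (D : Subgroup ↥X).map f = (E : Subgroup ↥X).map f := congrArg Sylow.toSubgroup e
    exact Sylow.ext (by rw [← hcomap D, e', hcomap E])
  have hTI : ∀ S S' : Sylow 2 (↥X ⧸ N), S ≠ S' → (S : Subgroup (↥X ⧸ N)) ⊓ S' = ⊥ := by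
    intro S S' hSS
    obtain ⟨D, rfl⟩ := Sylow.mapSurjective_surjective (QuotientGroup.mk'_surjective N) 2 S
    obtain ⟨E, rfl⟩ := Sylow.mapSurjective_surjective (QuotientGroup.mk'_surjective N) 2 S'
    rw [eq_bot_iff]
    intro y hy
    obtain ⟨y₀, rfl⟩ := QuotientGroup.mk'_surjective N y
    obtain ⟨k1, k2⟩ := Subgroup.mem_inf.1 hy
    have hd : y₀ ∈ (D : Subgroup ↥X) := hcomap D ▸ k1
    have he : y₀ ∈ (E : Subgroup ↥X) := hcomap E ▸ k2
    have := hL.inf_syl h.par (isSyl_map D) (isSyl_map E) (fun e => hSS (by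
      rw [show D = E from Sylow.ext (Subgroup.map_injective X.subtype_injective e)]))
      ⟨⟨y₀, hd, rfl⟩, ⟨y₀, he, rfl⟩⟩
    exact Subgroup.mem_bot.2 ((QuotientGroup.eq_one_iff y₀).2 (hNP ▸ mem_subgroupOf.2 this))
  have hq0 : 0 < q := by have := h.two_le; omega
  have hAc : Nat.card ↥(A : Subgroup ↥X) = q ^ 3 := by
    rw [← h.cardT, ← hA, Subgroup.card_map_of_injective X.subtype_injective]
  have hS : Nat.card ↥(m A : Subgroup (↥X ⧸ N)) = q := by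
    have h3 := card_eq_map_mul_inf_ker f (A : Subgroup ↥X)
    rw [hAc, hf, QuotientGroup.ker_mk', inf_eq_right.2 (Cores.pCore_le_sylow A),
      show Nat.card ↥N = q ^ 2 by
        rw [← h.cardP, ← hNP]
        exact Nat.card_congr (Subgroup.subgroupOfEquivOfLe h.par.le).toEquiv] at h3
    refine (Nat.eq_of_mul_eq_mul_right (pow_pos hq0 2) (?_ : q * q ^ 2 = _)).symm
    rw [← pow_succ']
    exact h3
  have hidx : (m A : Subgroup (↥X ⧸ N)).index = q ^ 2 - 1 := by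
    have h4 : ((A : Subgroup ↥X).map f).index = (A : Subgroup ↥X).index := by
      rw [Subgroup.index_map_eq _ (QuotientGroup.mk'_surjective N)]
      rw [QuotientGroup.ker_mk']; exact Cores.pCore_le_sylow A
    have h5 := (A : Subgroup ↥X).card_mul_index
    rw [hAc, h.cardX] at h5
    show ((A : Subgroup ↥X).map f).index = _
    rw [h4]
    exact Nat.eq_of_mul_eq_mul_left (pow_pos hq0 3) h5
  obtain ⟨y, hy, hyBC⟩ := sylow_transitive hTI h.two_le (m A) hS hidx (m B) (m C)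
    (fun e => h1' (by rw [← hA, ← hB, hinj e])) (fun e => h2' (by rw [← hA, ← hC, hinj e]))
  obtain ⟨s, hs, rfl⟩ := Subgroup.mem_map.1 hy
  refine ⟨(s : G), hA ▸ ⟨s, hs, rfl⟩, ?_⟩
  have h6 : m (s • B) = m C := by
    rw [← hyBC]
    refine Sylow.ext ?_
    show ((B : Subgroup ↥X).map (MulAut.conj s).toMonoidHom).map f =
      ((B : Subgroup ↥X).map f).map (MulAut.conj (f s)).toMonoidHom
    rw [Subgroup.map_map, Subgroup.map_map]
    congr 1
  rw [← hB, ← hC, ← hinj h6]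
  show ((B : Subgroup ↥X).map X.subtype).map (MulAut.conj (s : G)).toMonoidHom =
    ((B : Subgroup ↥X).map (MulAut.conj s).toMonoidHom).map X.subtype
  rw [Subgroup.map_map, Subgroup.map_map]
  congr 1

include hL h in
/-- The torus and the swapping involution. -/
theorem torus : ∃ w ∈ X, orderOf w = 2 ∧ cj w T ≠ T ∧ (∀ z ∈ Z, w * z * w⁻¹ ∈ Z → z = 1) ∧
    (∀ v ∈ P, ∃ a ∈ Z, ∃ b ∈ Z, v = a * (w * b * w⁻¹)) ∧
    (∀ x ∈ X, x ∈ normalizer (T : Set G) → ∃ t ∈ T, ∃ m ∈ X, m ∈ normalizer (T : Set G) ∧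
      m ∈ normalizer ((cj w T : Subgroup G) : Set G) ∧ x = t * m) ∧
    (∀ m ∈ X, m ∈ normalizer (T : Set G) → m ∈ normalizer ((cj w T : Subgroup G) : Set G) →
      w * m * w⁻¹ * m ∈ P) ∧
    (∀ t ∈ T, t ∉ P → ∃ m ∈ X, m ∈ normalizer (T : Set G) ∧
      m ∈ normalizer ((cj w T : Subgroup G) : Set G) ∧
      ∀ z ∈ Z, t * (w * z * w⁻¹) * t⁻¹ * (w * z * w⁻¹) = m * z * m⁻¹) := by
  classical
  haveI : Fact (Nat.Prime 2) := ⟨Nat.prime_two⟩
  have hC := hL.cit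
  obtain ⟨t₀, ht₀, ht₀P⟩ : ∃ t ∈ T, t ∉ P := by
    by_contra hh
    push Not at hh
    obtain ⟨T', hT', hne⟩ := h.par.exists_other h.syl
    exact hne (h.syl.2.2 _ hT'.1 hT'.2.1 (le_trans hh (h.par.le_syl hT')))
  obtain ⟨n, hn, g, hg, hg1, hgo, hu2, hinv⟩ :=
    hC.exists_inverts h.par.core (h.syl.1 ht₀) ht₀P (h.sq t₀ ht₀)
  set u := n * t₀ with hu
  have huT : u ∈ T := T.mul_mem (h.le_T hn) ht₀
  have huX : u ∈ X := h.syl.1 huT
  obtain ⟨w, hwX, hw2, hwT⟩ : ∃ w ∈ X, orderOf w = 2 ∧ w ∉ normalizer (T : Set G) := by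
    refine ⟨g * u * g⁻¹, X.mul_mem (X.mul_mem hg huX) (X.inv_mem hg),
      (H65.orderOf_conj' g u).trans hu2, fun hN => ?_⟩
    have hmem : g * u * g⁻¹ ∈ T := h.syl.mem_of_normalizes (X.mul_mem (X.mul_mem hg huX) (X.inv_mem hg))
      hN (k := 1) (by rw [pow_one, ← (H65.orderOf_conj' g u).trans hu2]; exact pow_orderOf_eq_one _)
    have hug : u * g⁻¹ * u = g := by
      have : u * g⁻¹ * u⁻¹ = g := by rw [← conj_inv, hinv, inv_inv]
      rwa [H65.inv_eq_self hu2] at this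
    have hg2 : g * g ∈ T := by
      have h2 := T.mul_mem hmem huT
      rwa [show g * u * g⁻¹ * u = g * (u * g⁻¹ * u) by group, hug] at h2
    obtain ⟨k, hk⟩ := pow_two_of_mem h.syl.2.1 hg2
    rw [← pow_two, ← pow_mul, ← pow_succ'] at hk
    exact hg1 (eq_one_of_pow_two hk hgo)
  set T' := cj w T with hT'def
  have hT' : IsSyl X T' := (cj_eq_of_mem (le_normalizer hwX)) ▸ h.syl.map w
  have hne : T' ≠ T := fun e => hwT (mem_normalizer_of_cj e)
  have hwi := H65.inv_eq_self hw2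
  have hwP : w ∈ normalizer (P : Set G) := h.par.le_norm hwX
  have hinter : ∀ z ∈ Z, w * z * w⁻¹ ∈ Z → z = 1 := by
    intro z hz hwz
    refine hL.eq_one_of_two_syl h.syl hT' hne.symm (k := 1) ?_ (h.comm z hz) ?_
    · rw [pow_one, pow_two]; exact h.ex z (h.le hz)
    · rintro _ ⟨s, hs, rfl⟩
      have h2 := (h.comm _ hwz s hs).map (MulAut.conj w).toMonoidHom
      simp only [MulEquiv.toMonoidHom_eq_coe, MonoidHom.coe_coe, MulAut.conj_apply] at h2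
      rw [show w * (w * z * w⁻¹) * w⁻¹ = (w * w) * z * (w * w)⁻¹ by group,
        H65.mul_self_eq_one hw2, one_mul, inv_one, mul_one] at h2
      exact h2
  have hsupP : Z ⊔ cj w Z = P := by
    refine Subgroup.eq_of_le_of_card_ge (sup_le h.le ((cj_le h.le).trans (cj_eq_of_mem hwP).le)) ?_
    have hdis : Z ⊓ cj w Z = ⊥ := by
      rw [eq_bot_iff]
      rintro _ ⟨hy, ⟨z, hz, rfl⟩⟩
      have := hinter z hz hy
      rw [this, map_one]
      exact one_mem _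
    have hle : Z ≤ normalizer ((cj w Z : Subgroup G) : Set G) := fun a ha => by
      refine mem_normalizer_of_cj (Subgroup.eq_of_le_of_card_ge ?_ (card_cj a _).ge)
      rintro _ ⟨y, hy, rfl⟩
      have hyP : y ∈ P := ((cj_le h.le).trans (cj_eq_of_mem hwP).le) hy
      show a * y * a⁻¹ ∈ cj w Z
      rwa [(h.ex.commute (h.le ha) hyP).eq, mul_inv_cancel_right]
    have hc := card_sup_mul Z (cj w Z) hle
    rw [hdis, Subgroup.card_bot, mul_one, card_cj, h.cardZ] at hc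
    rw [hc, h.cardP, pow_two]
  have hdec : ∀ v ∈ P, ∃ a ∈ Z, ∃ b ∈ Z, v = a * (w * b * w⁻¹) := by
    intro v hv
    rw [← hsupP, ← SetLike.mem_coe, Subgroup.coe_mul_of_left_le_normalizer_right] at hv
    · obtain ⟨a, ha, _, ⟨b, hb, rfl⟩, rfl⟩ := hv
      exact ⟨a, ha, b, hb, rfl⟩
    · intro a ha
      refine mem_normalizer_of_cj (Subgroup.eq_of_le_of_card_ge ?_ (card_cj a _).ge)
      rintro _ ⟨y, hy, rfl⟩
      have hyP : y ∈ P := ((cj_le h.le).trans (cj_eq_of_mem hwP).le) hy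
      show a * y * a⁻¹ ∈ cj w Z
      rwa [(h.ex.commute (h.le ha) hyP).eq, mul_inv_cancel_right]
  have hcover : ∀ x ∈ X, x ∈ normalizer (T : Set G) → ∃ t ∈ T, ∃ m ∈ X,
      m ∈ normalizer (T : Set G) ∧ m ∈ normalizer ((T' : Subgroup G) : Set G) ∧ x = t * m := by
    intro x hx hxT
    have hx' : IsSyl X (cj x T') := (cj_eq_of_mem (le_normalizer hx)) ▸ hT'.map x
    have hne' : cj x T' ≠ T := fun e => hne (by
      rw [← cj_inv x T', e, cj_eq_of_mem (inv_mem hxT)])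
    obtain ⟨t, ht, hte⟩ := h.transitive hL hT' hne hx' hne'
    refine ⟨t, ht, t⁻¹ * x, X.mul_mem (X.inv_mem (h.syl.1 ht)) hx,
      mul_mem (inv_mem (le_normalizer ht)) hxT, mem_normalizer_of_cj ?_, by group⟩
    rw [show cj (t⁻¹ * x) T' = cj t⁻¹ (cj x T') by simp only [cj, Subgroup.map_map]; congr 1; ext y; simp,
      ← hte, cj_inv]
  refine ⟨w, hwX, hw2, hne, hinter, hdec, hcover, ?_, ?_⟩
  · -- the swapping involution inverts the torus
    set H := X ⊓ normalizer (T : Set G) ⊓ normalizer ((T' : Subgroup G) : Set G) with hH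
    have hwH : ∀ m ∈ H, w * m * w⁻¹ ∈ H := by
      rintro m ⟨⟨hm1, hm2⟩, hm3⟩
      have hwT' : cj w T' = T := by
        rw [hT'def]
        conv_lhs => rw [← hwi]
        rw [show cj w⁻¹ (cj w⁻¹ T) = cj w⁻¹ (cj w T) by rw [hwi], cj_inv]
      refine ⟨⟨X.mul_mem (X.mul_mem hwX hm1) (X.inv_mem hwX), ?_⟩, ?_⟩
      · rw [← hwT', ← cj_normalizer]; exact conj_mem_cj hm3
      · rw [hT'def, ← cj_normalizer]; exact conj_mem_cj hm2
    have hPH : P ≤ H := le_inf (le_inf h.par.le ((h.le_T).trans le_normalizer))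
      ((h.par.le_syl hT').trans le_normalizer)
    haveI : (P.subgroupOf H).Normal :=
      normal_subgroupOf_of_le_normalizer fun x hx => h.par.le_norm hx.1.1
    let c : ↥H →* ↥H :=
      { toFun := fun m => ⟨w * m * w⁻¹, hwH m m.2⟩
        map_one' := Subtype.ext (by simp)
        map_mul' := fun a b => Subtype.ext (by simp [mul_assoc]) }
    let φ : ↥H ⧸ P.subgroupOf H →* ↥H ⧸ P.subgroupOf H :=
      QuotientGroup.map _ _ c fun x hx => Subgroup.mem_comap.2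
        (mem_subgroupOf.2 (inv_mem_of_conj_mem hwP (mem_subgroupOf.1 hx)))
    have hfp : MonoidHom.FixedPointFree φ := by
      intro y hy
      obtain ⟨m, rfl⟩ := QuotientGroup.mk'_surjective _ y
      obtain ⟨a, j, hj, hnj⟩ := Nat.exists_eq_two_pow_mul_odd (orderOf_pos (m : G)).ne'
      set o := (m : G) ^ (2 ^ a) with ho
      have hoo : Odd (orderOf o) :=
        hj.of_dvd_nat (orderOf_dvd_of_pow_eq_one (by rw [ho, ← pow_mul, ← hnj, pow_orderOf_eq_one]))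
      have hy' : QuotientGroup.mk (c m) = (QuotientGroup.mk m : ↥H ⧸ P.subgroupOf H) := hy
      have hpow : (QuotientGroup.mk (c (m ^ (2 ^ a))) : ↥H ⧸ P.subgroupOf H) =
          QuotientGroup.mk (m ^ (2 ^ a)) := by
        rw [map_pow, QuotientGroup.mk_pow, QuotientGroup.mk_pow, hy']
      have hmem : (w * o * w⁻¹)⁻¹ * o ∈ P := mem_subgroupOf.1 (QuotientGroup.eq.1 hpow)
      have hmem' : o * w * o⁻¹ * w⁻¹ ∈ P := by
        have h8 : ((w * o * w⁻¹)⁻¹ * o) ∈ P := hmem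
        have h7 := inv_mem_of_conj_mem (hwP)
          (inv_mem_of_conj_mem (inv_mem hwP) (P.one_mem))
        have h9 : o ∈ normalizer (P : Set G) := pow_mem (h.par.le_norm m.2.1.1) _
        have h10 : o * ((w * o * w⁻¹)⁻¹ * o) * o⁻¹ ∈ P := inv_mem_of_conj_mem h9 h8
        have h11 : o * ((w * o * w⁻¹)⁻¹ * o) * o⁻¹ = o * w * o⁻¹ * w⁻¹ := by group
        rwa [h11] at h10
      have ho1 : o = 1 := hC.eq_one_of_commute_mod h.par.two hwP (pow_mem (h.par.le_norm m.2.1.1) _)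
        (k := 1) (by rw [pow_one, pow_two, H65.mul_self_eq_one hw2]; exact P.one_mem)
        (fun hwP' => hwT (le_normalizer (h.le_T hwP'))) hoo hmem'
      refine (QuotientGroup.eq_one_iff m).2 (mem_subgroupOf.2 ?_)
      exact hL.inf_syl h.par h.syl hT' hne.symm
        ⟨h.syl.mem_of_normalizes m.2.1.1 m.2.1.2 (k := a) ho1,
          hT'.mem_of_normalizes m.2.1.1 m.2.2 (k := a) ho1⟩
    have hinvol : Function.Involutive φ := by
      intro y
      obtain ⟨m, rfl⟩ := QuotientGroup.mk'_surjective _ y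
      show QuotientGroup.mk (c (c m)) = (QuotientGroup.mk m : ↥H ⧸ P.subgroupOf H)
      congr 1
      refine Subtype.ext ?_
      show w * (w * (m : G) * w⁻¹) * w⁻¹ = m
      rw [show w * (w * (m : G) * w⁻¹) * w⁻¹ = (w * w) * m * (w * w)⁻¹ by group,
        H65.mul_self_eq_one hw2, one_mul, inv_one, mul_one]
    have hall := hfp.coe_eq_inv_of_involutive hinvol
    intro m hm1 hm2 hm3
    have h7 : φ (QuotientGroup.mk (⟨m, ⟨hm1, hm2⟩, hm3⟩ : ↥H)) =
        (QuotientGroup.mk (⟨m, ⟨hm1, hm2⟩, hm3⟩ : ↥H))⁻¹ := congrFun hall _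
    have h8 : (QuotientGroup.mk (c ⟨m, ⟨hm1, hm2⟩, hm3⟩ * ⟨m, ⟨hm1, hm2⟩, hm3⟩) :
        ↥H ⧸ P.subgroupOf H) = 1 := by
      rw [QuotientGroup.mk_mul]
      exact mul_eq_one_iff_eq_inv.2 h7
    exact mem_subgroupOf.1 ((QuotientGroup.eq_one_iff _).1 h8)
  · intro t ht htP
    set x := w * t * w⁻¹ with hx
    have hxX : x ∈ X := X.mul_mem (X.mul_mem hwX (h.syl.1 ht)) (X.inv_mem hwX)
    have hxP : x ∉ P := fun e => htP (by
      have h2 := inv_mem_of_conj_mem (inv_mem hwP) e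
      rwa [hx, show w⁻¹ * (w * t * w⁻¹) * (w⁻¹)⁻¹ = t by group] at h2)
    have hxT : x ∉ normalizer (T : Set G) := fun e => by
      obtain ⟨k, hk⟩ := pow_two_of_mem hT'.2.1 (conj_mem_cj ht : x ∈ T')
      exact hxP (hL.inf_syl h.par h.syl hT' hne.symm
        ⟨h.syl.mem_of_normalizes hxX e hk, conj_mem_cj ht⟩)
    have hx' : IsSyl X (cj x T) := (cj_eq_of_mem (le_normalizer hxX)) ▸ h.syl.map x
    obtain ⟨t₁, ht₁, hte⟩ := h.transitive hL hT' hne hx' fun e => hxT (mem_normalizer_of_cj e)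
    set y := w⁻¹ * t₁⁻¹ * x with hy
    have hyX : y ∈ X := X.mul_mem (X.mul_mem (X.inv_mem hwX) (X.inv_mem (h.syl.1 ht₁))) hxX
    have hyT : y ∈ normalizer (T : Set G) := by
      refine mem_normalizer_of_cj ?_
      have : cj y T = cj w⁻¹ (cj t₁⁻¹ (cj x T)) := by
        simp only [Subgroup.map_map]
        congr 1
        ext z
        simp [hy]
      rw [this, ← hte, cj_inv, hT'def, cj_inv]
    obtain ⟨t₂, ht₂, m, hmX, hmT, hmT', hyeq⟩ := hcover y hyX hyT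
    refine ⟨m, hmX, hmT, hmT', fun z hz => ?_⟩
    set z' := w * z * w⁻¹ with hz'
    set β := t * z' * t⁻¹ * z' with hβ
    have hz'P : z' ∈ P := inv_mem_of_conj_mem hwP (h.le hz)
    have hβZ : β ∈ Z := h.comm_mem ht hz'P
    have hmP : m ∈ normalizer (P : Set G) := h.par.le_norm hmX
    set γ := m * z * m⁻¹ with hγ
    have hγP : γ ∈ P := inv_mem_of_conj_mem hmP (h.le hz)
    have hγZ : γ ∈ Z := by
      rw [← h.cent t₀ ht₀ ht₀P]
      refine ⟨hγP, mem_cent.2 ?_⟩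
      have hs : m⁻¹ * t₀ * m ∈ T := by
        have := inv_mem_of_conj_mem (inv_mem hmT) ht₀
        rwa [inv_inv] at this
      have h3 := ((h.comm z hz _ hs).symm).map (MulAut.conj m).toMonoidHom
      simp only [MulEquiv.toMonoidHom_eq_coe, MonoidHom.coe_coe, MulAut.conj_apply] at h3
      rwa [show m * (m⁻¹ * t₀ * m) * m⁻¹ = t₀ by group] at h3
    have hwγ : w * γ * w⁻¹ ∈ P := inv_mem_of_conj_mem hwP hγP
    set β' := t₁ * (w * γ * w⁻¹) * t₁⁻¹ * (w * γ * w⁻¹) with hβ'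
    have hβ'Z : β' ∈ Z := h.comm_mem ht₁ hwγ
    have e2 : x * z * x⁻¹ = (w * β * w⁻¹) * z := by
      have hz2 : z = w * z' * w⁻¹ := by
        rw [hz', show w * (w * z * w⁻¹) * w⁻¹ = (w * w) * z * (w * w)⁻¹ by group,
          H65.mul_self_eq_one hw2, one_mul, inv_one, mul_one]
      calc x * z * x⁻¹ = w * (t * z' * t⁻¹) * w⁻¹ := by rw [hz', hx]; simp [hwi, mul_assoc]
        _ = w * (β * z') * w⁻¹ := by rw [hβ, mul_assoc (t * z' * t⁻¹), h.ex z' hz'P, mul_one]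
        _ = (w * β * w⁻¹) * (w * z' * w⁻¹) := by group
        _ = _ := by rw [← hz2]
    have e3 : x * z * x⁻¹ = β' * (w * γ * w⁻¹) := by
      have hx3 : x = t₁ * w * (t₂ * m) := by rw [← hyeq, hy]; group
      calc x * z * x⁻¹ = t₁ * (w * (t₂ * γ * t₂⁻¹) * w⁻¹) * t₁⁻¹ := by rw [hx3, hγ]; group
        _ = t₁ * (w * γ * w⁻¹) * t₁⁻¹ := by
            rw [(h.comm γ hγZ t₂ ht₂).eq, mul_inv_cancel_right]
        _ = _ := by rw [hβ', mul_assoc (t₁ * (w * γ * w⁻¹) * t₁⁻¹), h.ex _ hwγ, mul_one]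
    have hwβ : w * β * w⁻¹ ∈ P := inv_mem_of_conj_mem hwP (h.le hβZ)
    have e4 : w * (β * γ) * w⁻¹ = β' * z := by
      rw [show w * (β * γ) * w⁻¹ = (w * β * w⁻¹) * (w * γ * w⁻¹) by group,
        (eq_mul_inv_of_mul_eq (e2.symm.trans e3) : w * β * w⁻¹ = β' * (w * γ * w⁻¹) * z⁻¹),
        h.ex.inv (h.le hz), mul_assoc, ← (h.ex.commute hwγ (h.le hz)).eq, mul_assoc,
        ← mul_assoc (w * γ * w⁻¹), h.ex _ hwγ, one_mul]
    have h1 := hinter _ (Z.mul_mem hβZ hγZ) (by rw [e4]; exact Z.mul_mem hβ'Z hz)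
    show β = γ
    exact (eq_inv_of_mul_eq_one_left h1).trans (h.ex.inv hγP)

include hL h in
/-- An element fixing a nontrivial element of `Z` acts trivially on `Z`. -/
theorem trivial_of_fix {m z₀ : G} (hm : m ∈ X) (hmT : m ∈ normalizer (T : Set G)) (hz₀ : z₀ ∈ Z)
    (h1 : z₀ ≠ 1) (hfix : Commute m z₀) {z : G} (hz : z ∈ Z) : Commute m z := by
  obtain ⟨a, j, hj, hnj⟩ := Nat.exists_eq_two_pow_mul_odd (orderOf_pos m).ne'
  have ho : m ^ (2 ^ a) = 1 := hL.cit.eq_one_of_commute h1 (k := 1)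
    (by rw [pow_one, pow_two]; exact h.ex z₀ (h.le hz₀))
    (hj.of_dvd_nat (orderOf_dvd_of_pow_eq_one (by rw [← pow_mul, ← hnj, pow_orderOf_eq_one])))
    (hfix.pow_left _)
  exact h.comm z hz m (h.syl.mem_of_normalizes hm hmT ho)

include h in
theorem conj_Z {m z : G} (hm : m ∈ X) (hmT : m ∈ normalizer (T : Set G)) (hz : z ∈ Z) :
    m * z * m⁻¹ ∈ Z := by
  obtain ⟨t, ht, htP⟩ : ∃ t ∈ T, t ∉ P := by
    by_contra hh
    push Not at hh
    obtain ⟨T', hT', hne⟩ := h.par.exists_other h.syl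
    exact hne (h.syl.2.2 _ hT'.1 hT'.2.1 (le_trans hh (h.par.le_syl hT')))
  rw [← h.cent t ht htP]
  refine ⟨inv_mem_of_conj_mem (h.par.le_norm hm) (h.le hz), mem_cent.2 ?_⟩
  have hs : m⁻¹ * t * m ∈ T := by
    have := inv_mem_of_conj_mem (inv_mem hmT) ht
    rwa [inv_inv] at this
  have h3 := ((h.comm z hz _ hs).symm).map (MulAut.conj m).toMonoidHom
  simp only [MulEquiv.toMonoidHom_eq_coe, MonoidHom.coe_coe, MulAut.conj_apply] at h3
  rwa [show m * (m⁻¹ * t * m) * m⁻¹ = t by group] at h3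

end Side

/-- The first parabolic normalises `T` in the same way as the second. -/
theorem Amalgam.mem_X₂ (A : Amalgam G) {m : G} (hm : m ∈ A.X₁) (hmT : m ∈ normalizer (A.T : Set G))
    (hodd : Odd (orderOf m)) : m ∈ A.X₂ := by
  have hex : ∀ x ∈ A.T, x * x = 1 → x ∈ A.P₁ ∨ x ∈ A.P₂ := by
    intro x hx hx2
    by_contra hcon
    push Not at hcon
    obtain ⟨hx1, hx2'⟩ := hcon
    have hle : A.P₂ ≤ normalizer (A.P₁ : Set G) :=
      (A.h₂.le_syl A.hT₂).trans (A.hT₁.1.trans A.h₁.le_norm)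
    have hT : A.P₁ ⊔ A.P₂ = A.T := by
      refine Subgroup.eq_of_le_of_card_ge (sup_le (A.h₁.le_syl A.hT₁) (A.h₂.le_syl A.hT₂)) ?_
      have hc := card_sup_mul A.P₂ A.P₁ hle
      rw [sup_comm, inf_comm, A.cardP₁, A.cardP₂, A.cardZ] at hc
      refine Nat.le_of_mul_le_mul_right ?_ (show 0 < A.q by have := A.two_le; omega)
      rw [hc, A.cardT]
      exact le_of_eq (by ring)
    have hx' := hx
    rw [← hT, ← SetLike.mem_coe, Subgroup.coe_mul_of_right_le_normalizer_left _ _ hle] at hx'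
    obtain ⟨a, ha, b, hb, rfl⟩ := hx'
    have haP : a ∉ A.P₂ := fun e => hx2' (A.P₂.mul_mem e hb)
    have h1 : Commute b a := by
      rw [commute_iff_eq]
      calc b * a = a * a * (b * a) * (b * b) := by rw [A.ex₁ a ha, A.ex₂ b hb, one_mul, mul_one]
        _ = a * ((a * b) * (a * b)) * b := by group
        _ = a * b := by rw [hx2, mul_one]
    have h2 : b ∈ A.P₂ ⊓ centralizer ({a} : Set G) := ⟨hb, mem_cent.2 h1⟩
    rw [A.cent₂ a (A.h₁.le_syl A.hT₁ ha) haP] at h2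
    exact hx1 (A.P₁.mul_mem ha h2.1)
  set Q := cj m A.P₂ with hQ
  have hQT : Q ≤ A.T := (cj_le (A.h₂.le_syl A.hT₂)).trans (cj_eq_of_mem hmT).le
  have hQex : Ex2 Q := A.ex₂.map m
  have hcases : Q ≤ A.P₁ ∨ Q ≤ A.P₂ := by
    by_contra hcon
    push Not at hcon
    obtain ⟨⟨a, ha, ha1⟩, b, hb, hb2⟩ :=
      And.intro (SetLike.not_le_iff_exists.1 hcon.1) (SetLike.not_le_iff_exists.1 hcon.2)
    have ha2 := (hex a (hQT ha) (hQex a ha)).resolve_left ha1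
    have hb1 := (hex b (hQT hb) (hQex b hb)).resolve_right hb2
    rcases hex (a * b) (A.T.mul_mem (hQT ha) (hQT hb)) (hQex _ (Q.mul_mem ha hb)) with h | h
    · exact ha1 (by simpa using A.P₁.mul_mem h (A.P₁.inv_mem hb1))
    · exact hb2 (by simpa using A.P₂.mul_mem (A.P₂.inv_mem ha2) h)
  have hne : ¬ A.P₂ ≤ A.P₁ := fun e => by
    have h1 := A.cardZ
    rw [inf_eq_right.2 e, A.cardP₂, pow_two] at h1
    have := A.two_le
    nlinarith
  rw [← A.h₂.norm]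
  refine mem_normalizer_of_cj ?_
  rcases hcases with h | h
  · exfalso
    refine hne ?_
    have h3 := cj_le (g := m⁻¹) h
    rw [hQ, cj_inv, cj_eq_of_mem (inv_mem (A.h₁.le_norm hm))] at h3
    exact h3
  · exact Subgroup.eq_of_le_of_card_ge h (by rw [card_cj])

namespace Loc

variable (hL : Loc G)

include hL in
/-- The amalgam has `q = 2` or `q = 4`. -/
theorem q_le_four (A : Amalgam G) : A.q ≤ 4 := by
  classical
  obtain ⟨w₁, hw₁X, -, -, hw₁i, -, hcov₁, hinv₁, hbr⟩ := A.side₁.torus hL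
  obtain ⟨w₂, hw₂X, -, -, hw₂i, hdec₂, hcov₂, hinv₂, -⟩ := A.side₂.torus hL
  set Z := A.P₁ ⊓ A.P₂ with hZdef
  have hS₁ := A.side₁
  have hS₂ := A.side₂
  have hex : Ex2 Z := A.ex₁.mono inf_le_left
  obtain ⟨z₀, hz₀, hz₀1⟩ := A.exists_Z_invol.elim fun z hz => (⟨z, hz.1, H65.ne_one_of_orderOf hz.2⟩ :
    ∃ z ∈ Z, z ≠ 1)
  let E : Set G := {m | m ∈ A.X₁ ∧ m ∈ normalizer (A.T : Set G) ∧
    m ∈ normalizer ((cj w₁ A.T : Subgroup G) : Set G)}
  let act : G → G → G := fun m z => m * z * m⁻¹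
  have hactZ : ∀ m ∈ E, ∀ z ∈ Z, act m z ∈ Z := fun m hm z hz => hS₁.conj_Z hm.1 hm.2.1 hz
  have hEmul : ∀ m ∈ E, ∀ n ∈ E, m * n ∈ E := fun m hm n hn =>
    ⟨mul_mem hm.1 hn.1, mul_mem hm.2.1 hn.2.1, mul_mem hm.2.2 hn.2.2⟩
  have hEinv : ∀ m ∈ E, m⁻¹ ∈ E := fun m hm => ⟨inv_mem hm.1, inv_mem hm.2.1, inv_mem hm.2.2⟩
  have hact : ∀ m n z : G, act (m * n) z = act m (act n z) := fun m n z => by
    show m * n * z * (m * n)⁻¹ = m * (n * z * n⁻¹) * m⁻¹
    group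
  have hact' : ∀ m x y : G, act m (x * y) = act m x * act m y := fun m x y => by
    show m * (x * y) * m⁻¹ = (m * x * m⁻¹) * (m * y * m⁻¹)
    group
  have hP1 : ∀ p ∈ A.P₁, ∀ z ∈ Z, act p z = z := fun p hp z hz => by
    show p * z * p⁻¹ = z
    rw [(A.ex₁.commute hp hz.1).eq, mul_inv_cancel_right]
  -- the actions commute
  have hcomm : ∀ m ∈ E, ∀ n ∈ E, ∀ z ∈ Z, act m (act n z) = act n (act m z) := by
    intro m hm n hn z hz
    have hwN : w₁ ∈ normalizer (A.P₁ : Set G) := A.h₁.le_norm hw₁X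
    have hmn := hEmul m hm n hn
    have hq : ∀ a ∈ E, ∃ p ∈ A.P₁, w₁ * a * w₁⁻¹ = p * a⁻¹ := fun a ha =>
      ⟨_, hinv₁ a ha.1 ha.2.1 ha.2.2, by group⟩
    obtain ⟨p, hp, hpm⟩ := hq m hm
    obtain ⟨p', hp', hpn⟩ := hq n hn
    obtain ⟨p'', hp'', hpmn⟩ := hq _ hmn
    have h1 : p'' * (m * n)⁻¹ = (p * m⁻¹) * (p' * n⁻¹) := by
      rw [← hpm, ← hpn, ← hpmn]; group
    have h2 : ∀ y ∈ Z, act (m * n)⁻¹ y = act m⁻¹ (act n⁻¹ y) := by
      intro y hy
      have e1 : act (p'' * (m * n)⁻¹) y = act (m * n)⁻¹ y := by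
        rw [hact, hP1 _ hp'' _ (hactZ _ (hEinv _ hmn) _ hy)]
      have e2 : act ((p * m⁻¹) * (p' * n⁻¹)) y = act m⁻¹ (act n⁻¹ y) := by
        have k1 := hactZ _ (hEinv _ hn) _ hy
        rw [hact, hact p', hP1 _ hp' _ k1, hact, hP1 _ hp _ (hactZ _ (hEinv _ hm) _ k1)]
      rw [← e1, ← e2, h1]
    have h3 := h2 (act m (act n z)) (hactZ m hm _ (hactZ n hn z hz))
    rw [← hact m n z, ← hact (m * n)⁻¹, inv_mul_cancel] at h3
    have h4 : z = act m⁻¹ (act n⁻¹ (act (m * n) z)) := by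
      rw [← h3]
      show z = (1 : G) * z * 1⁻¹
      group
    have h5 := congrArg (fun y => act n (act m y)) h4
    simp only [← hact] at h5
    rw [show n * (m * (m⁻¹ * (n⁻¹ * (m * n)))) = m * n by group] at h5
    rw [← hact, ← hact]
    exact h5.symm
  have hwi₁ : ∀ z ∈ Z, w₁ * z * w₁⁻¹ ∈ A.P₁ := fun z hz =>
    inv_mem_of_conj_mem (A.h₁.le_norm hw₁X) hz.1
  have hwi₂ : ∀ z ∈ Z, w₂ * z * w₂⁻¹ ∈ A.P₂ := fun z hz =>
    inv_mem_of_conj_mem (A.h₂.le_norm hw₂X) hz.2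
  set z₁ := w₁ * z₀ * w₁⁻¹ with hz₁
  have hz₁P : z₁ ∈ A.P₁ := hwi₁ z₀ hz₀
  let φ : G → G := fun t => t * z₁ * t⁻¹ * z₁
  have hφT : ∀ s ∈ A.T, φ s ∈ Z := fun s hs => hS₁.comm_mem hs hz₁P
  have hz₁i : z₁⁻¹ = z₁ := A.ex₁.inv hz₁P
  have hφmul : ∀ s ∈ A.T, ∀ t ∈ A.T, φ (s * t) = φ t * φ s := by
    intro s hs t ht
    show s * t * z₁ * (s * t)⁻¹ * z₁ = _
    rw [show s * t * z₁ * (s * t)⁻¹ * z₁ = (s * (t * z₁ * t⁻¹ * z₁) * s⁻¹) * (s * z₁⁻¹ * s⁻¹ * z₁) by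
      group, hz₁i, (A.commute_Z (hS₁.comm_mem ht hz₁P) hs).eq, mul_inv_cancel_right]
  -- `ψ` is the map `Z ≅ P₂ / Z ≅ T / P₁ → Z`
  let ψ : G → G := fun x => φ (w₂ * x * w₂⁻¹)
  have hxT : ∀ x ∈ Z, w₂ * x * w₂⁻¹ ∈ A.T := fun x hx => A.h₂.le_syl A.hT₂ (hwi₂ x hx)
  have hψZ : ∀ x ∈ Z, ψ x ∈ Z := fun x hx => hφT _ (hxT x hx)
  have hψmul : ∀ x ∈ Z, ∀ y ∈ Z, ψ (x * y) = ψ x * ψ y := by
    intro x hx y hy
    show φ (w₂ * (x * y) * w₂⁻¹) = φ (w₂ * x * w₂⁻¹) * φ (w₂ * y * w₂⁻¹)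
    rw [show w₂ * (x * y) * w₂⁻¹ = (w₂ * x * w₂⁻¹) * (w₂ * y * w₂⁻¹) by group,
      hφmul _ (hxT x hx) _ (hxT y hy), (hex.commute (hψZ y hy) (hψZ x hx)).eq]
  have hψ1 : ∀ x ∈ Z, ψ x = 1 → x = 1 := by
    intro x hx h1
    by_contra hx1
    have hc : Commute (w₂ * x * w₂⁻¹) z₁ := by
      have h2 := eq_inv_of_mul_eq_one_left h1
      rw [hz₁i] at h2
      exact mul_inv_eq_iff_eq_mul.1 h2
    by_cases htP : w₂ * x * w₂⁻¹ ∈ A.P₁
    · exact hx1 (hw₂i x hx ⟨htP, hwi₂ x hx⟩)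
    · have h3 : z₁ ∈ A.P₁ ⊓ centralizer ({w₂ * x * w₂⁻¹} : Set G) := ⟨hz₁P, mem_cent.2 hc.symm⟩
      rw [A.cent₁ _ (hxT x hx) htP] at h3
      exact hz₀1 (hw₁i z₀ hz₀ h3)
  -- every value is an action of an element of `E`
  have horb : ∀ y ∈ Z, y ≠ 1 → ∃ m ∈ E, act m z₀ = y := by
    intro y hy hy1
    let f : ↥Z → ↥Z := fun x => ⟨ψ x, hψZ x x.2⟩
    have hf : Function.Injective f := by
      intro a b hab
      have h1 : ψ a = ψ b := congrArg Subtype.val hab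
      have h2 : ψ ((a : G) * b) = 1 := by
        rw [hψmul _ a.2 _ b.2, h1, hex _ (hψZ b b.2)]
      exact Subtype.ext ((eq_inv_of_mul_eq_one_left (hψ1 _ (Z.mul_mem a.2 b.2) h2)).trans (hex.inv b.2))
    obtain ⟨x, hx⟩ := Finite.injective_iff_surjective.1 hf ⟨y, hy⟩
    have hx' : ψ x = y := congrArg Subtype.val hx
    have htP : w₂ * (x : G) * w₂⁻¹ ∉ A.P₁ := by
      intro htP
      have : (x : G) = 1 := hw₂i x x.2 ⟨htP, hwi₂ x x.2⟩
      refine hy1 (hx'.symm.trans ?_)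
      show w₂ * (x : G) * w₂⁻¹ * z₁ * (w₂ * (x : G) * w₂⁻¹)⁻¹ * z₁ = 1
      rw [this]
      simpa using A.ex₁ z₁ hz₁P
    obtain ⟨m, h1, h2, h3, h4⟩ := hbr _ (hxT x x.2) htP
    exact ⟨m, ⟨h1, h2, h3⟩, by rw [← hx']; exact (h4 z₀ hz₀).symm⟩
  -- the weight identity
  have hweight : ∀ m ∈ E, Odd (orderOf m) → ∀ x ∈ Z, ψ (act m⁻¹ x) = act (m * m) (ψ x) := by
    intro m hm ho x hx
    have hm2 : m ∈ A.X₂ := A.mem_X₂ hm.1 hm.2.1 ho
    obtain ⟨t, ht, n, hnX, hnT, hnT', rfl⟩ := hcov₂ m hm2 hm.2.1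
    set x' := w₂ * x * w₂⁻¹ with hx'
    have hw₂N : w₂ ∈ normalizer (A.P₂ : Set G) := A.h₂.le_norm hw₂X
    obtain ⟨p, hp, hpn⟩ : ∃ p ∈ A.P₂, w₂ * n * w₂⁻¹ = p * n⁻¹ :=
      ⟨_, hinv₂ n hnX hnT hnT', by group⟩
    obtain ⟨p₂, hp₂, hpn'⟩ : ∃ p₂ ∈ A.P₂, n * w₂ = w₂ * (p₂ * n⁻¹) := by
      refine ⟨w₂⁻¹ * n * w₂ * n, ?_, by group⟩
      have h6 := hinv₂ n hnX hnT hnT'
      have hnN : n ∈ normalizer (A.P₂ : Set G) := A.h₂.le_norm hnX
      have h7 : w₂⁻¹ * (n * (w₂ * n * w₂⁻¹ * n) * n⁻¹) * w₂ ∈ A.P₂ := by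
        have := inv_mem_of_conj_mem (inv_mem hw₂N) (inv_mem_of_conj_mem hnN h6)
        rwa [inv_inv] at this
      have h8 : w₂⁻¹ * (n * (w₂ * n * w₂⁻¹ * n) * n⁻¹) * w₂ = w₂⁻¹ * n * w₂ * n := by group
      rwa [h8] at h7
    set y := act n⁻¹ x with hy
    have hn1Z : y ∈ Z := hS₂.conj_Z (A.X₂.inv_mem hnX) (inv_mem hnT) hx
    have hxn : n * x' * n⁻¹ = w₂ * y * w₂⁻¹ := by
      calc n * x' * n⁻¹ = (n * w₂) * x * (n * w₂)⁻¹ := by rw [hx']; group
        _ = w₂ * (p₂ * y * p₂⁻¹) * w₂⁻¹ := by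
            rw [hpn']
            show w₂ * (p₂ * n⁻¹) * x * (w₂ * (p₂ * n⁻¹))⁻¹ =
              w₂ * (p₂ * (n⁻¹ * x * (n⁻¹)⁻¹) * p₂⁻¹) * w₂⁻¹
            group
        _ = w₂ * y * w₂⁻¹ := by rw [(A.ex₂.commute hp₂ hn1Z.2).eq, mul_inv_cancel_right]
    have hty : act (t * n)⁻¹ x = y := by
      show (t * n)⁻¹ * x * ((t * n)⁻¹)⁻¹ = n⁻¹ * x * (n⁻¹)⁻¹
      rw [show (t * n)⁻¹ * x * ((t * n)⁻¹)⁻¹ = n⁻¹ * (t⁻¹ * x * t) * n by group,
        (A.commute_Z hx (A.T.inv_mem ht)).eq, inv_mul_cancel_right, inv_inv]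
    rw [hty]
    set u := w₂ * y * w₂⁻¹ with hu
    have huT : u ∈ A.T := hxT _ hn1Z
    have htu : (t * n) * x' * (t * n)⁻¹ = (t * u * t⁻¹ * u) * u := by
      rw [show (t * n) * x' * (t * n)⁻¹ = t * (n * x' * n⁻¹) * t⁻¹ by group, hxn,
        mul_assoc (t * u * t⁻¹), A.ex₂ u (hwi₂ _ hn1Z), mul_one]
    have hcZ : t * u * t⁻¹ * u ∈ Z := hS₂.comm_mem ht (hwi₂ _ hn1Z)
    have hφ : φ ((t * n) * x' * (t * n)⁻¹) = φ u := by
      rw [htu, hφmul _ (A.h₁.le_syl A.hT₁ hcZ.1) _ huT]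
      have : φ (t * u * t⁻¹ * u) = 1 := by
        show (t * u * t⁻¹ * u) * z₁ * (t * u * t⁻¹ * u)⁻¹ * z₁ = 1
        rw [(A.ex₁.commute hcZ.1 hz₁P).eq, mul_inv_cancel_right, A.ex₁ z₁ hz₁P]
      rw [this, mul_one]
    show φ u = _
    rw [← hφ]
    generalize hm0 : t * n = m at hm ho ⊢
    obtain ⟨r, hr, hrm⟩ : ∃ r ∈ A.P₁, m⁻¹ * w₁ = w₁ * (r * m) := by
      refine ⟨w₁⁻¹ * m⁻¹ * w₁ * m⁻¹, ?_, by group⟩
      have h6 := hinv₁ m hm.1 hm.2.1 hm.2.2
      have hwN : w₁ ∈ normalizer (A.P₁ : Set G) := A.h₁.le_norm hw₁X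
      have h7 : w₁⁻¹ * (w₁ * m * w₁⁻¹ * m)⁻¹ * w₁ ∈ A.P₁ := by
        have := inv_mem_of_conj_mem (inv_mem hwN) (A.P₁.inv_mem h6)
        rwa [inv_inv] at this
      have h8 : w₁⁻¹ * (w₁ * m * w₁⁻¹ * m)⁻¹ * w₁ = w₁⁻¹ * m⁻¹ * w₁ * m⁻¹ := by group
      rwa [h8] at h7
    have hy2 : act m z₀ ∈ Z := hactZ m hm _ hz₀
    have hm1 : m⁻¹ * z₁ * m = w₁ * act m z₀ * w₁⁻¹ := by
      calc m⁻¹ * z₁ * m = (m⁻¹ * w₁) * z₀ * (m⁻¹ * w₁)⁻¹ := by rw [hz₁]; group
        _ = w₁ * (r * act m z₀ * r⁻¹) * w₁⁻¹ := by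
            rw [hrm]
            show w₁ * (r * m) * z₀ * (w₁ * (r * m))⁻¹ = w₁ * (r * (m * z₀ * m⁻¹) * r⁻¹) * w₁⁻¹
            group
        _ = _ := by rw [(A.ex₁.commute hr hy2.1).eq, mul_inv_cancel_right]
    have key : φ (m * x' * m⁻¹) =
        act m (x' * (w₁ * act m z₀ * w₁⁻¹) * x'⁻¹ * (w₁ * act m z₀ * w₁⁻¹)) := by
      rw [← hm1]
      show m * x' * m⁻¹ * z₁ * (m * x' * m⁻¹)⁻¹ * z₁ =
        m * (x' * (m⁻¹ * z₁ * m) * x'⁻¹ * (m⁻¹ * z₁ * m)) * m⁻¹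
      group
    rw [key]
    by_cases htP : x' ∈ A.P₁
    · have hx1 : x = 1 := hw₂i x hx ⟨htP, hwi₂ x hx⟩
      have hx'1 : x' = 1 := by rw [hx', hx1]; group
      rw [hx'1, show ψ x = 1 from by
        show φ x' = 1
        rw [hx'1]
        show (1 : G) * z₁ * 1⁻¹ * z₁ = 1
        simpa using A.ex₁ z₁ hz₁P, one_mul, inv_one, mul_one, A.ex₁ _ (hwi₁ _ hy2)]
      show m * 1 * m⁻¹ = m * m * 1 * (m * m)⁻¹
      group
    · obtain ⟨k, h1, h2, h3, h4⟩ := hbr x' (hxT x hx) htP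
      rw [h4 _ hy2, show ψ x = act k z₀ from h4 z₀ hz₀]
      show act m (act k (act m z₀)) = act (m * m) (act k z₀)
      rw [hact, hcomm k ⟨h1, h2, h3⟩ m hm z₀ hz₀]
  -- every nontrivial value has `α³ = 1`
  have hodd : ∀ m ∈ E, ∃ n ∈ E, Odd (orderOf n) ∧ ∀ z ∈ Z, act n z = act m z := by
    intro m hm
    obtain ⟨a, j, hj, hnj⟩ := Nat.exists_eq_two_pow_mul_odd (orderOf_pos m).ne'
    obtain ⟨c, d, hcd⟩ : IsCoprime ((2 ^ a : ℕ) : ℤ) (j : ℤ) :=
      Nat.isCoprime_iff_coprime.2 ((Nat.coprime_two_left.2 hj).pow_left a)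
    set n := (m ^ (2 ^ a)) ^ c with hn
    set s := (m ^ j) ^ d with hs
    have hnj1 : n ^ j = 1 := by
      rw [hn, ← zpow_natCast, ← zpow_mul, mul_comm, zpow_mul, zpow_natCast, ← pow_mul, ← hnj,
        pow_orderOf_eq_one, one_zpow]
    have hs1 : s ^ (2 ^ a) = 1 := by
      rw [hs, ← zpow_natCast, ← zpow_mul, mul_comm, zpow_mul, zpow_natCast, ← pow_mul, mul_comm,
        ← hnj, pow_orderOf_eq_one, one_zpow]
    have hsT : s ∈ A.T := A.hT₁.mem_of_normalizes (zpow_mem (pow_mem hm.1 _) _)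
      (zpow_mem (pow_mem hm.2.1 _) _) hs1
    have hns : m = n * s := by
      rw [hn, hs, ← zpow_natCast m (2 ^ a), ← zpow_natCast m j, ← zpow_mul, ← zpow_mul, ← zpow_add,
        mul_comm ((2 ^ a : ℕ) : ℤ), mul_comm (j : ℤ), hcd, zpow_one]
    refine ⟨n, ⟨zpow_mem (pow_mem hm.1 _) _, zpow_mem (pow_mem hm.2.1 _) _,
      zpow_mem (pow_mem hm.2.2 _) _⟩, hj.of_dvd_nat (orderOf_dvd_of_pow_eq_one hnj1), fun z hz => ?_⟩
    rw [hns, hact]
    congr 1
    show z = s * z * s⁻¹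
    rw [(hS₁.comm z hz s hsT).eq, mul_inv_cancel_right]
  have hactdef : ∀ m z : G, act m z = m * z * m⁻¹ := fun _ _ => rfl
  have hcZ : ∀ x ∈ Z, ∀ y ∈ Z, x * y = y * x := fun x hx y hy => (hex.commute hx hy).eq
  have hact1 : ∀ z : G, act 1 z = z := fun z => by show 1 * z * 1⁻¹ = z; group
  clear_value act
  have hcancel : ∀ m x : G, act m⁻¹ (act m x) = x := fun m x => by
    rw [← hact, inv_mul_cancel, hact1]
  have hψ0 : ψ z₀ ≠ 1 := fun e => hz₀1 (hψ1 z₀ hz₀ e)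
  obtain ⟨γ, hγ, hγψ⟩ := horb _ (hψZ z₀ hz₀) hψ0
  have hneg : ∀ α ∈ E, Odd (orderOf α) → ψ (act α z₀) = act γ (act α⁻¹ (act α⁻¹ z₀)) := by
    intro α hα ho
    have h1 := hweight _ (hEinv α hα) (by rwa [orderOf_inv]) z₀ hz₀
    rw [inv_inv] at h1
    rw [h1, ← hγψ, hact, hcomm _ (hEinv α hα) γ hγ z₀ hz₀,
      hcomm _ (hEinv α hα) γ hγ _ (hactZ _ (hEinv α hα) _ hz₀)]
  have hthree : ∀ m ∈ E, act m z₀ ≠ z₀ →
      act m (act m (act m z₀)) = z₀ ∧ act m (act m z₀) = z₀ * act m z₀ := by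
    intro m hm hne
    obtain ⟨α, hα, hαo, hαm⟩ := hodd m hm
    have hαZ : act α z₀ ∈ Z := hactZ α hα _ hz₀
    rw [← hαm z₀ hz₀] at hne ⊢
    rw [← hαm _ hαZ, ← hαm _ (hactZ α hα _ hαZ)]
    have hne1 : z₀ * act α z₀ ≠ 1 := fun e => hne
      ((eq_inv_of_mul_eq_one_right e).trans (hex.inv hz₀))
    obtain ⟨δ', hδ', hδ'z⟩ := horb _ (Z.mul_mem hz₀ hαZ) hne1
    obtain ⟨δ, hδ, hδo, hδδ'⟩ := hodd δ' hδ'
    have hδz : act δ z₀ = z₀ * act α z₀ := (hδδ' z₀ hz₀).trans hδ'z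
    have hαi := hEinv α hα
    have hδi := hEinv δ hδ
    set b := act α⁻¹ (act α⁻¹ z₀) with hb
    have hbZ : b ∈ Z := hactZ _ hαi _ (hactZ _ hαi _ hz₀)
    -- `δ⁻²` maps `z₀` to `z₀ b`
    have h1 : act δ⁻¹ (act δ⁻¹ z₀) = z₀ * b := by
      have h2 : act γ (act δ⁻¹ (act δ⁻¹ z₀)) = act γ (z₀ * b) := by
        rw [← hneg δ hδ hδo, hδz, hψmul _ hz₀ _ hαZ, hneg α hα hαo, hact', hb, hγψ]
      have h3 := congrArg (act γ⁻¹) h2
      rwa [hcancel, hcancel] at h3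
    set c := act α (act α z₀) with hc
    have hcZ' : c ∈ Z := hactZ _ hα _ hαZ
    have h4 : act δ (act δ z₀) = z₀ * c := by
      rw [hδz, hact', hcomm δ hδ α hα z₀ hz₀, hδz, hact', ← hc, mul_assoc, ← mul_assoc (act α z₀),
        hex _ hαZ, one_mul]
    have h5 : act δ (act δ b) = b * z₀ := by
      rw [hb, hcomm δ hδ _ hαi _ (hactZ _ hαi _ hz₀), hcomm δ hδ _ hαi z₀ hz₀,
        hcomm δ hδ _ hαi _ (hactZ _ hαi _ (hactZ δ hδ _ hz₀)),
        hcomm δ hδ _ hαi _ (hactZ δ hδ _ hz₀), h4, hact', hact', ← hb, hc, hcancel, hcancel]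
    have h6 : z₀ = z₀ * c * (b * z₀) := by
      have h7 := congrArg (fun y => act δ (act δ y)) h1
      have hδδ : ∀ x, act δ (act δ⁻¹ x) = x := fun x => by rw [← hact, mul_inv_cancel, hact1]
      simpa only [hδδ, hact', h4, h5] using h7
    have h8 : c = z₀ * b := by
      rw [hcZ b hbZ z₀ hz₀, ← mul_assoc, mul_assoc z₀ c, hcZ c hcZ' z₀ hz₀, ← mul_assoc, hex _ hz₀,
        one_mul] at h6
      rw [h6, mul_assoc, hex _ hbZ, mul_one]
    have hαc : ∀ x, act α (act α⁻¹ x) = x := fun x => by rw [← hact, mul_inv_cancel, hact1]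
    -- `β = α²` satisfies `β² z₀ = z₀ · β z₀`
    have h9 : act α (act α c) = c * z₀ := by
      have h10 := congrArg (fun y => act α (act α y)) h8
      simpa only [hact', hb, hαc, ← hc] using h10
    have h11 : act α (act α (act α (act α c))) = z₀ := by
      rw [h9, hact', hact', h9, ← hc, hcZ c hcZ' z₀ hz₀, mul_assoc, hex _ hcZ', mul_one]
    set e := α * α * α with he
    have he6 : act (e * e) z₀ = z₀ := by
      rw [hc] at h11
      simpa only [← hact, he, mul_assoc] using h11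
    have hee : Commute (e * e) z₀ := mul_inv_eq_iff_eq_mul.1 ((hactdef _ _).symm.trans he6)
    have hee' : Commute e z₀ := by
      obtain ⟨r, hr⟩ := hαo
      have h12 : e = (e * e) ^ (r + 1) := by
        have h13 : e ^ (2 * r + 1) = 1 := by
          rw [he, show α * α * α = α ^ 3 by rw [pow_succ, pow_two], ← pow_mul, mul_comm, pow_mul, ← hr,
            pow_orderOf_eq_one, one_pow]
        rw [← pow_two, ← pow_mul, show 2 * (r + 1) = (2 * r + 1) + 1 by ring, pow_succ, h13, one_mul]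
      rw [h12]
      exact hee.pow_left _
    have h14 : act α c = z₀ := by
      rw [hc, ← hact, ← hact, ← he]
      rw [hactdef]
      exact mul_inv_eq_iff_eq_mul.2 hee'.eq
    refine ⟨h14, ?_⟩
    rw [h14] at h9
    calc c = z₀ * (c * z₀) := by
          rw [hcZ c hcZ' z₀ hz₀, ← mul_assoc, hex _ hz₀, one_mul]
      _ = z₀ * act α z₀ := by rw [← h9]
  -- `Z` consists of `1` and at most one orbit of length three
  by_cases hfix : ∀ m ∈ E, act m z₀ = z₀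
  · have hle : (Z : Set G) ⊆ {1, z₀} := by
      intro y hy
      by_cases hy1 : y = 1
      · exact Or.inl hy1
      · obtain ⟨m, hm, rfl⟩ := horb y hy hy1
        exact Or.inr (hfix m hm)
    have h := Set.ncard_le_ncard hle
    rw [← Nat.card_coe_set_eq] at h
    have h2 := Set.ncard_insert_le (1 : G) {z₀}
    rw [Set.ncard_singleton] at h2
    have hcard : Nat.card ↥Z = A.q := A.cardZ
    show A.q ≤ 4
    simp only [SetLike.coe_sort_coe] at h
    omega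
  push Not at hfix
  obtain ⟨a, ha, haz⟩ := hfix
  obtain ⟨ha3, ha2⟩ := hthree a ha haz
  set p := act a z₀ with hp
  have hpZ : p ∈ Z := hactZ a ha _ hz₀
  have hle : (Z : Set G) ⊆ {1, z₀, p, act a p} := by
    intro y hy
    by_cases hy1 : y = 1
    · exact Or.inl hy1
    refine Or.inr ?_
    obtain ⟨b, hb, rfl⟩ := horb y hy hy1
    by_cases hbz : act b z₀ = z₀
    · exact Or.inl hbz
    refine Or.inr ?_
    obtain ⟨-, hb2⟩ := hthree b hb hbz
    have hbZ : act b z₀ ∈ Z := hactZ b hb _ hz₀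
    by_cases hab : act (a * b) z₀ = z₀
    · refine Or.inr ?_
      show act b z₀ = act a p
      have h1 := congrArg (act a⁻¹) hab
      rw [hact, hcancel] at h1
      exact h1.trans ((congrArg (act a⁻¹) ha3).symm.trans (hcancel a (act a p)))
    · refine Or.inl ?_
      obtain ⟨-, hab2⟩ := hthree _ (hEmul a ha b hb) hab
      have h1 : act (a * b) (act (a * b) z₀) = act a p * act a (act a (act b z₀)) := by
        rw [hact, hact, hcomm b hb a ha _ hbZ, hb2, hact', hact']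
      rw [h1] at hab2
      have h2 : act b p = act a (act b z₀) := hcomm b hb a ha z₀ hz₀
      have h3 : act b (act a p) = act a (act a (act b z₀)) := by
        rw [hp, hcomm b hb a ha p hpZ, hcomm b hb a ha z₀ hz₀]
      have h4 : act b (z₀ * (p * act a p)) = 1 := by
        rw [ha2, ← mul_assoc p, hcZ p hpZ z₀ hz₀, mul_assoc z₀ p p, hex _ hpZ, mul_one, hex _ hz₀]
        rw [hactdef]
        group
      rw [hact', hact', h2, h3] at h4
      rw [hact a b z₀] at hab2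
      set u := act a (act b z₀) with hu
      set v := act a u with hv
      have huZ : u ∈ Z := hactZ a ha _ hbZ
      have hvZ : v ∈ Z := hactZ a ha _ huZ
      -- `hab2 : a²z₀ · v = z₀ · u` and `h4 : bz₀ · (u · v) = 1`
      have h5 : act b z₀ = u * v :=
        (eq_inv_of_mul_eq_one_left h4).trans (hex.inv (Z.mul_mem huZ hvZ))
      show act b z₀ = p
      rw [h5]
      have h6 : u * v = z₀ * act a p := by
        calc u * v = z₀ * (z₀ * u) * v := by rw [← mul_assoc, hex _ hz₀, one_mul]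
          _ = z₀ * (act a p * v) * v := by rw [hab2]
          _ = z₀ * act a p := by rw [mul_assoc z₀, mul_assoc (act a p), hex _ hvZ, mul_one]
      rw [h6, ha2, ← mul_assoc, hex _ hz₀, one_mul]
  have h := Set.ncard_le_ncard hle
  rw [← Nat.card_coe_set_eq] at h
  have h2 := Set.ncard_insert_le (1 : G) {z₀, p, act a p}
  have h3 := Set.ncard_insert_le z₀ {p, act a p}
  have h4 := Set.ncard_insert_le p {act a p}
  rw [Set.ncard_singleton] at h4
  have hcard : Nat.card ↥Z = A.q := A.cardZ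
  show A.q ≤ 4
  simp only [SetLike.coe_sort_coe] at h
  omega

end Loc

end Cfsg.Agent.H65.CIT
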