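import Mathlib

/-!
Witt vectors of length two over a perfect ring of characteristic two, as pairs.
-/

set_option autoImplicit false
set_option linter.unusedSectionVars false

namespace Cfsg.Agent.H65.CIT

universe u

/-- Pairs `(x, y)` representing `τ x + 2 τ √y`. -/
@[ext] structure Witt2 (F : Type u) where
  /-- The residue. -/
  x : F
  /-- The carry coordinate. -/
  y : F
deriving DecidableEq

namespace Witt2

variable {F : Type u} [CommRing F] [hF : CharP F 2]

instance : Zero (Witt2 F) := ⟨⟨0, 0⟩⟩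
instance : One (Witt2 F) := ⟨⟨1, 0⟩⟩
instance : Add (Witt2 F) := ⟨fun a b => ⟨a.x + b.x, a.y + b.y + a.x * b.x⟩⟩
instance : Neg (Witt2 F) := ⟨fun a => ⟨a.x, a.y + a.x * a.x⟩⟩
instance : Mul (Witt2 F) := ⟨fun a b => ⟨a.x * b.x, a.x * a.x * b.y + a.y * (b.x * b.x)⟩⟩

@[simp] theorem zero_x : (0 : Witt2 F).x = 0 := rfl
@[simp] theorem zero_y : (0 : Witt2 F).y = 0 := rfl
@[simp] theorem one_x : (1 : Witt2 F).x = 1 := rfl
@[simp] theorem one_y : (1 : Witt2 F).y = 0 := rfl
@[simp] theorem add_x (a b : Witt2 F) : (a + b).x = a.x + b.x := rfl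
@[simp] theorem add_y (a b : Witt2 F) : (a + b).y = a.y + b.y + a.x * b.x := rfl
@[simp] theorem neg_x (a : Witt2 F) : (-a).x = a.x := rfl
@[simp] theorem neg_y (a : Witt2 F) : (-a).y = a.y + a.x * a.x := rfl
@[simp] theorem mul_x (a b : Witt2 F) : (a * b).x = a.x * b.x := rfl
@[simp] theorem mul_y (a b : Witt2 F) : (a * b).y = a.x * a.x * b.y + a.y * (b.x * b.x) := rfl

instance : CommRing (Witt2 F) where
  add_assoc a b c := by ext <;> simp <;> ring
  zero_add a := by ext <;> simp
  add_zero a := by ext <;> simp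
  add_comm a b := by ext <;> simp <;> ring
  left_distrib a b c := by
    ext <;> simp
    · ring
    · linear_combination (a.y * b.x * c.x) * (CharTwo.two_eq_zero : (2 : F) = 0)
  right_distrib a b c := by
    ext <;> simp
    · ring
    · linear_combination (a.x * b.x * c.y) * (CharTwo.two_eq_zero : (2 : F) = 0)
  zero_mul a := by ext <;> simp
  mul_zero a := by ext <;> simp
  mul_assoc a b c := by ext <;> simp <;> ring
  one_mul a := by ext <;> simp
  mul_one a := by ext <;> simp
  mul_comm a b := by ext <;> simp <;> ring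
  neg_add_cancel a := by
    ext <;> simp [CharTwo.add_self_eq_zero]
    linear_combination (a.y + a.x * a.x) * (CharTwo.two_eq_zero : (2 : F) = 0)
  nsmul := nsmulRec
  zsmul := zsmulRec

/-- The multiplicative section. -/
def tau : F →* Witt2 F where
  toFun a := ⟨a, 0⟩
  map_one' := rfl
  map_mul' a b := by ext <;> simp

/-- The residue map. -/
def res : Witt2 F →+* F where
  toFun a := a.x
  map_one' := rfl
  map_mul' _ _ := rfl
  map_zero' := rfl
  map_add' _ _ := rfl

@[simp] theorem res_tau (a : F) : res (tau a) = a := rfl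

@[simp] theorem tau_x (a : F) : (tau a).x = a := rfl
@[simp] theorem tau_y (a : F) : (tau a).y = 0 := rfl

theorem tau_zero : tau (0 : F) = 0 := rfl

theorem two_eq : (2 : Witt2 F) = ⟨0, 1⟩ := by
  rw [← one_add_one_eq_two]
  ext <;> simp [CharTwo.add_self_eq_zero]

theorem two_mul_eq (a : Witt2 F) : 2 * a = ⟨0, a.x * a.x⟩ := by
  rw [two_eq]; ext <;> simp

theorem four_eq_zero : (4 : Witt2 F) = 0 := by
  rw [show (4 : Witt2 F) = 2 * 2 by norm_num, two_mul_eq, two_eq]
  ext <;> simp

theorem tau_add_sq (a b : F) :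
    tau ((a + b) * (a + b)) = tau (a * a) + tau (b * b) + 2 * tau (a * b) := by
  rw [two_mul_eq]
  ext <;> simp
  · linear_combination a * b * (CharTwo.two_eq_zero : (2 : F) = 0)
  · linear_combination (-(a * b * (a * b))) * (CharTwo.two_eq_zero : (2 : F) = 0)

theorem two_mul_congr {a b : Witt2 F} (h : a.x = b.x) : 2 * a = 2 * b := by
  rw [two_mul_eq, two_mul_eq, h]

theorem exists_two_mul [hP : Fact (Function.Surjective fun c : F => c * c)] {a : Witt2 F} (h : a.x = 0) :
    ∃ b, a = 2 * b := by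
  obtain ⟨c, hc⟩ := hP.out a.y
  exact ⟨tau c, by rw [two_mul_eq]; ext <;> simp [h, hc]⟩

/-- The pairs form a finite type. -/
def equivProd : Witt2 F ≃ F × F where
  toFun a := (a.x, a.y)
  invFun p := ⟨p.1, p.2⟩
  left_inv _ := rfl
  right_inv _ := rfl

instance [Finite F] : Finite (Witt2 F) := Finite.of_equiv _ (equivProd (F := F)).symm

theorem isUnit_of_res {F : Type u} [Field F] [CharP F 2] {a : Witt2 F} (h : a.x ≠ 0) : IsUnit a := by
  refine IsUnit.of_mul_eq_one ⟨a.x⁻¹, a.y * (a.x⁻¹ * a.x⁻¹) * (a.x⁻¹ * a.x⁻¹)⟩ ?_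
  ext
  · simp [h]
  · simp only [mul_y, one_y]
    field_simp
    linear_combination a.y * (CharTwo.two_eq_zero : (2 : F) = 0)

end Witt2

end Cfsg.Agent.H65.CIT
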